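import Cfsg.Agent.E8Three.Small.FixTools

/-!
Sums of translates of a fixed vector which are fixed by a second subgroup.
-/

set_option autoImplicit false
set_option linter.style.haveILetI false
set_option linter.unusedSectionVars false

namespace CfsgLib.E8Three.Small

open Matrix

variable {I : Type} [Fintype I] [DecidableEq I] {G : Type*} [Group G] (ρ : G →* GL I (ZMod 3))

/-- The sum of translates of a vector, as a linear map. -/
def sumMap (Z : List G) : (I → ZMod 3) →ₗ[ZMod 3] (I → ZMod 3) :=
  Matrix.mulVecLin ((Z.map fun z => (ρ z : Matrix I I (ZMod 3))).sum)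

theorem sumMap_apply (Z : List G) (v : I → ZMod 3) :
    sumMap ρ Z v = (Z.map fun z => (ρ z : Matrix I I (ZMod 3)) *ᵥ v).sum :=
  (Matrix.mulVecLin_apply _ _).trans (mulVec_list_sum _ _ _)

/-- If the generators permute the translates up to a subgroup fixing the vector, their sum is
fixed. -/
theorem sumMap_mem {ι : Type*} {S : Subgroup G} {v : I → ZMod 3} (hv : v ∈ fixSub ρ S)
    (gen : ι → G) (Z : List G)
    (h : ∀ i, ∃ Z' : List G, Z'.Perm Z ∧
      List.Forall₂ (fun z z' => ∃ m ∈ S, ρ (gen i * z) = ρ (z' * m)) Z Z') :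
    sumMap ρ Z v ∈ fixSub ρ (Subgroup.closure (Set.range gen)) := by
  refine (mem_fixSub ρ).mpr fun a ha => ?_
  induction ha using Subgroup.closure_induction with
  | mem x hx =>
    obtain ⟨i, rfl⟩ := hx
    obtain ⟨Z', hp, hf⟩ := h i
    have key : ∀ A B : List G, List.Forall₂ (fun z z' => ∃ m ∈ S, ρ (gen i * z) = ρ (z' * m)) A B →
        (ρ (gen i) : Matrix I I (ZMod 3)) *ᵥ sumMap ρ A v = sumMap ρ B v := by
      intro A B hAB
      induction hAB with
      | nil => simp [sumMap_apply]
      | @cons z z' A B hz _ ih =>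
        obtain ⟨m, hm, e⟩ := hz
        simp only [sumMap_apply, List.map_cons, List.sum_cons, Matrix.mulVec_add,
          Matrix.mulVec_mulVec] at ih ⊢
        rw [ih, ← Units.val_mul, ← map_mul, e, map_mul, Units.val_mul, ← Matrix.mulVec_mulVec,
          (mem_fixSub ρ).mp hv m hm]
    rw [key Z Z' hf, sumMap_apply, sumMap_apply]
    exact (hp.map _).sum_eq
  | one => simp
  | mul x y _ _ hx hy => rw [map_mul, Units.val_mul, ← Matrix.mulVec_mulVec, hy, hx]
  | inv x _ hx =>
    have := congrArg (fun w => ((ρ x⁻¹ : GL I (ZMod 3)) : Matrix I I (ZMod 3)) *ᵥ w) hx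
    simp only [Matrix.mulVec_mulVec, ← Units.val_mul, ← map_mul, inv_mul_cancel, map_one,
      Units.val_one, Matrix.one_mulVec] at this
    exact this.symm

/-- A linear map into a smaller fixed space has a kernel. -/
theorem exists_ker {S T : Subgroup G} (Z : List G)
    (hmem : ∀ v ∈ fixSub ρ S, sumMap ρ Z v ∈ fixSub ρ T)
    (hlt : Module.finrank (ZMod 3) (fixSub ρ T) < Module.finrank (ZMod 3) (fixSub ρ S)) :
    ∃ v ∈ fixSub ρ S, v ≠ 0 ∧ sumMap ρ Z v = 0 := by
  haveI : Fact (Nat.Prime 3) := ⟨Nat.prime_three⟩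
  let f : fixSub ρ S →ₗ[ZMod 3] fixSub ρ T := (sumMap ρ Z).restrict hmem
  obtain ⟨v, hv⟩ : ∃ v, v ∈ LinearMap.ker f ∧ v ≠ 0 := by
    refine Submodule.exists_mem_ne_zero_of_ne_bot fun hb => ?_
    exact absurd (LinearMap.finrank_le_finrank_of_injective (LinearMap.ker_eq_bot.mp hb))
      (Nat.not_le.mpr hlt)
  exact ⟨v.1, v.2, fun h => hv.2 (Subtype.ext h), congrArg Subtype.val (LinearMap.mem_ker.mp hv.1)⟩

/-- A one-sided certificate for the injectivity of sums of translates of a fixed vector. -/
theorem eq_zero_of_cosets {v : I → ZMod 3} {S : Subgroup G} (hv : v ∈ fixSub ρ S)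
    (reps : ℕ → G) (hr : ρ (reps 0) = 1) (M : ℕ) (terms : List (ZMod 3 × G × List (G × ℕ)))
    (hann : ∀ t ∈ terms, sumMap ρ (t.2.2.map fun x => x.1) v = 0)
    (hlab : ∀ t ∈ terms, ∀ x ∈ t.2.2, x.2 < M ∧ ∃ m ∈ S, ρ (t.2.1 * x.1) = ρ (reps x.2 * m))
    (hco : ∀ k < M, (terms.map fun t => t.1 * ((t.2.2.countP fun x => x.2 == k : ℕ) : ZMod 3)).sum =
      if k = 0 then 1 else 0) (hM : 0 < M) : v = 0 := by
  classical
  set F : ℕ → (I → ZMod 3) := fun k => (ρ (reps k) : Matrix I I (ZMod 3)) *ᵥ v
  have hterm : ∀ t ∈ terms, (t.2.2.map fun x => F x.2).sum = 0 := by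
    intro t ht
    have h := congrArg (Matrix.mulVecLin (ρ t.2.1 : Matrix I I (ZMod 3))) (hann t ht)
    rw [map_zero, sumMap_apply, map_list_sum, List.map_map, List.map_map] at h
    rw [← h]
    refine congrArg List.sum (List.map_congr_left fun x hx => ?_)
    obtain ⟨-, m, hm, e⟩ := hlab t ht x hx
    simp only [Function.comp_apply, Matrix.mulVecLin_apply, F, Matrix.mulVec_mulVec]
    rw [← Units.val_mul, ← map_mul, e, map_mul, Units.val_mul, ← Matrix.mulVec_mulVec,
      (mem_fixSub ρ).mp hv m hm]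
  have hcount : ∀ l : List (G × ℕ), (∀ x ∈ l, x.2 < M) → (l.map fun x => F x.2).sum =
      ∑ k ∈ Finset.range M, ((l.countP fun x => x.2 == k : ℕ) : ZMod 3) • F k := by
    intro l
    induction l with
    | nil => simp
    | cons x l ih =>
      intro hl
      rw [List.map_cons, List.sum_cons, ih fun z hz => hl z (List.mem_cons_of_mem _ hz)]
      simp only [List.countP_cons, Nat.cast_add, add_smul, Finset.sum_add_distrib]
      rw [add_comm]
      congr 1
      rw [Finset.sum_eq_single x.2 (fun k _ hk => by simp [Ne.symm hk])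
        fun h => absurd (Finset.mem_range.mpr (hl x List.mem_cons_self)) h]
      simp
  have hswap : ∀ ts : List (ZMod 3 × G × List (G × ℕ)), (∀ t ∈ ts, t ∈ terms) →
      ∑ k ∈ Finset.range M, (ts.map fun t =>
        t.1 * ((t.2.2.countP fun x => x.2 == k : ℕ) : ZMod 3)).sum • F k = 0 := by
    intro ts
    induction ts with
    | nil => simp
    | cons t ts ih =>
      intro h
      simp only [List.map_cons, List.sum_cons, add_smul, Finset.sum_add_distrib, mul_smul]
      rw [ih fun z hz => h z (List.mem_cons_of_mem _ hz), add_zero, ← Finset.smul_sum,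
        ← hcount _ fun x hx => (hlab t (h t List.mem_cons_self) x hx).1,
        hterm t (h t List.mem_cons_self), smul_zero]
  have h0 := hswap terms fun t ht => ht
  rw [Finset.sum_congr rfl fun k hk => by rw [hco k (Finset.mem_range.mp hk)],
    Finset.sum_eq_single 0 (fun k _ hk => by rw [if_neg hk, zero_smul])
      (fun h => absurd (Finset.mem_range.mpr hM) h), if_pos rfl, one_smul] at h0
  simpa [F, hr] using h0

end CfsgLib.E8Three.Small
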