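import Mathlib

/-!
An integral matrix of size at most 8 and finite order has no eigenvalue of order 40 modulo 41.
-/

set_option autoImplicit false

namespace CfsgLib.E8Three.Small

open Polynomial

theorem no_root_mod {N : ℕ} (hN : 0 < N) {μ : ZMod 41} (hμ : orderOf μ = 40) :
    ∀ (d : ℕ) (p : ℤ[X]), p.Monic → p.natDegree = d → d ≤ 8 →
      (∀ z : ℂ, (p.map (Int.castRingHom ℂ)).IsRoot z → z ^ N = 1) →
      ¬ (p.map (Int.castRingHom (ZMod 41))).IsRoot μ := by
  intro d
  induction d using Nat.strong_induction_on with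
  | _ d ih =>
    intro p hp hd hle hroot hμr
    haveI : Fact (Nat.Prime 41) := ⟨by norm_num⟩
    rcases Nat.eq_zero_or_pos d with rfl | hd0
    · rw [hp.natDegree_eq_zero.mp hd, Polynomial.map_one, IsRoot.def, eval_one] at hμr
      exact one_ne_zero hμr
    have hdeg : (p.map (Int.castRingHom ℂ)).natDegree = d := by rw [hp.natDegree_map, hd]
    obtain ⟨z, hz⟩ := IsAlgClosed.exists_root (p.map (Int.castRingHom ℂ)) (by
      intro h
      have h' : (p.map (Int.castRingHom ℂ)).natDegree = 0 := natDegree_eq_of_degree_eq_some h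
      omega)
    have hzN := hroot z hz
    have hfin : IsOfFinOrder z := isOfFinOrder_iff_pow_eq_one.mpr ⟨N, hN, hzN⟩
    set o := orderOf z
    have ho : 0 < o := hfin.orderOf_pos
    have hprim : IsPrimitiveRoot z o := IsPrimitiveRoot.orderOf z
    have hdvd : cyclotomic o ℤ ∣ p := by
      rw [cyclotomic_eq_minpoly hprim ho]
      exact minpoly.isIntegrallyClosed_dvd (hprim.isIntegral ho) (by
        rwa [IsRoot.def, eval_map, ← algebraMap_int_eq, ← aeval_def] at hz)
    obtain ⟨q, hq⟩ := hdvd
    have hcm : (cyclotomic o ℤ).Monic := cyclotomic.monic o ℤ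
    have hqm : q.Monic := hcm.of_mul_monic_left (hq ▸ hp)
    have hdq : o.totient + q.natDegree = d := by
      rw [← hd, hq, hcm.natDegree_mul hqm, natDegree_cyclotomic]
    have hφ : 0 < o.totient := Nat.totient_pos.mpr ho
    rw [hq, Polynomial.map_mul, IsRoot.def, eval_mul, mul_eq_zero] at hμr
    rcases hμr with h | h
    · have h1 : μ ^ o = 1 := by
        rw [map_cyclotomic] at h
        have hdd := cyclotomic.dvd_X_pow_sub_one o (ZMod 41)
        obtain ⟨r, hr⟩ := hdd
        have := congrArg (eval μ) hr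
        rw [eval_sub, eval_pow, eval_X, eval_one, eval_mul, h, zero_mul, sub_eq_zero] at this
        exact this
      have h40 : 40 ∣ o := hμ ▸ orderOf_dvd_of_pow_eq_one h1
      have := Nat.le_of_dvd hφ (Nat.totient_dvd_of_dvd h40)
      have h16 : Nat.totient 40 = 16 := by decide +kernel
      omega
    · exact ih q.natDegree (by omega) q hqm rfl (by omega) (fun w hw => hroot w (by
        rw [hq, Polynomial.map_mul, IsRoot.def, eval_mul, hw, mul_zero])) h

/-- An integral matrix of finite order and size at most 8 has no eigenvalue of order 40 modulo 41. -/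
theorem no_eigen40 {r : ℕ} (hr : r ≤ 8) (M : Matrix (Fin r) (Fin r) ℤ) {N : ℕ} (hN : 0 < N)
    (hM : M ^ N = 1) {μ : ZMod 41} (hμ : orderOf μ = 40) {l : Fin r → ZMod 41} (hl : l ≠ 0)
    (he : Matrix.vecMul l (M.map (Int.castRingHom (ZMod 41))) = μ • l) : False := by
  haveI : Fact (Nat.Prime 41) := ⟨by norm_num⟩
  refine no_root_mod hN hμ r M.charpoly M.charpoly_monic (by simp [Matrix.charpoly_natDegree_eq_dim]) hr
    (fun z hz => ?_) ?_
  · rw [← Matrix.charpoly_map, IsRoot.def, Matrix.eval_charpoly] at hz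
    obtain ⟨v, hv, hvz⟩ := Matrix.exists_vecMul_eq_zero_iff.mpr hz
    set C := M.map (Int.castRingHom ℂ)
    rw [Matrix.vecMul_sub, sub_eq_zero, Matrix.scalar_apply] at hvz
    have hz' : Matrix.vecMul v C = z • v := by
      rw [← hvz]; funext i; simp [Matrix.vecMul_diagonal, mul_comm]
    have hk : ∀ k : ℕ, Matrix.vecMul v (C ^ k) = z ^ k • v := by
      intro k
      induction k with
      | zero => simp
      | succ k ih => rw [pow_succ, ← Matrix.vecMul_vecMul, ih, Matrix.smul_vecMul, hz', smul_smul,
          pow_succ]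
    have h1 := hk N
    rw [show C ^ N = 1 by
      rw [show C = (Int.castRingHom ℂ).mapMatrix M from rfl, ← map_pow, hM, map_one],
      Matrix.vecMul_one] at h1
    have h2 : (z ^ N - 1) • v = 0 := by rw [sub_smul, one_smul, ← h1, sub_self]
    exact sub_eq_zero.mp ((smul_eq_zero.mp h2).resolve_right hv)
  · rw [← Matrix.charpoly_map, IsRoot.def, Matrix.eval_charpoly]
    refine Matrix.exists_vecMul_eq_zero_iff.mp ⟨l, hl, ?_⟩
    rw [Matrix.vecMul_sub, he, sub_eq_zero, Matrix.scalar_apply]
    funext i
    simp [Matrix.vecMul_diagonal, mul_comm]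

end CfsgLib.E8Three.Small
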