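import Cfsg.Agent.Coprime.LiftFixedRank
import Cfsg.Agent.SL2Tensor.Complete
import Mathlib.LinearAlgebra.Matrix.Charpoly.Coeff

/-!
The dimension of the fixed space of a finite group of order prime to 3 acting over the prime field,
in terms of the fixed spaces of its elements.
-/

set_option autoImplicit false
set_option linter.style.haveILetI false
set_option linter.unusedSectionVars false

namespace CfsgLib.E8Three.Small

open Matrix Polynomial

variable {I : Type} [Fintype I] [DecidableEq I] {A : Type*} [Group A]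

/-- The fixed space of a representation. -/
def fixAll (ρ : A →* GL I (ZMod 3)) : Submodule (ZMod 3) (I → ZMod 3) where
  carrier := {v | ∀ a, (ρ a : Matrix I I (ZMod 3)) *ᵥ v = v}
  add_mem' := fun {v w} hv hw a => by rw [Matrix.mulVec_add, hv a, hw a]
  zero_mem' := fun _ => Matrix.mulVec_zero _
  smul_mem' := fun c v hv a => by rw [Matrix.mulVec_smul, hv a]

/-- The fixed space of a matrix. -/
def fixMat (M : Matrix I I (ZMod 3)) : Submodule (ZMod 3) (I → ZMod 3) :=
  LinearMap.ker (Matrix.toLin' M - LinearMap.id)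

theorem mem_fixMat {M : Matrix I I (ZMod 3)} {v : I → ZMod 3} : v ∈ fixMat M ↔ M *ᵥ v = v := by
  simp [fixMat, sub_eq_zero]

/-- The dimension of the fixed space of a matrix. -/
noncomputable def fixEl (M : Matrix I I (ZMod 3)) : ℕ := Module.finrank (ZMod 3) (fixMat M)

theorem fixMat_pow_le (x : GL I (ZMod 3)) (j : ℕ) :
    fixMat (x : Matrix I I (ZMod 3)) ≤ fixMat ((x ^ j : GL I (ZMod 3)) : Matrix I I (ZMod 3)) := by
  intro v hv
  rw [mem_fixMat] at hv ⊢
  induction j with
  | zero => simp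
  | succ j ih => rw [pow_succ, Units.val_mul, ← Matrix.mulVec_mulVec, hv, ih]

/-- The fixed space has the algebraic multiplicity of the eigenvalue one. -/
theorem fixEl_eq_count {K : Type*} [Field K] [Algebra (ZMod 3) K] [DecidableEq K]
    {x : GL I (ZMod 3)} {m : ℕ} (hm : ¬ 3 ∣ m) (hx : x ^ m = 1) :
    fixEl (x : Matrix I I (ZMod 3)) =
      ((x : Matrix I I (ZMod 3)).map (algebraMap (ZMod 3) K)).charpoly.roots.count 1 := by
  classical
  haveI : Fact (Nat.Prime 3) := ⟨Nat.prime_three⟩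
  set f := Matrix.toLin' (x : Matrix I I (ZMod 3))
  set W := fixMat (x : Matrix I I (ZMod 3))
  have hW : ∀ v ∈ W, f v = v := fun v hv => by
    rw [Matrix.toLin'_apply]; exact mem_fixMat.mp hv
  have hinv : ∀ v ∈ W, f v ∈ W := fun v hv => by rw [hW v hv]; exact hv
  have h1 := CfsgLib.SL2Tensor.charpoly_mapQ_mul f W hinv
  rw [show f.restrict hinv = LinearMap.id from
    LinearMap.ext fun v => Subtype.ext (by simp [hW v v.2]),
    show (LinearMap.id : W →ₗ[ZMod 3] W) = 1 from rfl, LinearMap.charpoly_one] at h1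
  set q : Module.End (ZMod 3) ((I → ZMod 3) ⧸ W) := W.mapQ W f hinv
  have hq : q.charpoly.eval 1 ≠ 0 := by
    intro h0
    have hh : q.HasEigenvalue 1 := (Module.End.hasEigenvalue_iff_isRoot_charpoly q 1).mpr h0
    obtain ⟨v, hv, hv0⟩ := hh.exists_hasEigenvector
    obtain ⟨v, rfl⟩ := Submodule.Quotient.mk_surjective W v
    rw [Module.End.mem_eigenspace_iff, one_smul, Submodule.mapQ_apply,
      Submodule.Quotient.eq] at hv
    have hp : ∀ j : ℕ, ((x ^ j : GL I (ZMod 3)) : Matrix I I (ZMod 3)) *ᵥ v =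
        v + (j : ZMod 3) • (f v - v) := by
      intro j
      induction j with
      | zero => simp
      | succ j ih =>
        rw [pow_succ', Units.val_mul, ← Matrix.mulVec_mulVec, ih, Matrix.mulVec_add,
          Matrix.mulVec_smul, mem_fixMat.mp hv, ← Matrix.toLin'_apply, Nat.cast_succ, add_smul,
          one_smul]
        abel
    have h2 := hp m
    rw [hx, Units.val_one, Matrix.one_mulVec, left_eq_add, smul_eq_zero] at h2
    rcases h2 with h2 | h2
    · exact hm ((ZMod.natCast_eq_zero_iff m 3).mp h2)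
    · exact hv0 ((Submodule.Quotient.mk_eq_zero W).mpr (mem_fixMat.mpr (by
        rw [← Matrix.toLin'_apply]; exact sub_eq_zero.mp h2)))
  rw [Matrix.charpoly_map, ← Matrix.charpoly_toLin', h1, Polynomial.map_mul, Polynomial.map_pow,
    Polynomial.map_sub, Polynomial.map_X, Polynomial.map_one, ← map_one (C : K →+* K[X]),
    Polynomial.roots_mul (mul_ne_zero (pow_ne_zero _ (X_sub_C_ne_zero _))
      (((LinearMap.charpoly_monic q).map _).ne_zero)),
    Multiset.count_add, Polynomial.roots_pow, Polynomial.roots_X_sub_C, Multiset.count_nsmul,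
    Multiset.count_singleton_self, mul_one, Multiset.count_eq_zero_of_notMem, add_zero]
  · rfl
  · intro h
    rw [Polynomial.mem_roots ((LinearMap.charpoly_monic q).map _).ne_zero, IsRoot.def,
      show (1 : K) = algebraMap (ZMod 3) K 1 from (map_one _).symm, Polynomial.eval_map_apply,
      map_eq_zero] at h
    exact hq h

/-- The exponents prime to `n`. -/
def cop (n : ℕ) : List ℕ := (List.range n).filter fun i => i.gcd n == 1

/-- The test for a list of divisors and coefficients which cuts out the exponents prime to `n`. -/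
def chkL (n : ℕ) (L : List (ℕ × ℤ)) : Bool :=
  L.all (fun p => p.1 != 0 && n % p.1 == 0) && (List.range n).all fun i =>
    (L.map fun p => if i % p.1 == 0 then p.2 else 0).sum == if i.gcd n == 1 then 1 else 0

/-- The averaged trace of an element. -/
noncomputable def cycT (n : ℕ) (L : List (ℕ × ℤ)) (ρ : A →* GL I (ZMod 3)) (a : A) : ℤ :=
  (L.map fun p => p.2 * ((n / p.1 : ℕ) : ℤ) * (fixEl ((ρ (a ^ p.1) : GL I (ZMod 3)) :
    Matrix I I (ZMod 3)) : ℤ)).sum

variable [Finite A]

theorem trace_pow_sum {N k : ℕ} (hk : k ≠ 0) [Fact (Nat.Prime 3)]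
    (ρ : A →* GL (Fin N) (ZMod 3))
    (σ : A →* GL (Fin N) (ZMod (3 ^ k)))
    (hσ : ∀ a, Coprime.Lift.red 3 N k hk (σ a) = ρ a) {b : A} {m : ℕ} (hm : 0 < m)
    (hm3 : ¬ 3 ∣ m) (hb : b ^ m = 1) :
    ∑ j ∈ Finset.range m, (σ (b ^ j) : Matrix (Fin N) (Fin N) (ZMod (3 ^ k))).trace =
      (m : ZMod (3 ^ k)) * (fixEl (ρ b : Matrix (Fin N) (Fin N) (ZMod 3)) : ZMod (3 ^ k)) := by
  classical
  haveI : NeZero m := ⟨hm.ne'⟩
  let ι : Multiplicative (ZMod m) →* A :=
    { toFun := fun x => b ^ (Multiplicative.toAdd x).val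
      map_one' := by simp
      map_mul' := fun x y => by
        rw [← pow_add, toAdd_mul, ZMod.val_add, ← pow_eq_pow_mod _ hb] }
  have h := Coprime.Lift.trace_average_lift (A := Multiplicative (ZMod m)) hk
    (by rw [Nat.card_congr Multiplicative.toAdd, Nat.card_zmod]; exact hm3)
    (ρ.comp ι) (σ.comp ι) (fun a => hσ _) ⊤
  rw [Subgroup.card_top, Nat.card_congr Multiplicative.toAdd, Nat.card_zmod] at h
  have hS : Coprime.Lift.fixSpace (ρ.comp ι) ⊤ = fixMat (ρ b : Matrix (Fin N) (Fin N) (ZMod 3)) := by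
    refine le_antisymm (fun v hv => mem_fixMat.mpr ?_) fun v hv a _ => ?_
    · have := hv (Multiplicative.ofAdd 1) (Subgroup.mem_top _)
      have e : ι (Multiplicative.ofAdd 1) = b := by
        show b ^ (1 : ZMod m).val = b
        rw [ZMod.val_one_eq_one_mod, ← pow_eq_pow_mod _ hb, pow_one]
      simpa [e] using this
    · show (ρ (b ^ _) : Matrix (Fin N) (Fin N) (ZMod 3)) *ᵥ v = v
      rw [map_pow]
      exact mem_fixMat.mp (fixMat_pow_le _ _ hv)
  rw [hS] at h
  rw [show (fixEl (ρ b : Matrix (Fin N) (Fin N) (ZMod 3))) =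
    Module.finrank (ZMod 3) (fixMat (ρ b : Matrix (Fin N) (Fin N) (ZMod 3))) from rfl, ← h,
    ← Fin.sum_univ_eq_sum_range
      (fun j => (σ (b ^ j) : Matrix (Fin N) (Fin N) (ZMod (3 ^ k))).trace)]
  refine Fintype.sum_equiv ((Equiv.ofBijective (fun i : Fin m => (i.val : ZMod m))
    ⟨fun i j e => Fin.ext (by
      have := congrArg ZMod.val e
      rwa [ZMod.val_cast_of_lt i.isLt, ZMod.val_cast_of_lt j.isLt] at this),
      fun x => ⟨⟨x.val, x.val_lt⟩, ZMod.natCast_zmod_val x⟩⟩).trans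
    (Multiplicative.ofAdd.trans Subgroup.topEquiv.symm.toEquiv)) _ _ fun i => ?_
  show _ = (σ (b ^ (i.val : ZMod m).val) : Matrix (Fin N) (Fin N) (ZMod (3 ^ k))).trace
  rw [ZMod.val_cast_of_lt i.isLt]

theorem fd_formula_fin [Fintype A] {N n : ℕ} {L : List (ℕ × ℤ)} (hL : chkL n L = true) (hn : ¬ 3 ∣ n)
    (hA : ¬ 3 ∣ Nat.card A) (ρ : A →* GL (Fin N) (ZMod 3)) (hexp : ∀ a : A, a ^ n = 1) :
    ((cop n).length * Nat.card A * Module.finrank (ZMod 3) (fixAll ρ) : ℤ) =
      ∑ a, cycT n L ρ a := by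
  classical
  haveI : Fact (Nat.Prime 3) := ⟨Nat.prime_three⟩
  have hn0 : 0 < n := Nat.pos_of_ne_zero fun e => hn (e ▸ dvd_zero 3)
  simp only [chkL, Bool.and_eq_true, List.all_eq_true, List.mem_range] at hL
  obtain ⟨hdiv', hsel'⟩ := hL
  have hdiv : ∀ p ∈ L, p.1 ≠ 0 ∧ n % p.1 = 0 := fun p hp => by simpa using hdiv' p hp
  have hsel : ∀ i, i < n → (L.map fun p => if i % p.1 == 0 then p.2 else 0).sum =
      if i.gcd n = 1 then 1 else 0 := fun i hi => by
    have := eq_of_beq (hsel' i hi)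
    rw [this]
    exact if_congr beq_iff_eq rfl rfl
  set z : ℤ := ((cop n).length * Nat.card A * Module.finrank (ZMod 3) (fixAll ρ) : ℤ) -
    ∑ a, cycT n L ρ a
  suffices z = 0 from sub_eq_zero.mp this
  set k := z.natAbs + 1
  have hk : k ≠ 0 := Nat.succ_ne_zero _
  refine Int.eq_zero_of_abs_lt_dvd (m := ((3 ^ k : ℕ) : ℤ)) ?_ ?_
  swap
  · calc |z| = (z.natAbs : ℤ) := (Int.natCast_natAbs z).symm
      _ < _ := by exact_mod_cast (Nat.lt_succ_self _).trans (Nat.lt_pow_self (by norm_num))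
  rw [← ZMod.intCast_zmod_eq_zero_iff_dvd]
  obtain ⟨σ, hσ⟩ := Coprime.Lift.exists_rep_lift hk hA ρ
  simp only [z, Int.cast_sub, Int.cast_mul, Int.cast_natCast, Int.cast_sum, sub_eq_zero]
  let tr : A → ZMod (3 ^ k) := fun a => (σ a : Matrix (Fin N) (Fin N) (ZMod (3 ^ k))).trace
  have htot : ∑ a, tr a = (Nat.card A : ZMod (3 ^ k)) *
      (Module.finrank (ZMod 3) (fixAll ρ) : ZMod (3 ^ k)) := by
    have h := Coprime.Lift.trace_average_lift hk hA ρ σ hσ ⊤
    rw [Subgroup.card_top] at h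
    have hS : Coprime.Lift.fixSpace ρ ⊤ = fixAll ρ :=
      le_antisymm (fun v hv a => hv a (Subgroup.mem_top _)) fun v hv a _ => hv a
    rw [hS] at h
    rw [← h]
    exact (Fintype.sum_equiv Subgroup.topEquiv.toEquiv _ _ fun a => rfl).symm
  have hcyc : ∀ a, ((cycT n L ρ a : ℤ) : ZMod (3 ^ k)) =
      ∑ i ∈ (Finset.range n).filter (fun i => i.gcd n = 1), tr (a ^ i) := by
    intro a
    have h1 : ∀ p ∈ L, ((p.2 * ((n / p.1 : ℕ) : ℤ) * (fixEl ((ρ (a ^ p.1) : GL (Fin N) (ZMod 3)) :
        Matrix (Fin N) (Fin N) (ZMod 3)) : ℤ) : ℤ) : ZMod (3 ^ k)) =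
        ∑ i ∈ Finset.range n, ((if i % p.1 == 0 then p.2 else 0 : ℤ) : ZMod (3 ^ k)) * tr (a ^ i) := by
      intro p hp
      obtain ⟨hp0, hpn⟩ := hdiv p hp
      have hd : p.1 ∣ n := Nat.dvd_of_mod_eq_zero hpn
      obtain ⟨c, hc⟩ := hd
      have hc0 : 0 < c := Nat.pos_of_ne_zero fun e => by rw [e, mul_zero] at hc; omega
      have h2 := trace_pow_sum hk ρ σ hσ (b := a ^ p.1) hc0
        (fun h => hn (hc ▸ h.mul_left p.1)) (by rw [← pow_mul, ← hc, hexp])
      rw [show n / p.1 = c by rw [hc, Nat.mul_div_cancel_left _ (Nat.pos_of_ne_zero hp0)]]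
      push_cast
      rw [mul_assoc, ← h2, Finset.mul_sum,
        ← Finset.sum_filter_of_ne (s := Finset.range n) (p := fun i => i % p.1 = 0)
          (fun i _ h => by by_contra h'; exact h (by simp [h']))]
      refine Finset.sum_nbij (fun j => p.1 * j) (fun j hj => ?_) (fun j _ j' _ e => ?_) ?_ ?_
      · simp only [Finset.mem_filter, Finset.mem_range] at hj ⊢
        exact ⟨hc ▸ Nat.mul_lt_mul_of_pos_left hj (Nat.pos_of_ne_zero hp0), Nat.mul_mod_right _ _⟩
      · exact Nat.eq_of_mul_eq_mul_left (Nat.pos_of_ne_zero hp0) e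
      · intro i hi
        simp only [Finset.coe_filter, Finset.mem_range, Set.mem_setOf_eq] at hi
        obtain ⟨j, rfl⟩ := Nat.dvd_of_mod_eq_zero hi.2
        exact ⟨j, Finset.mem_coe.mpr (Finset.mem_range.mpr
          (Nat.lt_of_mul_lt_mul_left (a := p.1) (hc ▸ hi.1))), rfl⟩
      · intro j _
        simp [tr, ← pow_mul, mul_comm]
    have h2 : ((cycT n L ρ a : ℤ) : ZMod (3 ^ k)) = (L.map fun p =>
        ∑ i ∈ Finset.range n, ((if i % p.1 == 0 then p.2 else 0 : ℤ) : ZMod (3 ^ k)) * tr (a ^ i)).sum := by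
      rw [cycT, Int.cast_list_sum, List.map_map]
      exact congrArg List.sum (List.map_congr_left h1)
    rw [h2, Finset.sum_filter, ← list_sum_comm]
    refine Finset.sum_congr rfl fun i hi => ?_
    rw [List.sum_map_mul_right, show (L.map fun p => ((if i % p.1 == 0 then p.2 else 0 : ℤ) :
        ZMod (3 ^ k))).sum = (((L.map fun p => if i % p.1 == 0 then p.2 else 0).sum : ℤ) :
          ZMod (3 ^ k)) by rw [Int.cast_list_sum, List.map_map]; rfl,
      hsel i (Finset.mem_range.mp hi)]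
    split_ifs <;> simp
  rw [Finset.sum_congr rfl fun a _ => hcyc a, Finset.sum_comm,
    Finset.sum_congr rfl (g := fun _ => ∑ a, tr a) fun i hi => ?_, Finset.sum_const, htot,
    nsmul_eq_mul, mul_assoc]
  · congr 2
  · have hco : Nat.Coprime i n := (Finset.mem_filter.mp hi).2
    set j := ((i : ZMod n)⁻¹).val
    have hj : i * j ≡ 1 [MOD n] := by
      haveI : NeZero n := ⟨hn0.ne'⟩
      rw [← ZMod.natCast_eq_natCast_iff, Nat.cast_mul, ZMod.natCast_zmod_val, Nat.cast_one,
        ZMod.coe_mul_inv_eq_one i hco]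
    have key : ∀ a : A, (a ^ i) ^ j = a := fun a => by
      rw [← pow_mul, pow_eq_pow_mod _ (hexp a), hj, ← pow_eq_pow_mod _ (hexp a), pow_one]
    refine Fintype.sum_bijective (fun a => a ^ i) ?_ _ _ fun a => rfl
    exact Finite.injective_iff_bijective.mp fun a b e => by
      rw [← key a, ← key b]
      exact congrArg (· ^ j) e
where
  list_sum_comm {α β M : Type _} [AddCommMonoid M] {s : Finset α} {l : List β} {f : α → β → M} :
      ∑ i ∈ s, (l.map fun b => f i b).sum = (l.map fun b => ∑ i ∈ s, f i b).sum := by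
    induction l with
    | nil => simp
    | cons b l ih => simp [Finset.sum_add_distrib, ih]

end CfsgLib.E8Three.Small
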