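import Cfsg.Agent.E8Three.Small.FixCount

/-!
Fixed spaces of subgroups given by words, and certificates showing that a linear map on a fixed space
is injective.
-/

set_option autoImplicit false
set_option linter.style.haveILetI false
set_option linter.unusedSectionVars false

namespace CfsgLib.E8Three.Small

open Matrix

variable {I : Type} [Fintype I] [DecidableEq I] {G : Type*} [Group G] (ρ : G →* GL I (ZMod 3))

/-- The vectors fixed by a subgroup. -/
def fixSub (S : Subgroup G) : Submodule (ZMod 3) (I → ZMod 3) :=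
  fixAll (ρ.comp S.subtype)

theorem mem_fixSub {S : Subgroup G} {v : I → ZMod 3} :
    v ∈ fixSub ρ S ↔ ∀ a ∈ S, (ρ a : Matrix I I (ZMod 3)) *ᵥ v = v :=
  ⟨fun h a ha => h ⟨a, ha⟩, fun h a => h a a.2⟩

theorem fixSub_anti {S T : Subgroup G} (h : S ≤ T) : fixSub ρ T ≤ fixSub ρ S := fun _ hv =>
  (mem_fixSub ρ).mpr fun a ha => (mem_fixSub ρ).mp hv a (h ha)

/-- The averaged trace formula over the prime field. -/
theorem fd_formula {A : Type*} [Group A] [Fintype A] {n : ℕ} {L : List (ℕ × ℤ)}
    (hL : chkL n L = true) (hn : ¬ 3 ∣ n) (hA : ¬ 3 ∣ Nat.card A)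
    (τ : A →* GL I (ZMod 3)) (hexp : ∀ a : A, a ^ n = 1) :
    ((cop n).length * Nat.card A * Module.finrank (ZMod 3) (fixAll τ) : ℤ) = ∑ a, cycT n L τ a := by
  classical
  haveI : Fact (Nat.Prime 3) := ⟨Nat.prime_three⟩
  let e := Fintype.equivFin I
  let R : GL I (ZMod 3) →* GL (Fin (Fintype.card I)) (ZMod 3) :=
    Units.map (Matrix.reindexAlgEquiv (ZMod 3) (ZMod 3) e).toAlgHom.toRingHom.toMonoidHom
  let φ := LinearEquiv.funCongrLeft (ZMod 3) (ZMod 3) e.symm
  have hmul : ∀ (x : GL I (ZMod 3)) (v : I → ZMod 3),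
      (R x : Matrix (Fin (Fintype.card I)) (Fin (Fintype.card I)) (ZMod 3)) *ᵥ φ v =
        φ ((x : Matrix I I (ZMod 3)) *ᵥ v) := fun x v => by
    funext i
    show ∑ j, (x : Matrix I I (ZMod 3)) (e.symm i) (e.symm j) * v (e.symm j) = _
    rw [Equiv.sum_comp e.symm fun j => (x : Matrix I I (ZMod 3)) (e.symm i) j * v j]
    rfl
  have h1 : (fixAll τ).map φ.toLinearMap = fixAll (R.comp τ) := by
    ext w
    obtain ⟨v, rfl⟩ := φ.surjective w
    rw [Submodule.mem_map_equiv, LinearEquiv.symm_apply_apply]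
    exact forall_congr' fun a => by
      show _ ↔ (R (τ a) : Matrix _ _ (ZMod 3)) *ᵥ φ v = φ v
      rw [hmul, φ.injective.eq_iff]
  have h2 : ∀ x : GL I (ZMod 3), fixEl (R x : Matrix (Fin (Fintype.card I)) (Fin (Fintype.card I)) (ZMod 3)) = fixEl (x : Matrix I I (ZMod 3)) :=
    fun x => by
    have hm : fixMat (R x : Matrix (Fin (Fintype.card I)) (Fin (Fintype.card I)) (ZMod 3)) =
        (fixMat (x : Matrix I I (ZMod 3))).map φ.toLinearMap := by
      ext w
      obtain ⟨v, rfl⟩ := φ.surjective w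
      rw [Submodule.mem_map_equiv, LinearEquiv.symm_apply_apply, mem_fixMat, mem_fixMat, hmul,
        φ.injective.eq_iff]
    rw [fixEl, fixEl, hm, LinearEquiv.finrank_map_eq]
  have h3 := fd_formula_fin hL hn hA (R.comp τ) hexp
  rw [← h1, LinearEquiv.finrank_map_eq φ (fixAll τ)] at h3
  rw [h3]
  refine Finset.sum_congr rfl fun a _ => ?_
  simp only [cycT, MonoidHom.comp_apply, h2]

/-- The product of a word. -/
def wordProd {ι : Type*} (gen : ι → G) (w : List ι) : G := (w.map gen).prod

/-- A subgroup given by an irredundant list of words in a representation. -/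
theorem fd_words {ι : Type*} (gen : ι → G) (words : List (List ι)) (h1 : [] ∈ words)
    (hcl : ∀ w ∈ words, ∀ i, ∃ w' ∈ words, ρ (wordProd gen (w ++ [i])) = ρ (wordProd gen w'))
    (hnd : (words.map fun w => ρ (wordProd gen w)).Nodup) {n : ℕ} {L : List (ℕ × ℤ)}
    (hL : chkL n L = true) (hn : ¬ 3 ∣ n) (hlen : ¬ 3 ∣ words.length)
    (hexp : ∀ w ∈ words, ρ (wordProd gen w) ^ n = 1) :
    ((cop n).length * words.length *
        Module.finrank (ZMod 3) (fixSub ρ (Subgroup.closure (Set.range gen))) : ℤ) =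
      (words.map fun w => cycT n L ρ (wordProd gen w)).sum := by
  classical
  set S := Subgroup.closure (Set.range gen)
  set A := S.map ρ
  set f : List ι → GL I (ZMod 3) := fun w => ρ (wordProd gen w)
  have hmem : ∀ w : List ι, wordProd gen w ∈ S := fun w => list_prod_mem fun x hx => by
    obtain ⟨i, -, rfl⟩ := List.mem_map.mp hx
    exact Subgroup.subset_closure ⟨i, rfl⟩
  have hstep : ∀ x ∈ words.map f, ∀ i, x * ρ (gen i) ∈ words.map f := fun x hx i => by
    obtain ⟨w, hw, rfl⟩ := List.mem_map.mp hx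
    obtain ⟨w', hw', e⟩ := hcl w hw i
    exact List.mem_map.mpr ⟨w', hw', by simp only [f]; rw [← e]; simp [wordProd]⟩
  have hAeq : ∀ x, x ∈ A ↔ x ∈ words.map f := by
    refine fun x => ⟨?_, fun hx => ?_⟩
    · rintro ⟨s, hs, rfl⟩
      have hfin : ∀ i (x : GL I (ZMod 3)), x ∈ words.map f → x * (ρ (gen i))⁻¹ ∈ words.map f := by
        intro i x hx
        have hp : ∀ j : ℕ, x * ρ (gen i) ^ j ∈ words.map f := fun j => by
          induction j with
          | zero => simpa using hx
          | succ j ih => rw [pow_succ, ← mul_assoc]; exact hstep _ ih i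
        have := hp (orderOf (ρ (gen i)) - 1)
        rwa [show ρ (gen i) ^ (orderOf (ρ (gen i)) - 1) = (ρ (gen i))⁻¹ from
          (inv_eq_of_mul_eq_one_left (by
            rw [← pow_succ, Nat.sub_add_cancel (orderOf_pos _), pow_orderOf_eq_one])).symm] at this
      induction hs using Subgroup.closure_induction_right with
      | one => exact List.mem_map.mpr ⟨[], h1, by simp [f, wordProd]⟩
      | mul_right x hx y hy ih => obtain ⟨i, rfl⟩ := hy; rw [map_mul]; exact hstep _ ih i
      | mul_inv_cancel x hx y hy ih =>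
        obtain ⟨i, rfl⟩ := hy
        rw [map_mul, map_inv]
        exact hfin i _ ih
    · obtain ⟨w, -, rfl⟩ := List.mem_map.mp hx
      exact ⟨_, hmem w, rfl⟩
  have hset : (Finset.univ.filter (· ∈ A)) = (words.map f).toFinset := by
    ext x; simp [hAeq]
  have hcard : Nat.card A = words.length := by
    rw [Nat.card_eq_fintype_card, Fintype.card_subtype, hset,
      List.toFinset_card_of_nodup hnd, List.length_map]
  have h := fd_formula hL hn (by rw [hcard]; exact hlen) A.subtype fun a => by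
    obtain ⟨w, hw, e⟩ := List.mem_map.mp ((hAeq a).mp a.2)
    exact Subtype.ext (by rw [SubgroupClass.coe_pow, ← e, hexp w hw]; rfl)
  rw [hcard] at h
  have hfix : fixAll A.subtype = fixSub ρ S := by
    refine le_antisymm (fun v hv => (mem_fixSub ρ).mpr fun a ha => hv ⟨ρ a, a, ha, rfl⟩) fun v hv a => ?_
    obtain ⟨s, hs, e⟩ := a.2
    show ((a : GL I (ZMod 3)) : Matrix I I (ZMod 3)) *ᵥ v = v
    rw [← e]
    exact (mem_fixSub ρ).mp hv s hs
  rw [hfix] at h
  rw [h]
  let T : GL I (ZMod 3) → ℤ := fun x => cycT n L (MonoidHom.id _) x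
  have hT : ∀ a : A, cycT n L A.subtype a = T a := fun a => rfl
  rw [Finset.sum_congr rfl fun a _ => hT a,
    ← Finset.sum_subtype (Finset.univ.filter (· ∈ A)) (fun x => by simp) T, hset,
    List.sum_toFinset _ hnd, List.map_map]
  refine congrArg List.sum (List.map_congr_left fun w _ => ?_)
  simp [T, f, cycT]

theorem mulVec_list_sum {α : Type*} (l : List α) (f : α → Matrix I I (ZMod 3)) (v : I → ZMod 3) :
    (l.map f).sum *ᵥ v = (l.map fun a => f a *ᵥ v).sum := by
  induction l with
  | nil => simp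
  | cons a l ih => simp [Matrix.add_mulVec, ih]

/-- A certificate for the injectivity of sums of translates on a fixed space: every product is
labelled by a double coset, and only the trivial one has a coefficient. -/
theorem eq_zero_of_cert [Finite G] {Y : Subgroup G} (hY : ¬ 3 ∣ Nat.card Y) {v : I → ZMod 3}
    (hv : v ∈ fixSub ρ Y) (reps : ℕ → G) (hr : reps 0 = 1) (M : ℕ)
    (terms : List (ZMod 3 × G × List (G × ℕ) × G))
    (hann : ∀ t ∈ terms, (t.2.2.1.map fun x => (ρ (x.1 * t.2.2.2) : Matrix I I (ZMod 3)) *ᵥ v).sum = 0)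
    (hlab : ∀ t ∈ terms, ∀ x ∈ t.2.2.1, x.2 < M ∧
      ∃ y ∈ Y, ∃ y' ∈ Y, ρ (t.2.1 * (x.1 * t.2.2.2)) = ρ (y * reps x.2 * y'))
    (hco : ∀ k < M, (terms.map fun t => t.1 * ((t.2.2.1.countP fun x => x.2 == k : ℕ) : ZMod 3)).sum =
      if k = 0 then 1 else 0) (hM : 0 < M) : v = 0 := by
  classical
  haveI : Fact (Nat.Prime 3) := ⟨Nat.prime_three⟩
  haveI : Fintype Y := Fintype.ofFinite Y
  set P : Matrix I I (ZMod 3) := ∑ y : Y, (ρ (y : G) : Matrix I I (ZMod 3))
  have hP : ∀ y ∈ Y, P * (ρ y : Matrix I I (ZMod 3)) = P := fun y hy => by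
    simp only [P, Finset.sum_mul]
    refine Fintype.sum_equiv (Equiv.mulRight ⟨y, hy⟩) _ _ fun z => ?_
    simp
  set F : ℕ → (I → ZMod 3) := fun k => P *ᵥ ((ρ (reps k) : Matrix I I (ZMod 3)) *ᵥ v)
  have hterm : ∀ t ∈ terms, (t.2.2.1.map fun x => F x.2).sum = 0 := by
    intro t ht
    have h := congrArg (Matrix.mulVecLin (P * (ρ t.2.1 : Matrix I I (ZMod 3)))) (hann t ht)
    rw [map_zero, map_list_sum, List.map_map] at h
    rw [← h]
    refine congrArg List.sum (List.map_congr_left fun x hx => ?_)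
    obtain ⟨-, y, hy, y', hy', e⟩ := hlab t ht x hx
    simp only [Function.comp_apply, Matrix.mulVecLin_apply, F, Matrix.mulVec_mulVec, mul_assoc]
    rw [← Units.val_mul, ← map_mul, e, map_mul, map_mul, Units.val_mul, Units.val_mul, ← mul_assoc,
      ← mul_assoc, hP y hy]
    conv_rhs => rw [← Matrix.mulVec_mulVec, (mem_fixSub ρ).mp hv y' hy']
  have hcount : ∀ l : List (G × ℕ), (∀ x ∈ l, x.2 < M) → (l.map fun x => F x.2).sum =
      ∑ k ∈ Finset.range M, ((l.countP fun x => x.2 == k : ℕ) : ZMod 3) • F k := by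
    intro l
    induction l with
    | nil => simp
    | cons x l ih =>
      intro hl
      rw [List.map_cons, List.sum_cons, ih fun z hz => hl z (List.mem_cons_of_mem _ hz)]
      simp only [List.countP_cons, Nat.cast_add, add_smul, Finset.sum_add_distrib]
      rw [add_comm]
      congr 1
      rw [Finset.sum_eq_single x.2 (fun k _ hk => by simp [Ne.symm hk])
        fun h => absurd (Finset.mem_range.mpr (hl x List.mem_cons_self)) h]
      simp
  have hswap : ∀ ts : List (ZMod 3 × G × List (G × ℕ) × G), (∀ t ∈ ts, t ∈ terms) →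
      ∑ k ∈ Finset.range M, (ts.map fun t =>
        t.1 * ((t.2.2.1.countP fun x => x.2 == k : ℕ) : ZMod 3)).sum • F k = 0 := by
    intro ts
    induction ts with
    | nil => simp
    | cons t ts ih =>
      intro h
      simp only [List.map_cons, List.sum_cons, add_smul, Finset.sum_add_distrib, mul_smul]
      rw [ih fun z hz => h z (List.mem_cons_of_mem _ hz), add_zero, ← Finset.smul_sum,
        ← hcount _ fun x hx => (hlab t (h t List.mem_cons_self) x hx).1,
        hterm t (h t List.mem_cons_self), smul_zero]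
  have h0 := hswap terms fun t ht => ht
  rw [Finset.sum_congr rfl fun k hk => by rw [hco k (Finset.mem_range.mp hk)],
    Finset.sum_eq_single 0 (fun k _ hk => by rw [if_neg hk, zero_smul])
      (fun h => absurd (Finset.mem_range.mpr hM) h), if_pos rfl, one_smul] at h0
  simp only [F, hr, map_one, Units.val_one, Matrix.one_mulVec, P, Matrix.sum_mulVec] at h0
  rw [Finset.sum_congr rfl fun (y : Y) _ => (mem_fixSub ρ).mp hv y y.2, Finset.sum_const,
    Finset.card_univ, ← Nat.card_eq_fintype_card, ← Nat.cast_smul_eq_nsmul (ZMod 3),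
    smul_eq_zero] at h0
  exact h0.resolve_left fun h => hY ((ZMod.natCast_eq_zero_iff _ 3).mp h)

end CfsgLib.E8Three.Small
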