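import Mathlib.Algebra.Field.MinimalAxioms
import Mathlib.Tactic.DeriveFintype
import Mathlib.Data.Fintype.Card

/-! The field with thirty-two elements, by a table packed into a natural number. -/

set_option autoImplicit false
set_option maxRecDepth 100000

namespace CfsgLib.E8Three.Small.L32

/-- The packed multiplication table for the polynomial `X^5 + X^2 + 1`. -/
def mulTab : Nat := 108047903208776182301821177221103242476143116593955060130293304589979379624792515153448842048557508062944046124406229695296066925914606762581689461002085778494869921253308993299871816092985491976045169017559410915641250367137487077474267762475165846192052592168025461595576071664656168551390812030282810547142273575707685992071951630439607196763160003983695986142552761857137002861441091538854289825063246106996111585522612270594387893792604677643806278420866095200429498834875164278453909318858873928361350451542075359389585350846896032637281038213167798410357414190746885591238672396555286314927225104490276004281802275612186310538897012821309466952071474062567291510724844240328231794507178969064997669581675260890171579661861804781287947179868346279216925369372792570769878690061895251633690187934766853249525474952930834331809573725942322942128859614576856896107208964457676110404290123549830361915177833475321143338419370844702955843687682335496728704246540419906221753620676385508341937256156840096544712112163214344887431563846620792143299057294129562689729500658535791013600437345014523103774325441249963724119162034606046898190840942821086017654297642452944418259132037807734164211605724739782819781353435761009390836216362900777584713462606884327330779408941635095127726452318274311602862610838031905185084111375203469849716078223880040803555184033898903431904408499901976387979014468435507345745772488651003084902781458751948967454175797339287002946443741078296424767125593778879332774650111994871979244289813779477452088152162304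

/-- Addition of codes. -/
def gadd (a b : Nat) : Nat := Nat.xor (a % 32) (b % 32)

/-- Multiplication of codes. -/
def gmul (a b : Nat) : Nat := mulTab >>> (5 * (32 * (a % 32) + b % 32)) % 32

/-- The elements, by codes. -/
structure F32 where
  /-- The code. -/
  val : Fin 32
  deriving DecidableEq, Fintype

namespace F32

/-- The element with the given code. -/
def of (n : Nat) : F32 := ⟨⟨n % 32, Nat.mod_lt _ (by decide)⟩⟩

instance : Add F32 := ⟨fun a b => of (gadd a.val b.val)⟩
instance : Mul F32 := ⟨fun a b => of (gmul a.val b.val)⟩
instance : Zero F32 := ⟨of 0⟩
instance : One F32 := ⟨of 1⟩
instance : Neg F32 := ⟨fun x => x⟩

instance : Inv F32 := ⟨fun a =>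
  let b := a * a
  let c := b * b
  let d := c * c
  (b * c) * (d * (d * d))⟩

instance instField : Field F32 :=
  Field.ofMinimalAxioms F32 (by decide +kernel) (by decide +kernel) (by decide +kernel)
    (by decide +kernel) (by decide +kernel) (by decide +kernel) (by decide +kernel)
    (by decide +kernel) (by decide +kernel) ⟨of 0, of 1, by decide +kernel⟩

theorem card_eq : Fintype.card F32 = 32 := by decide +kernel

theorem of_gadd (a b : Nat) : of (gadd a b) = of a + of b := by
  show of (gadd a b) = of (gadd (a % 32) (b % 32))
  simp [gadd]

theorem of_gmul (a b : Nat) : of (gmul a b) = of a * of b := by
  show of (gmul a b) = of (gmul (a % 32) (b % 32))
  simp [gmul]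

theorem of_inj {a b : Nat} (ha : a < 32) (hb : b < 32) (h : of a = of b) : a = b := by
  have := congrArg (fun x => x.val.val) h
  simpa [of, Nat.mod_eq_of_lt ha, Nat.mod_eq_of_lt hb] using this

end F32

end CfsgLib.E8Three.Small.L32
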