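import Cfsg.Agent.E8Three.Small.Link
import Cfsg.Agent.E8Three.Small.FixTools

/-!
Representations given by subgroups of `E₈(3)` isomorphic to a central quotient, and the fixed
dimensions of their semisimple elements.
-/

set_option autoImplicit false
set_option linter.style.haveILetI false

namespace CfsgLib.E8Three.Small

open Cfsg.Lie Matrix

/-- The representation of a group given by a subgroup isomorphic to its quotient. -/
theorem exists_rep_quot {G : Type*} [Group G] {N : Subgroup G} [N.Normal]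
    {H : Subgroup ↥(chevE8.group (ZMod 3))} (e : ↥H ≃* G ⧸ N) :
    ∃ τ : G →* GL chevE8.Idx (ZMod 3),
      (∀ g, τ g ∈ chevE8.group (ZMod 3)) ∧ ∀ g, τ g = 1 ↔ g ∈ N := by
  refine ⟨(chevE8.group (ZMod 3)).subtype.comp (H.subtype.comp (e.symm.toMonoidHom.comp
    (QuotientGroup.mk' N))), fun g => SetLike.coe_mem _, fun g => ?_⟩
  simp only [MonoidHom.comp_apply, Subgroup.coe_subtype, OneMemClass.coe_eq_one,
    MulEquiv.coe_toMonoidHom, MulEquiv.map_eq_one_iff, QuotientGroup.mk'_apply,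
    QuotientGroup.eq_one_iff]

theorem card_idx : Fintype.card chevE8.Idx = 248 := by
  rw [Fintype.card_sum, Fintype.card_fin, Fintype.card_fin]
  rfl

theorem fixEl_one : fixEl (1 : Matrix chevE8.Idx chevE8.Idx (ZMod 3)) = 248 := by
  haveI : Fact (Nat.Prime 3) := ⟨Nat.prime_three⟩
  rw [fixEl, show fixMat (1 : Matrix chevE8.Idx chevE8.Idx (ZMod 3)) = ⊤ from
    top_le_iff.mp fun v _ => mem_fixMat.mpr (Matrix.one_mulVec v),
    finrank_top, Module.finrank_fintype_fun_eq_card, card_idx]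

/-- A matrix with full fixed space is the identity. -/
theorem eq_one_of_fixEl {x : GL chevE8.Idx (ZMod 3)}
    (h : fixEl (x : Matrix chevE8.Idx chevE8.Idx (ZMod 3)) = 248) : x = 1 := by
  haveI : Fact (Nat.Prime 3) := ⟨Nat.prime_three⟩
  have ht : fixMat (x : Matrix chevE8.Idx chevE8.Idx (ZMod 3)) = ⊤ :=
    Submodule.eq_top_of_finrank_eq (by
      rw [Module.finrank_fintype_fun_eq_card, card_idx]; exact h)
  exact Units.ext (Matrix.ext_of_mulVec_single fun i => by
    rw [mem_fixMat.mp (ht ▸ Submodule.mem_top), Units.val_one, Matrix.one_mulVec])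

variable {I : Type} [Fintype I] [DecidableEq I]

/-- Conjugate elements have equal fixed dimensions. -/
theorem fixEl_conj (x y : GL I (ZMod 3)) :
    fixEl ((y * x * y⁻¹ : GL I (ZMod 3)) : Matrix I I (ZMod 3)) = fixEl (x : Matrix I I (ZMod 3)) := by
  haveI : Fact (Nat.Prime 3) := ⟨Nat.prime_three⟩
  let φ : (I → ZMod 3) ≃ₗ[ZMod 3] (I → ZMod 3) :=
    LinearEquiv.ofLinear (Matrix.toLin' (y : Matrix I I (ZMod 3)))
      (Matrix.toLin' ((y⁻¹ : GL I (ZMod 3)) : Matrix I I (ZMod 3)))
      (by rw [← Matrix.toLin'_mul, Units.mul_inv, Matrix.toLin'_one])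
      (by rw [← Matrix.toLin'_mul, Units.inv_mul, Matrix.toLin'_one])
  suffices hm : fixMat ((y * x * y⁻¹ : GL I (ZMod 3)) : Matrix I I (ZMod 3)) =
      (fixMat (x : Matrix I I (ZMod 3))).map φ.toLinearMap by
    rw [fixEl, fixEl, hm, LinearEquiv.finrank_map_eq]
  ext v
  rw [Submodule.mem_map_equiv, mem_fixMat, mem_fixMat]
  show _ ↔ (x : Matrix I I (ZMod 3)) *ᵥ Matrix.toLin' ((y⁻¹ : GL I (ZMod 3)) : Matrix I I (ZMod 3)) v =
    Matrix.toLin' ((y⁻¹ : GL I (ZMod 3)) : Matrix I I (ZMod 3)) v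
  simp only [Matrix.toLin'_apply, Units.val_mul, Matrix.mulVec_mulVec]
  constructor
  · intro h
    have := congrArg (fun w => ((y⁻¹ : GL I (ZMod 3)) : Matrix I I (ZMod 3)) *ᵥ w) h
    simpa [Matrix.mulVec_mulVec, ← mul_assoc] using this
  · intro h
    have := congrArg (fun w => (y : Matrix I I (ZMod 3)) *ᵥ w) h
    simpa [Matrix.mulVec_mulVec, ← mul_assoc] using this

end CfsgLib.E8Three.Small
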