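import Mathlib.LinearAlgebra.Matrix.SpecialLinearGroup
import Cfsg.Agent.E8Three.Small.L32Field
import Cfsg.Agent.E8Three.Small.CertTools
import Cfsg.Agent.E8Three.Small.Rep

/-!
Coded subgroups of `SL(2, 32)` acting on a representation, and their fixed spaces.
-/

set_option autoImplicit false
set_option linter.style.haveILetI false
set_option maxRecDepth 100000

namespace CfsgLib.E8Three.Small.L32

open Matrix

/-- The group `SL(2, 32)`. -/
abbrev SL32 : Type := Matrix.SpecialLinearGroup (Fin 2) F32

/-- An entry of a coded matrix. -/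
def ent (X i j : Nat) : Nat := X / 32 ^ (2 * i + j) % 32

/-- The matrix of a code. -/
def toM (X : Nat) : Matrix (Fin 2) (Fin 2) F32 := Matrix.of fun i j => F32.of (ent X i.val j.val)

/-- The code with given entries. -/
def pack (a b c d : Nat) : Nat := a + 32 * b + 1024 * c + 32768 * d

/-- The code of a product. -/
def mC (X Y : Nat) : Nat :=
  pack (gadd (gmul (ent X 0 0) (ent Y 0 0)) (gmul (ent X 0 1) (ent Y 1 0)))
    (gadd (gmul (ent X 0 0) (ent Y 0 1)) (gmul (ent X 0 1) (ent Y 1 1)))
    (gadd (gmul (ent X 1 0) (ent Y 0 0)) (gmul (ent X 1 1) (ent Y 1 0)))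
    (gadd (gmul (ent X 1 0) (ent Y 0 1)) (gmul (ent X 1 1) (ent Y 1 1)))

/-- The code of the identity. -/
def oneC : Nat := 32769

theorem gadd_lt (a b : Nat) : gadd a b < 32 :=
  Nat.xor_lt_two_pow (n := 5) (Nat.mod_lt _ (by norm_num)) (Nat.mod_lt _ (by norm_num))

theorem gmul_lt (a b : Nat) : gmul a b < 32 := Nat.mod_lt _ (by norm_num)

theorem ent_lt (X i j : Nat) : ent X i j < 32 := Nat.mod_lt _ (by norm_num)

theorem ent_pack {a b c d : Nat} (ha : a < 32) (hb : b < 32) (hc : c < 32) (hd : d < 32) :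
    ent (pack a b c d) 0 0 = a ∧ ent (pack a b c d) 0 1 = b ∧ ent (pack a b c d) 1 0 = c ∧
      ent (pack a b c d) 1 1 = d := by
  simp only [ent, pack]
  norm_num
  omega

theorem toM_mC (X Y : Nat) : toM (mC X Y) = toM X * toM Y := by
  obtain ⟨e00, e01, e10, e11⟩ := ent_pack
    (gadd_lt (gmul (ent X 0 0) (ent Y 0 0)) (gmul (ent X 0 1) (ent Y 1 0)))
    (gadd_lt (gmul (ent X 0 0) (ent Y 0 1)) (gmul (ent X 0 1) (ent Y 1 1)))
    (gadd_lt (gmul (ent X 1 0) (ent Y 0 0)) (gmul (ent X 1 1) (ent Y 1 0)))
    (gadd_lt (gmul (ent X 1 0) (ent Y 0 1)) (gmul (ent X 1 1) (ent Y 1 1)))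
  ext1 i j
  fin_cases i <;> fin_cases j <;>
    simp [toM, mC, Matrix.mul_apply, Fin.sum_univ_two, e00, e01, e10, e11, F32.of_gadd, F32.of_gmul]

theorem toM_one : toM oneC = 1 := by decide +kernel

/-- The code of an element of `SL(2, 32)`. -/
def chk (X : Nat) : Bool :=
  decide (X < 1048576) && gadd (gmul (ent X 0 0) (ent X 1 1)) (gmul (ent X 0 1) (ent X 1 0)) == 1

theorem det_of_chk {X : Nat} (h : chk X = true) : (toM X).det = 1 := by
  simp only [chk, Bool.and_eq_true, beq_iff_eq] at h
  have h' := congrArg F32.of h.2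
  rw [F32.of_gadd, F32.of_gmul, F32.of_gmul] at h'
  have hneg : ∀ x : F32, -x = x := fun x => rfl
  rw [Matrix.det_fin_two, sub_eq_add_neg, hneg]
  exact h'

/-- The element of a code. -/
def S (X : Nat) : SL32 :=
  if h : chk X = true then (⟨toM X, det_of_chk h⟩ : Matrix.SpecialLinearGroup (Fin 2) F32) else 1

theorem coe_S {X : Nat} (h : chk X = true) : ((S X : SL32) : Matrix (Fin 2) (Fin 2) F32) = toM X := by
  show ((S X : SL32) : Matrix (Fin 2) (Fin 2) F32) = toM X
  have e : S X = (⟨toM X, det_of_chk h⟩ : SL32) := dif_pos h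
  rw [e]

theorem coe_getD {l : List Nat} (h : l.all chk = true) (i : Nat) :
    (S (l.getD i oneC) : Matrix (Fin 2) (Fin 2) F32) = toM (l.getD i oneC) := by
  by_cases hi : i < l.length
  · rw [List.getD_eq_getElem _ _ hi]
    exact coe_S (List.all_eq_true.mp h _ (List.getElem_mem _))
  · rw [List.getD_eq_default _ _ (by omega)]
    exact coe_S (by decide +kernel)

theorem S_one : S oneC = 1 := Subtype.ext ((coe_S (by decide +kernel)).trans toM_one)

theorem eq_of_coe {a b : SL32} {X : Nat} (ha : (a : Matrix (Fin 2) (Fin 2) F32) = toM X)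
    (hb : (b : Matrix (Fin 2) (Fin 2) F32) = toM X) : a = b :=
  Subtype.ext (ha.trans hb.symm)

theorem toM_inj {X Y : Nat} (hX : X < 1048576) (hY : Y < 1048576) (h : toM X = toM Y) : X = Y := by
  have e : ∀ i j : Fin 2, ent X i.val j.val = ent Y i.val j.val := fun i j =>
    F32.of_inj (ent_lt _ _ _) (ent_lt _ _ _) (congrFun (congrFun h i) j)
  have e00 := e 0 0
  have e01 := e 0 1
  have e10 := e 1 0
  have e11 := e 1 1
  simp only [ent, Fin.val_zero, Fin.val_one] at e00 e01 e10 e11
  norm_num at e00 e01 e10 e11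
  omega

theorem center_trivial {g : SL32} (h : g ∈ Subgroup.center SL32) : g = 1 := by
  have h1 := congrArg (fun x : SL32 => (x : Matrix (Fin 2) (Fin 2) F32))
    (Subgroup.mem_center_iff.mp h (S (pack 1 1 0 1)))
  have h2 := congrArg (fun x : SL32 => (x : Matrix (Fin 2) (Fin 2) F32))
    (Subgroup.mem_center_iff.mp h (S (pack 1 0 1 1)))
  simp only [Matrix.SpecialLinearGroup.coe_mul, coe_S (show chk (pack 1 1 0 1) = true by decide +kernel),
    coe_S (show chk (pack 1 0 1 1) = true by decide +kernel)] at h1 h2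
  have hu : toM (pack 1 1 0 1) = !![1, 1; 0, 1] := by decide +kernel
  have hl : toM (pack 1 0 1 1) = !![1, 0; 1, 1] := by decide +kernel
  rw [hu] at h1
  rw [hl] at h2
  have hc : g.1 1 0 = 0 := by simpa [Matrix.mul_apply, Fin.sum_univ_two] using congrFun (congrFun h1 0) 0
  have hb : g.1 0 1 = 0 := by simpa [Matrix.mul_apply, Fin.sum_univ_two] using congrFun (congrFun h2 0) 0
  have had : g.1 0 0 = g.1 1 1 := by
    have := congrFun (congrFun h1 0) 1
    simp [Matrix.mul_apply, Fin.sum_univ_two, hb] at this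
    exact this.symm
  have hd : g.1 0 0 * g.1 1 1 = 1 := by
    have := g.2
    rw [Matrix.det_fin_two, hb, hc, zero_mul, sub_zero] at this
    exact this
  rw [← had] at hd
  have h11 : g.1 0 0 = 1 := (show ∀ x : F32, x * x = 1 → x = 1 by decide +kernel) _ hd
  refine Subtype.ext (Matrix.ext fun i j => ?_)
  fin_cases i <;> fin_cases j <;> simp [hb, hc, ← had, h11]

/-- A subgroup given by coded generators. -/
def subOf (gens : List Nat) : Subgroup SL32 :=
  Subgroup.closure (Set.range fun i : Nat => S (gens.getD i oneC))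

theorem subOf_mono {l l' : List Nat} (h : l.all (l'.contains ·) = true) : subOf l ≤ subOf l' := by
  refine (Subgroup.closure_le _).mpr ?_
  rintro _ ⟨i, rfl⟩
  by_cases hi : i < l.length
  · have hm := List.all_eq_true.mp h (l.getD i oneC) (by
      rw [List.getD_eq_getElem _ _ hi]; exact List.getElem_mem _)
    obtain ⟨j, hj, e⟩ := List.mem_iff_getElem.mp (List.contains_iff_mem.mp hm)
    refine Subgroup.subset_closure ⟨j, ?_⟩
    simp only [List.getD_eq_getElem _ _ hj, e]
  · show S (l.getD i oneC) ∈ _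
    rw [List.getD_eq_default _ _ (by omega), S_one]
    exact one_mem _

/-- The code of a word. -/
def wordC (gens : List Nat) (w : List Nat) : Nat :=
  w.foldl (fun A i => mC A (gens.getD i oneC)) oneC

/-- A table of a coded subgroup: words, matrices, products, classes and conjugators. -/
structure Tab where
  /-- generators -/
  gens : List Nat
  /-- words -/
  words : List (List Nat)
  /-- matrices -/
  mats : List Nat
  /-- right multiplication by the generators -/
  nxt : List (List Nat)
  /-- classes -/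
  cls : List Nat
  /-- conjugators -/
  conj : List Nat

/-- The table is a group table. -/
def Tab.tableOk (D : Tab) : Bool :=
  D.gens.all chk && decide (0 < D.words.length) && decide (D.words.getD 0 [] = []) &&
    decide (D.mats.length = D.words.length) && decide (D.words.map (wordC D.gens) = D.mats) &&
    D.mats.all chk && decide D.mats.Nodup &&
    (List.range D.words.length).all fun k => (List.range D.gens.length).all fun i =>
      decide ((D.nxt.getD k []).getD i D.words.length < D.words.length) &&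
        mC (D.mats.getD k oneC) (D.gens.getD i oneC) ==
          D.mats.getD ((D.nxt.getD k []).getD i D.words.length) oneC

/-- The power of a code. -/
def powC (A : Nat) : Nat → Nat
  | 0 => oneC
  | n + 1 => mC (powC A n) A

/-- The classes of the table are correct. -/
def Tab.classOk (D : Tab) (reps : List Nat) (n : Nat) : Bool :=
  reps.all chk && (D.mats.all fun A => powC A n == oneC) &&
    decide (D.cls.length = D.words.length) && decide (D.conj.length = D.words.length) &&
    D.conj.all chk &&
    (List.range D.words.length).all fun k =>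
      decide (D.cls.getD k 0 < reps.length) &&
        mC (D.conj.getD k oneC) (D.mats.getD k oneC) ==
          mC (reps.getD (D.cls.getD k 0) oneC) (D.conj.getD k oneC)

theorem coe_word {gens : List Nat} (h : gens.all chk = true) (w : List Nat) :
    ((wordProd (fun i => S (gens.getD i oneC)) w : SL32) : Matrix (Fin 2) (Fin 2) F32) =
      toM (wordC gens w) := by
  have key : ∀ (w : List Nat) (A : Nat) (a : SL32), (a : Matrix (Fin 2) (Fin 2) F32) = toM A →
      ((a * wordProd (fun i => S (gens.getD i oneC)) w : SL32) : Matrix (Fin 2) (Fin 2) F32) =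
        toM (w.foldl (fun A i => mC A (gens.getD i oneC)) A) := by
    intro w
    induction w with
    | nil => intro A a ha; simpa [wordProd] using ha
    | cons i w ih =>
      intro A a ha
      rw [List.foldl_cons,
        ← ih _ (a * S (gens.getD i oneC))
          (by rw [Matrix.SpecialLinearGroup.coe_mul, ha, coe_getD h, toM_mC]), mul_assoc]
      rfl
  have h' := key w oneC 1 (by rw [toM_one]; rfl)
  rwa [one_mul] at h'

theorem Tab.word_eq {D : Tab} (h : D.tableOk = true) {k : Nat} (hk : k < D.words.length) :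
    wordProd (fun i => S (D.gens.getD i oneC)) (D.words.getD k []) = S (D.mats.getD k oneC) := by
  simp only [Tab.tableOk, Bool.and_eq_true, decide_eq_true_eq] at h
  obtain ⟨⟨⟨⟨⟨⟨⟨hg, -⟩, -⟩, hl⟩, hm⟩, hc⟩, -⟩, -⟩ := h
  refine eq_of_coe (X := D.mats.getD k oneC) ?_ (coe_getD hc k)
  rw [coe_word hg]
  conv_rhs => rw [← hm]
  rw [List.getD_eq_getElem _ _ hk, List.getD_eq_getElem _ _ (by rw [List.length_map]; exact hk),
    List.getElem_map]

theorem Tab.mem_iff {D : Tab} (h : D.tableOk = true) {x : SL32} :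
    x ∈ subOf D.gens ↔ ∃ k < D.words.length, S (D.mats.getD k oneC) = x := by
  have h' := h
  simp only [Tab.tableOk, Bool.and_eq_true, decide_eq_true_eq, List.all_eq_true, List.mem_range,
    beq_iff_eq] at h'
  obtain ⟨⟨⟨⟨⟨⟨⟨hg, hpos⟩, hw0⟩, hl⟩, -⟩, hc⟩, -⟩, hnx⟩ := h'
  have hstep : ∀ k < D.words.length, ∀ i, ∃ k' < D.words.length,
      S (D.mats.getD k' oneC) = S (D.mats.getD k oneC) * S (D.gens.getD i oneC) := by
    intro k hk i
    by_cases hi : i < D.gens.length
    · obtain ⟨hlt, he⟩ := hnx k hk i hi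
      refine ⟨_, hlt, eq_of_coe (coe_getD (List.all_eq_true.mpr hc) _) ?_⟩
      rw [Matrix.SpecialLinearGroup.coe_mul, coe_getD (List.all_eq_true.mpr hc),
        coe_getD (List.all_eq_true.mpr hg), ← toM_mC, he]
    · exact ⟨k, hk, by rw [List.getD_eq_default D.gens _ (by omega), S_one, mul_one]⟩
  constructor
  · intro hx
    induction hx using Subgroup.closure_induction_right with
    | one => exact ⟨0, hpos, by rw [← Tab.word_eq h hpos, hw0]; simp [wordProd]⟩
    | mul_right x hx y hy ih =>
      obtain ⟨k, hk, rfl⟩ := ih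
      obtain ⟨i, rfl⟩ := hy
      exact hstep k hk i
    | mul_inv_cancel x hx y hy ih =>
      obtain ⟨k, hk, rfl⟩ := ih
      obtain ⟨i, rfl⟩ := hy
      have hp : ∀ j : ℕ, ∃ k' < D.words.length,
          S (D.mats.getD k' oneC) = S (D.mats.getD k oneC) * S (D.gens.getD i oneC) ^ j := by
        intro j
        induction j with
        | zero => exact ⟨k, hk, by simp⟩
        | succ j ih =>
          obtain ⟨k', hk', e⟩ := ih
          obtain ⟨k'', hk'', e'⟩ := hstep k' hk' i
          exact ⟨k'', hk'', by rw [e', e, pow_succ, mul_assoc]⟩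
      obtain ⟨k', hk', e⟩ := hp (orderOf (S (D.gens.getD i oneC)) - 1)
      refine ⟨k', hk', e.trans ?_⟩
      congr 1
      exact (inv_eq_of_mul_eq_one_left (by
        rw [← pow_succ, Nat.sub_add_cancel (orderOf_pos _), pow_orderOf_eq_one])).symm
  · rintro ⟨k, hk, rfl⟩
    rw [← Tab.word_eq h hk]
    refine list_prod_mem fun x hx => ?_
    obtain ⟨i, -, rfl⟩ := List.mem_map.mp hx
    exact Subgroup.subset_closure ⟨i, rfl⟩

theorem Tab.mats_mem {D : Tab} (h : D.tableOk = true) (k : Nat) :
    S (D.mats.getD k oneC) ∈ subOf D.gens := by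
  by_cases hk : k < D.words.length
  · exact (Tab.mem_iff h).mpr ⟨k, hk, rfl⟩
  · have h' := h
    simp only [Tab.tableOk, Bool.and_eq_true, decide_eq_true_eq] at h'
    rw [List.getD_eq_default _ _ (by omega), S_one]; exact one_mem _

theorem Tab.inj {D : Tab} (h : D.tableOk = true) {a b : Nat} (ha : a < D.words.length)
    (hb : b < D.words.length) (e : S (D.mats.getD a oneC) = S (D.mats.getD b oneC)) : a = b := by
  simp only [Tab.tableOk, Bool.and_eq_true, decide_eq_true_eq] at h
  obtain ⟨⟨⟨⟨-, hl⟩, -⟩, hc⟩, hnd⟩ := h.1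
  have hlt : ∀ k, k < D.words.length → D.mats.getD k oneC < 1048576 := fun k hk => by
    rw [List.getD_eq_getElem _ _ (by omega)]
    have := List.all_eq_true.mp hc _ (List.getElem_mem (l := D.mats) (n := k) (by omega))
    simp only [chk, Bool.and_eq_true, decide_eq_true_eq] at this
    exact this.1
  have e' := congrArg (fun x : SL32 => (x : Matrix (Fin 2) (Fin 2) F32)) e
  simp only [coe_getD hc] at e'
  have e2 := toM_inj (hlt a ha) (hlt b hb) e'
  rw [List.getD_eq_getElem _ _ (by omega), List.getD_eq_getElem _ _ (by omega)] at e2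
  exact (hnd.getElem_inj_iff).mp e2

theorem Tab.card_sub {D : Tab} (h : D.tableOk = true) :
    Nat.card (subOf D.gens) = D.words.length := by
  rw [← Nat.card_fin D.words.length]
  refine (Nat.card_congr (Equiv.ofBijective
    (fun k : Fin D.words.length => (⟨_, Tab.mats_mem h k.val⟩ : subOf D.gens)) ⟨?_, ?_⟩)).symm
  · exact fun a b e => Fin.ext (Tab.inj h a.isLt b.isLt (congrArg Subtype.val e))
  · rintro ⟨x, hx⟩
    obtain ⟨k, hk, rfl⟩ := (Tab.mem_iff h).mp hx
    exact ⟨⟨k, hk⟩, rfl⟩

variable {I : Type} [Fintype I] [DecidableEq I] (τ : SL32 →* GL I (ZMod 3))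
  (hinj : Function.Injective τ)

include hinj in
/-- The fixed dimension of a coded subgroup in terms of the class representatives. -/
theorem fd_tab (D : Tab) {reps : List Nat} {n : ℕ} {L : List (ℕ × ℤ)}
    (h1 : D.tableOk = true) (h2 : D.classOk reps n = true) (hL : chkL n L = true)
    (hn : ¬ 3 ∣ n) (hlen : ¬ 3 ∣ D.words.length) :
    ((cop n).length * D.words.length *
        Module.finrank (ZMod 3) (fixSub τ (subOf D.gens)) : ℤ) =
      (D.cls.map fun c => cycT n L τ (S (reps.getD c oneC))).sum := by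
  classical
  have h1' := h1
  simp only [Tab.tableOk, Bool.and_eq_true, decide_eq_true_eq, List.all_eq_true, List.mem_range,
    beq_iff_eq] at h1'
  obtain ⟨⟨⟨⟨⟨⟨⟨hg, hpos⟩, hw0⟩, hl⟩, -⟩, hc⟩, -⟩, -⟩ := h1'
  simp only [Tab.classOk, Bool.and_eq_true, decide_eq_true_eq, List.all_eq_true, List.mem_range,
    beq_iff_eq] at h2
  obtain ⟨⟨⟨⟨⟨hreps, hexp⟩, hcl⟩, hcj⟩, hconj⟩, hfus⟩ := h2
  set gen : Nat → SL32 := fun i => S (D.gens.getD i oneC)
  have hw : ∀ k, k < D.words.length → wordProd gen (D.words.getD k []) = S (D.mats.getD k oneC) :=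
    fun k hk => Tab.word_eq h1 hk
  have hk : ∀ w ∈ D.words, ∃ k < D.words.length, w = D.words.getD k [] := fun w hw => by
    obtain ⟨k, hk, rfl⟩ := List.mem_iff_getElem.mp hw
    exact ⟨k, hk, (List.getD_eq_getElem _ _ hk).symm⟩
  have hmem : ∀ k, k < D.words.length → D.words.getD k [] ∈ D.words := fun k hk => by
    rw [List.getD_eq_getElem _ _ hk]; exact List.getElem_mem _
  have hclo : ∀ w ∈ D.words, ∀ i, ∃ w' ∈ D.words,
      τ (wordProd gen (w ++ [i])) = τ (wordProd gen w') := by
    intro w hw' i
    obtain ⟨k, hk', rfl⟩ := hk w hw'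
    obtain ⟨k', hk'', e⟩ := (Tab.mem_iff h1).mp
      (mul_mem (Tab.mats_mem h1 k) (Subgroup.subset_closure ⟨i, rfl⟩) :
        S (D.mats.getD k oneC) * gen i ∈ subOf D.gens)
    refine ⟨_, hmem k' hk'', congrArg τ ?_⟩
    rw [hw _ hk'', e, ← hw k hk']
    simp [wordProd]
  have hnd : (D.words.map fun w => τ (wordProd gen w)).Nodup := by
    rw [List.nodup_iff_injective_getElem]
    intro a b hab
    simp only [List.getElem_map] at hab
    have ha : a.val < D.words.length := by have := a.isLt; simpa using this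
    have hb : b.val < D.words.length := by have := b.isLt; simpa using this
    rw [← List.getD_eq_getElem _ [] ha, ← List.getD_eq_getElem _ [] hb, hw _ ha, hw _ hb] at hab
    exact Fin.ext (Tab.inj h1 ha hb (hinj hab))
  have hexp' : ∀ w ∈ D.words, τ (wordProd gen w) ^ n = 1 := by
    intro w hw'
    obtain ⟨k, hk', rfl⟩ := hk w hw'
    rw [← map_pow, ← map_one τ, hw k hk']
    have hp : ∀ j, ((S (D.mats.getD k oneC) ^ j : SL32) : Matrix (Fin 2) (Fin 2) F32) =
        toM (powC (D.mats.getD k oneC) j) := by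
      intro j
      induction j with
      | zero => rw [powC, toM_one, pow_zero]; rfl
      | succ j ih =>
        rw [pow_succ, Matrix.SpecialLinearGroup.coe_mul, ih, coe_getD (List.all_eq_true.mpr hc),
          ← toM_mC]
        rfl
    refine congrArg τ (Subtype.ext ((hp n).trans ?_))
    rw [hexp _ (by rw [List.getD_eq_getElem _ _ (by omega)]; exact List.getElem_mem _), toM_one]
    rfl
  have hfd := fd_words τ gen D.words (hw0 ▸ hmem 0 hpos) hclo hnd hL hn hlen hexp'
  refine hfd.trans (congrArg List.sum (List.ext_getElem (by simp [hcl]) fun k h3 h4 => ?_))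
  have hk' : k < D.words.length := by simpa using h3
  obtain ⟨-, hf⟩ := hfus k hk'
  rw [List.getElem_map, List.getElem_map, ← List.getD_eq_getElem _ [] hk',
    ← List.getD_eq_getElem _ 0 (hcl.symm ▸ hk'), hw k hk']
  have e : τ (S (D.conj.getD k oneC) * S (D.mats.getD k oneC)) =
      τ (S (reps.getD (D.cls.getD k 0) oneC) * S (D.conj.getD k oneC)) := by
    refine congrArg τ (eq_of_coe (X := mC (D.conj.getD k oneC) (D.mats.getD k oneC)) ?_ ?_)
    · rw [Matrix.SpecialLinearGroup.coe_mul, coe_getD (List.all_eq_true.mpr hconj),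
        coe_getD (List.all_eq_true.mpr hc), toM_mC]
    · rw [Matrix.SpecialLinearGroup.coe_mul, coe_getD (List.all_eq_true.mpr hreps),
        coe_getD (List.all_eq_true.mpr hconj), hf, toM_mC]
  refine congrArg List.sum (List.map_congr_left fun p _ => ?_)
  have e' : τ (S (reps.getD (D.cls.getD k 0) oneC)) = τ (S (D.conj.getD k oneC)) *
      τ (S (D.mats.getD k oneC)) * (τ (S (D.conj.getD k oneC)))⁻¹ := by
    rw [← map_mul, e, map_mul, mul_inv_cancel_right]
  rw [map_pow, map_pow, e', conj_pow, fixEl_conj]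

end CfsgLib.E8Three.Small.L32
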