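import Cfsg.Agent.E8Three.Small.L32Basic

/-!
Certificates in coded subgroups of `SL(2, 32)`.
-/

set_option autoImplicit false
set_option linter.style.haveILetI false
set_option maxRecDepth 100000

namespace CfsgLib.E8Three.Small.L32

open Matrix

/-- The generators permute the list. -/
def shiftOk (Z gens : List Nat) (pi : List (List Nat)) : Bool :=
  Z.all chk && gens.all chk && (List.range gens.length).all fun i =>
    decide ((pi.getD i []).Perm (List.range Z.length)) &&
      (List.range Z.length).all fun j =>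
        mC (gens.getD i oneC) (Z.getD j oneC) == Z.getD ((pi.getD i []).getD j 0) oneC

/-- The translates. -/
def tr (Z : List Nat) (h : SL32) : List SL32 := Z.map fun z => S z * h

/-- The test of a one-sided certificate. -/
def certLeftOk (Z : List Nat) (D : Tab) (reps : List Nat)
    (terms : List (Nat × Nat × List (Nat × Nat))) : Bool :=
  Z.all chk && reps.all chk && decide (0 < reps.length) && decide (reps.getD 0 0 = oneC) &&
    (terms.all fun t => chk t.2.1 && decide (t.2.2.length = Z.length) &&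
      (List.range Z.length).all fun j =>
        decide ((t.2.2.getD j (0, 0)).1 < reps.length) &&
          mC t.2.1 (Z.getD j oneC) == mC (reps.getD (t.2.2.getD j (0, 0)).1 oneC)
            (D.mats.getD (t.2.2.getD j (0, 0)).2 oneC)) &&
    (List.range reps.length).all fun k =>
      (terms.map fun t => t.1 * t.2.2.countP fun x => x.1 == k).sum % 3 == if k = 0 then 1 else 0

/-- The test of a two-sided certificate. -/
def certTwoOk (Z₁ Z₂ : List Nat) (D : Tab) (reps : List Nat)
    (terms : List (Nat × Nat × Bool × Nat × List (Nat × Nat × Nat))) : Bool :=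
  Z₁.all chk && Z₂.all chk && reps.all chk && decide (0 < reps.length) &&
    decide (reps.getD 0 0 = oneC) &&
    (terms.all fun t =>
      chk t.2.1 && chk t.2.2.2.1 && decide (t.2.2.2.2.length = (cond t.2.2.1 Z₁ Z₂).length) &&
      (List.range (cond t.2.2.1 Z₁ Z₂).length).all fun j =>
        decide ((t.2.2.2.2.getD j (0, 0, 0)).1 < reps.length) &&
          mC t.2.1 (mC ((cond t.2.2.1 Z₁ Z₂).getD j oneC) t.2.2.2.1) ==
            mC (mC (D.mats.getD (t.2.2.2.2.getD j (0, 0, 0)).2.1 oneC)
              (reps.getD (t.2.2.2.2.getD j (0, 0, 0)).1 oneC))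
              (D.mats.getD (t.2.2.2.2.getD j (0, 0, 0)).2.2 oneC)) &&
    (List.range reps.length).all fun k =>
      (terms.map fun t => t.1 * t.2.2.2.2.countP fun x => x.1 == k).sum % 3 == if k = 0 then 1 else 0

variable {I : Type} [Fintype I] [DecidableEq I] (τ : SL32 →* GL I (ZMod 3))

theorem sumMap_tr (Z : List Nat) (h : SL32) (v : I → ZMod 3) :
    sumMap τ (tr Z h) v = sumMap τ (Z.map S) ((τ h : Matrix I I (ZMod 3)) *ᵥ v) := by
  rw [sumMap_apply, sumMap_apply, tr, List.map_map, List.map_map]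
  refine congrArg List.sum (List.map_congr_left fun z _ => ?_)
  simp [Matrix.mulVec_mulVec]

theorem shift_mem {Z gens : List Nat} {pi : List (List Nat)} (hp : shiftOk Z gens pi = true)
    (w : I → ZMod 3) : sumMap τ (Z.map S) w ∈ fixSub τ (subOf gens) := by
  simp only [shiftOk, Bool.and_eq_true, decide_eq_true_eq, List.all_eq_true, List.mem_range,
    beq_iff_eq] at hp
  obtain ⟨⟨hZ, hg⟩, hp⟩ := hp
  have hw : w ∈ fixSub τ (⊥ : Subgroup SL32) := (mem_fixSub τ).mpr fun a ha => by
    rw [Subgroup.mem_bot.mp ha, map_one, Units.val_one, Matrix.one_mulVec]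
  refine sumMap_mem τ hw _ _ fun i => ?_
  by_cases hi : i < gens.length
  · obtain ⟨hperm, he⟩ := hp i hi
    have hl : (pi.getD i []).length = Z.length := by have := hperm.length_eq; simpa using this
    refine ⟨(pi.getD i []).map fun j => S (Z.getD j oneC), ?_, ?_⟩
    · refine (hperm.map _).trans (List.Perm.of_eq ?_)
      refine List.ext_getElem (by simp) fun j h2 h3 => ?_
      simp only [List.getElem_map, List.getElem_range]
      rw [List.getD_eq_getElem]
    · refine List.forall₂_iff_get.mpr ⟨by simp only [List.length_map, hl], fun j h2 h3 => ?_⟩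
      have hj : j < Z.length := by simpa using h2
      refine ⟨1, one_mem _, congrArg τ ?_⟩
      rw [mul_one]
      simp only [List.get_eq_getElem, List.getElem_map]
      rw [← List.getD_eq_getElem _ oneC hj, ← List.getD_eq_getElem _ 0 (hl.symm ▸ hj)]
      refine eq_of_coe (X := Z.getD ((pi.getD i []).getD j 0) oneC) ?_ (coe_getD (List.all_eq_true.mpr hZ) _)
      rw [Matrix.SpecialLinearGroup.coe_mul, coe_getD (List.all_eq_true.mpr hg),
        coe_getD (List.all_eq_true.mpr hZ), ← toM_mC, he j hj]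
  · refine ⟨Z.map S, List.Perm.refl _, List.forall₂_same.mpr fun z _ => ⟨1, one_mem _, ?_⟩⟩
    rw [List.getD_eq_default _ _ (Nat.le_of_not_lt hi), S_one, one_mul, mul_one]

theorem fix_le_gen {g : Nat} :
    fixSub τ (subOf [g]) ≤ fixMat (τ (S g) : Matrix I I (ZMod 3)) := fun _ hv =>
  mem_fixMat.mpr ((mem_fixSub τ).mp hv _ (Subgroup.subset_closure ⟨0, rfl⟩))

theorem eq_zero_of_left {Z : List Nat} {D : Tab} {reps : List Nat}
    {terms : List (Nat × Nat × List (Nat × Nat))} (hD : D.tableOk = true)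
    (hc : certLeftOk Z D reps terms = true) {v : I → ZMod 3} (hv : v ∈ fixSub τ (subOf D.gens))
    (hann : sumMap τ (Z.map S) v = 0) : v = 0 := by
  have hm : D.mats.all chk = true := by
    have h' := hD
    simp only [Tab.tableOk, Bool.and_eq_true, decide_eq_true_eq] at h'
    exact h'.1.1.2
  simp only [certLeftOk, Bool.and_eq_true, decide_eq_true_eq, List.all_eq_true, List.mem_range,
    beq_iff_eq] at hc
  obtain ⟨⟨⟨⟨⟨hZ, hreps⟩, hM⟩, hr0⟩, hlab⟩, hco⟩ := hc
  let xs : Nat × Nat × List (Nat × Nat) → List (SL32 × ℕ) := fun t =>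
    (List.range Z.length).map fun j => (S (Z.getD j oneC), (t.2.2.getD j (0, 0)).1)
  refine eq_zero_of_cosets τ hv (fun k => S (reps.getD k oneC)) ?_ reps.length
    (terms.map fun t => ((t.1 : ZMod 3), S t.2.1, xs t)) ?_ ?_ ?_ hM
  · show τ (S (reps.getD 0 oneC)) = 1
    rw [List.getD_eq_getElem _ _ hM, ← List.getD_eq_getElem _ 0 hM, hr0, S_one, map_one]
  · intro t ht
    obtain ⟨u, hu, rfl⟩ := List.mem_map.mp ht
    have e : (xs u).map (fun x => x.1) = Z.map S := by
      refine List.ext_getElem (by simp [xs]) fun j h2 h3 => ?_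
      simp only [xs, List.getElem_map, List.getElem_range]
      rw [List.getD_eq_getElem]
    show sumMap τ ((xs u).map fun x => x.1) v = 0
    rw [e]
    exact hann
  · intro t ht x hx
    obtain ⟨u, hu, rfl⟩ := List.mem_map.mp ht
    obtain ⟨j, hj, rfl⟩ := List.mem_map.mp (hx : x ∈ xs u)
    obtain ⟨⟨hg, -⟩, hl⟩ := hlab u hu
    obtain ⟨hlt, he⟩ := hl j (List.mem_range.mp hj)
    refine ⟨hlt, _, Tab.mats_mem hD (u.2.2.getD j (0, 0)).2, congrArg τ
      (eq_of_coe (X := mC u.2.1 (Z.getD j oneC)) ?_ ?_)⟩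
    · rw [Matrix.SpecialLinearGroup.coe_mul, coe_S hg, coe_getD (List.all_eq_true.mpr hZ), toM_mC]
    · show ((S (reps.getD _ oneC) * S (D.mats.getD _ oneC) : SL32) :
        Matrix (Fin 2) (Fin 2) F32) = _
      rw [Matrix.SpecialLinearGroup.coe_mul, coe_getD (List.all_eq_true.mpr hreps), coe_getD hm, he,
        toM_mC]
  · intro k hk
    have h := congrArg (fun m : ℕ => (m : ZMod 3)) (hco k hk)
    simp only [ZMod.natCast_mod] at h
    have hcnt : ∀ t ∈ terms, (xs t).countP (fun x => x.2 == k) =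
        t.2.2.countP fun x => x.1 == k := by
      intro t ht
      obtain ⟨⟨-, hlen⟩, -⟩ := hlab t ht
      simp only [xs, List.countP_map]
      conv_rhs => rw [show t.2.2 = (List.range Z.length).map fun j => t.2.2.getD j (0, 0) from
        List.ext_getElem (by simp [hlen]) fun j h2 h3 => by
          simp only [List.getElem_map, List.getElem_range]; rw [List.getD_eq_getElem]]
      rw [List.countP_map]
      rfl
    rw [List.map_map, List.map_congr_left fun t ht => by
      show (t.1 : ZMod 3) * (((xs t).countP fun x => x.2 == k : ℕ) : ZMod 3) =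
        (((t.1 * t.2.2.countP fun x => x.1 == k) : ℕ) : ZMod 3)
      rw [hcnt t ht, Nat.cast_mul]]
    rw [Nat.cast_list_sum, List.map_map] at h
    rw [show (fun t : Nat × Nat × List (Nat × Nat) =>
      (((t.1 * t.2.2.countP fun x => x.1 == k) : ℕ) : ZMod 3)) = (fun m : ℕ => (m : ZMod 3)) ∘
        fun t => t.1 * t.2.2.countP fun x => x.1 == k from rfl, h]
    split_ifs <;> simp

theorem eq_zero_of_two {Z₁ Z₂ : List Nat} {D : Tab} {reps : List Nat}
    {terms : List (Nat × Nat × Bool × Nat × List (Nat × Nat × Nat))} (hD : D.tableOk = true)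
    (hc : certTwoOk Z₁ Z₂ D reps terms = true) (hlen : ¬ 3 ∣ D.words.length) {v : I → ZMod 3}
    (hv : v ∈ fixSub τ (subOf D.gens))
    (hann : ∀ t ∈ terms, sumMap τ (tr (cond t.2.2.1 Z₁ Z₂) (S t.2.2.2.1)) v = 0) : v = 0 := by
  have hm : D.mats.all chk = true := by
    have h' := hD
    simp only [Tab.tableOk, Bool.and_eq_true, decide_eq_true_eq] at h'
    exact h'.1.1.2
  simp only [certTwoOk, Bool.and_eq_true, decide_eq_true_eq, List.all_eq_true, List.mem_range,
    beq_iff_eq] at hc
  obtain ⟨⟨⟨⟨⟨⟨hZ₁, hZ₂⟩, hreps⟩, hM⟩, hr0⟩, hlab⟩, hco⟩ := hc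
  haveI : Finite SL32 := Subtype.finite
  let xs : Nat × Nat × Bool × Nat × List (Nat × Nat × Nat) → List (SL32 × ℕ) := fun t =>
    (List.range (cond t.2.2.1 Z₁ Z₂).length).map fun j =>
      (S ((cond t.2.2.1 Z₁ Z₂).getD j oneC), (t.2.2.2.2.getD j (0, 0, 0)).1)
  have hZ : ∀ b, (cond b Z₁ Z₂).all chk = true := by
    intro b
    cases b
    · exact List.all_eq_true.mpr hZ₂
    · exact List.all_eq_true.mpr hZ₁
  refine eq_zero_of_cert τ (by rw [Tab.card_sub hD]; exact hlen) hv (fun k => S (reps.getD k oneC))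
    ?_ reps.length (terms.map fun t => ((t.1 : ZMod 3), S t.2.1, xs t, S t.2.2.2.1)) ?_ ?_ ?_ hM
  · show S (reps.getD 0 oneC) = 1
    rw [List.getD_eq_getElem _ _ hM, ← List.getD_eq_getElem _ 0 hM, hr0, S_one]
  · intro t ht
    obtain ⟨u, hu, rfl⟩ := List.mem_map.mp ht
    have e : (xs u).map (fun x => x.1 * S u.2.2.2.1) = tr (cond u.2.2.1 Z₁ Z₂) (S u.2.2.2.1) := by
      refine List.ext_getElem (by simp [xs, tr]) fun j h2 h3 => ?_
      simp only [xs, tr, List.getElem_map, List.getElem_range]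
      rw [List.getD_eq_getElem]
    have h := hann u hu
    rw [← e, sumMap_apply, List.map_map] at h
    exact h
  · intro t ht x hx
    obtain ⟨u, hu, rfl⟩ := List.mem_map.mp ht
    obtain ⟨j, hj, rfl⟩ := List.mem_map.mp (hx : x ∈ xs u)
    obtain ⟨⟨⟨hg, hh⟩, -⟩, hl⟩ := hlab u hu
    obtain ⟨hlt, he⟩ := hl j (List.mem_range.mp hj)
    refine ⟨hlt, _, Tab.mats_mem hD (u.2.2.2.2.getD j (0, 0, 0)).2.1, _,
      Tab.mats_mem hD (u.2.2.2.2.getD j (0, 0, 0)).2.2,
      congrArg τ (eq_of_coe (X := mC u.2.1 (mC ((cond u.2.2.1 Z₁ Z₂).getD j oneC) u.2.2.2.1)) ?_ ?_)⟩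
    · show ((S u.2.1 * (S ((cond u.2.2.1 Z₁ Z₂).getD j oneC) * S u.2.2.2.1) : SL32) :
        Matrix (Fin 2) (Fin 2) F32) = _
      rw [Matrix.SpecialLinearGroup.coe_mul, Matrix.SpecialLinearGroup.coe_mul, coe_S hg, coe_S hh,
        coe_getD (hZ _), toM_mC, toM_mC]
    · show ((S (D.mats.getD _ oneC) * S (reps.getD _ oneC) * S (D.mats.getD _ oneC) : SL32) :
        Matrix (Fin 2) (Fin 2) F32) = _
      rw [Matrix.SpecialLinearGroup.coe_mul, Matrix.SpecialLinearGroup.coe_mul, coe_getD hm,
        coe_getD (List.all_eq_true.mpr hreps), coe_getD hm, he, toM_mC, toM_mC]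
  · intro k hk
    have h := congrArg (fun m : ℕ => (m : ZMod 3)) (hco k hk)
    simp only [ZMod.natCast_mod] at h
    have hcnt : ∀ t ∈ terms, (xs t).countP (fun x => x.2 == k) =
        t.2.2.2.2.countP fun x => x.1 == k := by
      intro t ht
      obtain ⟨⟨-, hlen⟩, -⟩ := hlab t ht
      simp only [xs, List.countP_map]
      conv_rhs => rw [show t.2.2.2.2 = (List.range (cond t.2.2.1 Z₁ Z₂).length).map
          fun j => t.2.2.2.2.getD j (0, 0, 0) from
        List.ext_getElem (by simp [hlen]) fun j h2 h3 => by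
          simp only [List.getElem_map, List.getElem_range]; rw [List.getD_eq_getElem]]
      rw [List.countP_map]
      rfl
    rw [List.map_map, List.map_congr_left fun t ht => by
      show (t.1 : ZMod 3) * (((xs t).countP fun x => x.2 == k : ℕ) : ZMod 3) =
        (((t.1 * t.2.2.2.2.countP fun x => x.1 == k) : ℕ) : ZMod 3)
      rw [hcnt t ht, Nat.cast_mul]]
    rw [Nat.cast_list_sum, List.map_map] at h
    rw [show (fun t : Nat × Nat × Bool × Nat × List (Nat × Nat × Nat) =>
      (((t.1 * t.2.2.2.2.countP fun x => x.1 == k) : ℕ) : ZMod 3)) = (fun m : ℕ => (m : ZMod 3)) ∘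
        fun t => t.1 * t.2.2.2.2.countP fun x => x.1 == k from rfl, h]
    split_ifs <;> simp

end CfsgLib.E8Three.Small.L32
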