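import Cfsg.Agent.E8Three.Small.L32Cert
import Cfsg.Agent.E8Three.Small.L32Data

/-!
The computations with coded subgroups of `SL(2, 32)`.
-/

set_option autoImplicit false
set_option maxRecDepth 100000

namespace CfsgLib.E8Three.Small.L32

theorem tE_table : tE.tableOk = true := by decide +kernel
theorem tE_class : tE.classOk reps 2 = true := by decide +kernel
theorem tD31_table : tD31.tableOk = true := by decide +kernel
theorem tD31_class : tD31.classOk reps 62 = true := by decide +kernel
theorem tD11_table : tD11.tableOk = true := by decide +kernel
theorem tD11_class : tD11.classOk reps 22 = true := by decide +kernel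

theorem lengths : tE.words.length = 32 ∧ tD31.words.length = 62 ∧ tD11.words.length = 22 ∧
    tB.words.length = 992 := by decide +kernel

theorem counts : (List.range 3).map (fun c => tE.cls.countP fun x => min x 2 == c) = [1, 31, 0] ∧
    (List.range 3).map (fun c => tD31.cls.countP fun x => min x 2 == c) = [1, 31, 30] ∧
    (List.range 3).map (fun c => tD11.cls.countP fun x => min x 2 == c) = [1, 11, 10] ∧
    (List.range 3).map (fun c => tB.cls.countP fun x => min x 2 == c) = [1, 31, 960] := by
  decide +kernel

theorem cls_range : (tE.cls ++ tD31.cls ++ tB.cls).all (fun c => decide (c < 32)) = true ∧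
    tD11.cls.all (fun c => decide (c < 2) || decide (32 ≤ c) && decide (c < 42)) = true := by
  decide +kernel

theorem gens_le : tE.gens.all (tB.gens.contains ·) = true ∧
    [reps.getD 2 oneC].all (tD31.gens.contains ·) = true := by decide +kernel

theorem rep_facts : reps.getD 0 oneC = oneC ∧ reps.all chk = true ∧
    mC (reps.getD 1 oneC) (reps.getD 1 oneC) = oneC ∧ reps.getD 1 oneC ≠ oneC ∧
    powC (reps.getD 2 oneC) 31 = oneC ∧ reps.getD 2 oneC ≠ oneC ∧
    powC (reps.getD 32 oneC) 11 = oneC ∧ reps.getD 32 oneC ≠ oneC := by decide +kernel

theorem rep_pows : ((List.range 30).all fun i => reps.getD (2 + i) oneC == powC (reps.getD 2 oneC) (i + 1)) = true ∧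
    ((List.range 10).all fun i => reps.getD (32 + i) oneC == powC (reps.getD 32 oneC) (i + 1)) = true := by
  decide +kernel

theorem shiftE_ok : shiftOk zE tE.gens shiftE = true := by decide +kernel
theorem shiftT_ok : shiftOk zT [reps.getD 2 oneC] shiftT = true := by decide +kernel
theorem shiftC_ok : shiftOk zC [reps.getD 32 oneC] shiftC = true := by decide +kernel
theorem certB_ok : certLeftOk zC tB repsB termsB = true := by decide +kernel
theorem certD_ok : certTwoOk zE zT tD11 repsD termsD = true := by decide +kernel
theorem hh_ok : (termsD.all fun t => t.2.2.1 || t.2.2.2.1 == hh) = true ∧ chk hh = true := by decide +kernel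

end CfsgLib.E8Three.Small.L32
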