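import Cfsg.Agent.E8Three.Small.L32Cert
import Cfsg.Agent.E8Three.Small.L32Data
import Cfsg.Agent.E8Three.Small.L32Checks

/-!
The table checks for the Borel subgroup of `SL(2, 32)`. The parts are decided one at a time,
and distinctness is decided on the residues modulo `1024`, to keep the memory needed small.
-/

set_option autoImplicit false
set_option maxRecDepth 100000
set_option Elab.async false

namespace CfsgLib.E8Three.Small.L32

/-- No entry is in the bit set `s` or repeats an earlier entry. -/
def distinctB : List Nat → Nat → Bool
  | [], _ => true
  | a :: l, s => !s.testBit a && distinctB l (s ||| 1 <<< a)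

theorem nodup_of_distinctB : ∀ {l : List Nat} {s : Nat}, distinctB l s = true →
    l.Nodup ∧ ∀ a ∈ l, s.testBit a = false
  | [], _, _ => ⟨List.nodup_nil, fun _ h => absurd h List.not_mem_nil⟩
  | a :: l, s, h => by
    simp only [distinctB, Bool.and_eq_true, Bool.not_eq_true'] at h
    obtain ⟨hn, hs⟩ := nodup_of_distinctB h.2
    refine ⟨List.nodup_cons.mpr ⟨fun ha => ?_, hn⟩, fun b hb => ?_⟩
    · have := hs a ha
      simp [Nat.shiftLeft_eq] at this
    · rcases List.mem_cons.mp hb with rfl | hb
      · exact h.1
      · have := hs b hb
        simp only [Nat.testBit_or, Bool.or_eq_false_iff] at this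
        exact this.1

theorem tB_head : (tB.gens.all chk && decide (0 < tB.words.length) &&
    decide (tB.words.getD 0 [] = []) && decide (tB.mats.length = tB.words.length) &&
    decide (tB.words.map (wordC tB.gens) = tB.mats) && tB.mats.all chk) = true := by
  decide +kernel

theorem tB_residues : distinctB (tB.mats.map (· % 1024)) 0 = true := by decide +kernel

theorem all_range_of_chunks {p : Nat → Bool}
    (h : ∀ c < 4, ((List.range 248).all fun j => p (248 * c + j)) = true) :
    (List.range tB.words.length).all p = true := by
  rw [lengths.2.2.2]
  refine List.all_eq_true.mpr fun k hk => ?_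
  have h' := List.all_eq_true.mp (h (k / 248) (by have := List.mem_range.mp hk; omega)) (k % 248)
    (List.mem_range.mpr (Nat.mod_lt _ (by omega)))
  rwa [Nat.div_add_mod] at h'

/-- The table of products is right at the place `k`. -/
def stepAt (k : Nat) : Bool := (List.range tB.gens.length).all fun i =>
    decide ((tB.nxt.getD k []).getD i tB.words.length < tB.words.length) &&
      mC (tB.mats.getD k oneC) (tB.gens.getD i oneC) ==
        tB.mats.getD ((tB.nxt.getD k []).getD i tB.words.length) oneC

theorem step0 : ((List.range 248).all fun j => stepAt (248 * 0 + j)) = true := by decide +kernel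
theorem step1 : ((List.range 248).all fun j => stepAt (248 * 1 + j)) = true := by decide +kernel
theorem step2 : ((List.range 248).all fun j => stepAt (248 * 2 + j)) = true := by decide +kernel
theorem step3 : ((List.range 248).all fun j => stepAt (248 * 3 + j)) = true := by decide +kernel

theorem tB_step : (List.range tB.words.length).all stepAt = true :=
  all_range_of_chunks fun c hc => by
    match c, hc with
    | 0, _ => exact step0
    | 1, _ => exact step1
    | 2, _ => exact step2
    | 3, _ => exact step3

theorem tB_table : tB.tableOk = true := by
  have hN : tB.mats.Nodup := List.Nodup.of_map _ (nodup_of_distinctB tB_residues).1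
  have hS := tB_step
  unfold stepAt at hS
  simp only [Tab.tableOk, tB_head, decide_eq_true hN, hS, Bool.and_self]

theorem tB_pow : (reps.all chk && (tB.mats.all fun A => powC A 62 == oneC) &&
    decide (tB.cls.length = tB.words.length) && decide (tB.conj.length = tB.words.length) &&
    tB.conj.all chk) = true := by decide +kernel

/-- The classes are right at the place `k`. -/
def conjAt (k : Nat) : Bool :=
    decide (tB.cls.getD k 0 < reps.length) &&
      mC (tB.conj.getD k oneC) (tB.mats.getD k oneC) ==
        mC (reps.getD (tB.cls.getD k 0) oneC) (tB.conj.getD k oneC)

theorem conj0 : ((List.range 248).all fun j => conjAt (248 * 0 + j)) = true := by decide +kernel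
theorem conj1 : ((List.range 248).all fun j => conjAt (248 * 1 + j)) = true := by decide +kernel
theorem conj2 : ((List.range 248).all fun j => conjAt (248 * 2 + j)) = true := by decide +kernel
theorem conj3 : ((List.range 248).all fun j => conjAt (248 * 3 + j)) = true := by decide +kernel

theorem tB_conj : (List.range tB.words.length).all conjAt = true :=
  all_range_of_chunks fun c hc => by
    match c, hc with
    | 0, _ => exact conj0
    | 1, _ => exact conj1
    | 2, _ => exact conj2
    | 3, _ => exact conj3

theorem tB_class : tB.classOk reps 62 = true := by
  have hC := tB_conj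
  unfold conjAt at hC
  simp only [Tab.classOk, tB_pow, hC, Bool.and_self]

end CfsgLib.E8Three.Small.L32
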