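import Cfsg.Agent.E8Three.Spec.Elem
import Cfsg.Agent.E8Three.Small.FixCount

/-!
The fixed spaces of the powers of a semisimple element of `E₈(3)` in terms of class vectors.
-/

set_option autoImplicit false
set_option linter.style.haveILetI false
set_option linter.unusedSectionVars false

namespace CfsgLib.E8Three.Small

open Cfsg.Lie

/-- The fixed multiplicity of the `e`-th power. -/
def fixPow (n : ℕ) (v : List ℕ) (e : ℕ) : ℕ :=
  (((List.range n).filter fun k => e * k % n == 0).map fun k => v.getD k 0).sum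

theorem class_fix {n : ℕ} (hn : ¬ 3 ∣ n) {x : GL chevE8.Idx (ZMod 3)}
    (hx : x ∈ chevE8.group (ZMod 3)) (hxn : x ^ n = 1) :
    ∃ v ∈ classVecs n, ∀ e, fixEl ((x ^ e : GL chevE8.Idx (ZMod 3)) :
      Matrix chevE8.Idx chevE8.Idx (ZMod 3)) = fixPow n v e := by
  classical
  haveI : Fact (Nat.Prime 3) := ⟨Nat.prime_three⟩
  have hn0 : n ≠ 0 := fun e => hn (e ▸ dvd_zero 3)
  let K := AlgebraicClosure (ZMod 3)
  haveI : CharP K 3 := charP_of_injective_ringHom (algebraMap (ZMod 3) K).injective 3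
  haveI : NeZero ((n : ℕ) : K) := ⟨by rwa [Ne, CharP.cast_eq_zero_iff K 3]⟩
  obtain ⟨ξ, hξ⟩ := HasEnoughRootsOfUnity.exists_primitiveRoot K n
  obtain ⟨b, he, hinv⟩ := toral_eig hn hξ hx hxn
  have h1 := he 1
  simp only [pow_one, Nat.cast_one, one_mul] at h1
  refine ⟨_, eig_mem_classVecs hn hξ hx hxn, fun e => ?_⟩
  rw [fixEl_eq_count (K := K) hn (by rw [← pow_mul, mul_comm, pow_mul, hxn, one_pow]),
    show ((((x ^ e : GL chevE8.Idx (ZMod 3)) : Matrix chevE8.Idx chevE8.Idx (ZMod 3)).map
      (algebraMap (ZMod 3) K)).charpoly.roots.count 1) =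
      (eig K ((x ^ e : GL chevE8.Idx (ZMod 3)) : Matrix chevE8.Idx chevE8.Idx (ZMod 3))).count 1
      from rfl, he, Multiset.count_map, ← Finset.filter_val, Finset.card_val, fixPow,
    ← List.sum_toFinset _ (List.nodup_range.filter _), List.toFinset_filter, List.toFinset_range,
    Finset.card_eq_sum_card_fiberwise (f := fun i => ((expVec b i) % (n : ℤ)).toNat)
      (t := (Finset.range n).filter fun k => (e * k % n == 0) = true)]
  · refine Finset.sum_congr rfl fun k hk => ?_
    simp only [Finset.mem_filter, Finset.mem_range, beq_iff_eq] at hk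
    rw [List.getD_eq_getElem _ _ (by simpa using hk.1), List.getElem_map, List.getElem_range, h1,
      ← zpow_natCast ξ k, count_eig hn0 hξ, cnt]
    refine congrArg Finset.card (Finset.ext fun i => ?_)
    simp only [Finset.mem_filter, Finset.mem_univ, true_and]
    have hnz : (0 : ℤ) < n := by omega
    have hmod : ((expVec b i % (n : ℤ)).toNat : ℤ) = expVec b i % (n : ℤ) :=
      Int.toNat_of_nonneg (Int.emod_nonneg _ hnz.ne')
    constructor
    · rintro ⟨-, h⟩
      rw [← h, hmod]
      exact Int.dvd_self_sub_of_emod_eq rfl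
    · intro h
      have hk' : expVec b i % (n : ℤ) = (k : ℤ) := by
        rw [Int.emod_eq_emod_iff_emod_sub_eq_zero.mpr (Int.emod_eq_zero_of_dvd h),
          Int.emod_eq_of_lt (by omega) (by exact_mod_cast hk.1)]
      refine ⟨(((hξ.zpow_eq_one_iff_dvd _).mpr ?_)).symm, by omega⟩
      have hd : (n : ℤ) ∣ (e : ℤ) * k := by
        exact_mod_cast Nat.dvd_of_mod_eq_zero hk.2
      have := dvd_add (h.mul_left (e : ℤ)) hd
      rwa [← mul_add, sub_add_cancel] at this
  · intro i hi
    simp only [Finset.coe_filter, Finset.mem_univ, true_and, Set.mem_setOf_eq] at hi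
    simp only [Finset.coe_filter, Finset.mem_range, Set.mem_setOf_eq, beq_iff_eq]
    have hnz : (0 : ℤ) < n := by omega
    have hmod : ((expVec b i % (n : ℤ)).toNat : ℤ) = expVec b i % (n : ℤ) :=
      Int.toNat_of_nonneg (Int.emod_nonneg _ hnz.ne')
    refine ⟨by have := Int.emod_lt_of_pos (expVec b i) hnz; omega, ?_⟩
    apply Nat.mod_eq_zero_of_dvd
    rw [← Int.natCast_dvd_natCast, Nat.cast_mul, hmod]
    have hd : (n : ℤ) ∣ (e : ℤ) * expVec b i := (hξ.zpow_eq_one_iff_dvd _).mp hi.symm
    have h2 : (n : ℤ) ∣ expVec b i - expVec b i % (n : ℤ) := Int.dvd_self_sub_of_emod_eq rfl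
    have := dvd_sub hd (h2.mul_left (e : ℤ))
    rwa [← mul_sub, sub_sub_cancel] at this

end CfsgLib.E8Three.Small
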