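import Cfsg.Agent.E8Three.Small.L32Checks
import Cfsg.Agent.E8Three.Small.L32CheckB
import Cfsg.Agent.E8Three.Small.Rep
import Mathlib.FieldTheory.Finite.GaloisField
import Mathlib.LinearAlgebra.Matrix.ProjectiveSpecialLinearGroup

/-!
`E₈(3)` has no subgroup `PSL₂(32)`.
-/

set_option autoImplicit false
set_option linter.style.haveILetI false

namespace CfsgLib.E8Three.Small.L32

open Cfsg.Lie Matrix CfsgLib.E8Three

theorem filt {p : ℕ} (h : ((List.range p).all fun e => e == 0 ||
    ((List.range p).filter fun k => e * k % p == 0) == [0]) = true) (hp : 0 < p) (v : List ℕ) {e : ℕ}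
    (he : ¬ p ∣ e) : fixPow p v e = v.getD 0 0 := by
  have h' := List.all_eq_true.mp h (e % p) (List.mem_range.mpr (Nat.mod_lt _ hp))
  simp only [Bool.or_eq_true, beq_iff_eq] at h'
  have hne : e % p ≠ 0 := fun h0 => he (Nat.dvd_of_mod_eq_zero h0)
  have h'' := h'.resolve_left hne
  rw [fixPow, show ((List.range p).filter fun k => e * k % p == 0) = [0] by
    rw [← h'']; simp [Nat.mul_mod]]
  simp

theorem cls11 : (classVecs 11).all (fun v => [28, 248].contains (v.getD 0 0)) = true := by
  decide +kernel

theorem cls2 : (classVecs 2).all (fun v => [120, 136, 248].contains (fixPow 2 v 1)) = true := by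
  decide +kernel

theorem orbit31 : ((List.range 31).all fun k => k == 0 ||
    (List.range 30).any fun j => 3 ^ j % 31 == k) = true := by decide +kernel

theorem cube31 {v : List ℕ} (h : cubeInv 31 v = true) {k : ℕ} (hk : k < 31) (hk0 : k ≠ 0) :
    v.getD k 0 = v.getD 1 0 := by
  simp only [cubeInv, List.all_eq_true, List.mem_range, beq_iff_eq] at h
  have hj : ∀ j, v.getD (3 ^ j % 31) 0 = v.getD 1 0 := by
    intro j
    induction j with
    | zero => rfl
    | succ j ih =>
      rw [← ih, h (3 ^ j % 31) (Nat.mod_lt _ (by norm_num)), pow_succ, Nat.mul_mod_mod, mul_comm]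
  have h' := List.all_eq_true.mp orbit31 k (List.mem_range.mpr hk)
  simp only [Bool.or_eq_true, beq_iff_eq, hk0, false_or, List.any_eq_true] at h'
  obtain ⟨j, -, rfl⟩ := h'
  exact hj j

theorem sum31 (a b : ℕ) : ((List.range 31).map fun k => if k = 0 then a else b).sum = a + 30 * b := by
  have key : ∀ n, ((List.range (n + 1)).map fun k => if k = 0 then a else b).sum = a + n * b := by
    intro n
    induction n with
    | zero => simp [List.range_succ]
    | succ n ih =>
      rw [List.range_succ, List.map_append, List.sum_append, ih, List.map_singleton, List.sum_singleton,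
        if_neg (Nat.succ_ne_zero n), Nat.succ_mul, Nat.add_assoc]
  exact key 30

/-- The fixed dimension of a power of an element of prime order. -/
def powFix (p f d : ℕ) : ℕ := if p ∣ d then 248 else f

/-- The averaged trace of an element of prime order. -/
def cycV (n : ℕ) (L : List (ℕ × ℤ)) (p f : ℕ) : ℤ :=
  (L.map fun x => x.2 * ((n / x.1 : ℕ) : ℤ) * (powFix p f x.1 : ℤ)).sum

variable (τ : SL32 →* GL chevE8.Idx (ZMod 3))

theorem cyc_prime {a : SL32} {p f : ℕ} (hp : p.Prime)
    (hf : ∀ e, fixEl ((τ a ^ e : GL chevE8.Idx (ZMod 3)) : Matrix chevE8.Idx chevE8.Idx (ZMod 3)) =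
      powFix p f e) (n : ℕ) (L : List (ℕ × ℤ)) {m : ℕ} (hm : ¬ p ∣ m) :
    cycT n L τ (a ^ m) = cycV n L p f := by
  refine congrArg List.sum (List.map_congr_left fun x _ => ?_)
  rw [← pow_mul, map_pow, hf]
  simp only [powFix, hp.dvd_mul, hm, false_or]

theorem sum_three (g : ℕ → ℤ) (A : ℕ → ℤ) : ∀ l : List ℕ, (∀ c ∈ l, g c = A (min c 2)) →
    (l.map g).sum = ∑ j ∈ Finset.range 3, (l.countP (fun x => min x 2 == j) : ℤ) * A j := by
  intro l
  induction l with
  | nil => simp
  | cons x l ih =>
    intro hl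
    rw [List.map_cons, List.sum_cons, ih fun z hz => hl z (List.mem_cons_of_mem _ hz),
      hl x List.mem_cons_self]
    simp only [List.countP_cons, Nat.cast_add, add_mul, Finset.sum_add_distrib]
    rw [add_comm]
    congr 1
    rw [Finset.sum_eq_single (min x 2) (fun k _ hk => by simp [Ne.symm hk])
      fun h => absurd (Finset.mem_range.mpr (by omega)) h]
    simp

variable (hinj : Function.Injective τ) (hτ : ∀ g, τ g ∈ chevE8.group (ZMod 3))

include hinj hτ in
theorem prime_elt {p : ℕ} (hp : ¬ 3 ∣ p) {X : Nat} (hX : chk X = true) (hpow : powC X p = oneC) :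
    ∃ v ∈ classVecs p,
      (∀ e, fixEl ((τ (S X) ^ e : GL chevE8.Idx (ZMod 3)) : Matrix chevE8.Idx chevE8.Idx (ZMod 3)) =
        fixPow p v e) ∧ fixPow p v 0 = 248 ∧ (X ≠ oneC → X < 1048576 → fixPow p v 1 ≠ 248) := by
  have hS : S X ^ p = 1 := by
    have hp' : ∀ j, ((S X ^ j : SL32) : Matrix (Fin 2) (Fin 2) F32) = toM (powC X j) := by
      intro j
      induction j with
      | zero => rw [powC, toM_one, pow_zero]; rfl
      | succ j ih =>
        rw [pow_succ, Matrix.SpecialLinearGroup.coe_mul, ih, coe_S hX, ← toM_mC]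
        rfl
    refine Subtype.ext ((hp' p).trans ?_)
    rw [hpow, toM_one]
    rfl
  obtain ⟨v, hv, hfix⟩ := class_fix hp (hτ (S X)) (by rw [← map_pow, hS, map_one])
  refine ⟨v, hv, hfix, ?_, fun hne hlt h => ?_⟩
  · rw [← hfix 0, pow_zero, Units.val_one, fixEl_one]
  · have h1 : τ (S X) = 1 := eq_one_of_fixEl (by have := hfix 1; rw [pow_one] at this; rw [this, h])
    have h2 : S X = 1 := hinj (by rw [h1, map_one])
    refine hne (toM_inj hlt (by norm_num [oneC]) ?_)
    rw [← coe_S hX, h2, toM_one]
    rfl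

set_option maxHeartbeats 1000000 in
include hinj hτ in
theorem false_of_rep : False := by
  classical
  haveI : Fact (Nat.Prime 3) := ⟨Nat.prime_three⟩
  obtain ⟨hR0, hreps, h1sq, h1ne, h31, h31ne, h11, h11ne⟩ := rep_facts
  set R : ℕ → Nat := fun k => reps.getD k oneC with hR
  have hRc : ∀ k, chk (R k) = true := fun k => by
    by_cases hk : k < reps.length
    · rw [hR]; simp only [List.getD_eq_getElem _ _ hk]
      exact List.all_eq_true.mp hreps _ (List.getElem_mem _)
    · rw [hR]; simp only [List.getD_eq_default _ _ (Nat.le_of_not_lt hk)]; decide +kernel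
  have hlt : ∀ k, R k < 1048576 := fun k => by
    have := hRc k
    simp only [chk, Bool.and_eq_true, decide_eq_true_eq] at this
    exact this.1
  obtain ⟨w, hw, hfw, hw0, hw1⟩ := prime_elt τ hinj hτ (p := 2) (by norm_num) (hRc 1)
    (by simpa [powC] using (show mC (mC oneC (R 1)) (R 1) = oneC by
      have e : mC oneC (R 1) = R 1 := by decide +kernel
      rw [e]; exact h1sq))
  set b := fixPow 2 w 1
  have hb : b = 120 ∨ b = 136 := by
    have h := List.all_eq_true.mp cls2 w hw
    simp only [List.contains_iff_mem, List.mem_cons, List.not_mem_nil, or_false] at h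
    have := hw1 h1ne (hlt 1)
    omega
  have hf2 : ∀ e, fixEl ((τ (S (R 1)) ^ e : GL chevE8.Idx (ZMod 3)) :
      Matrix chevE8.Idx chevE8.Idx (ZMod 3)) = powFix 2 b e := by
    intro e
    rw [hfw, powFix]
    by_cases he : 2 ∣ e
    · obtain ⟨k, rfl⟩ := he
      rw [if_pos (dvd_mul_right 2 k), ← hw0]
      simp [fixPow, mul_assoc]
    · rw [if_neg he, filt (by decide +kernel) (by norm_num) w he]
      exact (filt (by decide +kernel) (by norm_num) w (by norm_num)).symm
  obtain ⟨v, hv, hfv, hv0, hv1⟩ := prime_elt τ hinj hτ (p := 31) (by norm_num) (hRc 2) h31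
  set f := v.getD 0 0
  have hfp : ∀ e, fixEl ((τ (S (R 2)) ^ e : GL chevE8.Idx (ZMod 3)) :
      Matrix chevE8.Idx chevE8.Idx (ZMod 3)) = powFix 31 f e := by
    intro e
    rw [hfv, powFix]
    by_cases he : 31 ∣ e
    · obtain ⟨k, rfl⟩ := he
      rw [if_pos (dvd_mul_right 31 k), ← hv0]
      simp [fixPow, mul_assoc]
    · rw [if_neg he, filt (by decide +kernel) (by norm_num) v he]
  have hfne : f ≠ 248 := fun h => hv1 h31ne (hlt 2) (by
    rw [filt (by decide +kernel) (by norm_num) v (by norm_num)]; exact h)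
  have hfmod : f + 30 * v.getD 1 0 = 248 := by
    rw [← hv0, fixPow, List.filter_eq_self.mpr (by simp),
      List.map_congr_left (g := fun k => if k = 0 then f else v.getD 1 0) fun k hk => ?_]
    · rw [sum31]
    · split_ifs with h0
      · rw [h0]
      · exact cube31 (List.mem_filter.mp hv).2 (List.mem_range.mp hk) h0
  obtain ⟨u, hu, hfu, hu0, hu1⟩ := prime_elt τ hinj hτ (p := 11) (by norm_num) (hRc 32) h11
  have hft : ∀ e, fixEl ((τ (S (R 32)) ^ e : GL chevE8.Idx (ZMod 3)) :
      Matrix chevE8.Idx chevE8.Idx (ZMod 3)) = powFix 11 28 e := by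
    intro e
    have h := List.all_eq_true.mp cls11 u hu
    simp only [List.contains_iff_mem, List.mem_cons, List.not_mem_nil, or_false] at h
    have hne := hu1 h11ne (hlt 32)
    rw [filt (by decide +kernel) (by norm_num) u (by norm_num)] at hne
    rw [hfu, powFix]
    by_cases he : 11 ∣ e
    · obtain ⟨k, rfl⟩ := he
      rw [if_pos (dvd_mul_right 11 k), ← hu0]
      simp [fixPow, mul_assoc]
    · rw [if_neg he, filt (by decide +kernel) (by norm_num) u he]
      omega
  -- the class functions
  have hpowS : ∀ X j, chk X = true → S X ^ j = S (powC X j) ∨ chk (powC X j) = false := by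
    intro X j hX
    cases hc : chk (powC X j) with
    | false => exact Or.inr rfl
    | true =>
      refine Or.inl (Subtype.ext ?_)
      rw [coe_S hc]
      clear hc
      induction j with
      | zero => rw [powC, toM_one, pow_zero]; rfl
      | succ j ih => rw [pow_succ, Matrix.SpecialLinearGroup.coe_mul, ih, coe_S hX, ← toM_mC]; rfl
  have hrep2 : ∀ c, 2 ≤ c → c < 32 → S (R c) = S (R 2) ^ (c - 1) := by
    intro c h1 h2
    have h := List.all_eq_true.mp rep_pows.1 (c - 2) (List.mem_range.mpr (by omega))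
    rw [beq_iff_eq, show 2 + (c - 2) = c by omega, show c - 2 + 1 = c - 1 by omega] at h
    have hc := hRc c
    simp only [hR] at hc ⊢
    rw [h] at hc ⊢
    exact ((hpowS _ _ (hRc 2)).resolve_right (by rw [hc]; simp)).symm
  have hrep32 : ∀ c, 32 ≤ c → c < 42 → S (R c) = S (R 32) ^ (c - 31) := by
    intro c h1 h2
    have h := List.all_eq_true.mp rep_pows.2 (c - 32) (List.mem_range.mpr (by omega))
    rw [beq_iff_eq, show 32 + (c - 32) = c by omega, show c - 32 + 1 = c - 31 by omega] at h
    have hc := hRc c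
    simp only [hR] at hc ⊢
    rw [h] at hc ⊢
    exact ((hpowS _ _ (hRc 32)).resolve_right (by rw [hc]; simp)).symm
  let A : ℕ → ℕ → List (ℕ × ℤ) → ℕ → ℕ → ℕ → ℤ := fun n _ L p g j =>
    if j = 0 then cycV n L 1 0 else if j = 1 then cycV n L 2 b else cycV n L p g
  have hA : ∀ n L c, (c < 32 → cycT n L τ (S (R c)) = A n 0 L 31 f (min c 2)) ∧
      (c < 2 ∨ (32 ≤ c ∧ c < 42) → cycT n L τ (S (R c)) = A n 0 L 11 28 (min c 2)) := by
    intro n L c
    have h0 : cycT n L τ (S (R 0)) = cycV n L 1 0 := by
      refine congrArg List.sum (List.map_congr_left fun x _ => ?_)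
      simp only [hR, hR0, S_one, one_pow, map_one, Units.val_one, fixEl_one, powFix, one_dvd, if_true]
    have h1 : cycT n L τ (S (R 1)) = cycV n L 2 b := by
      have := cyc_prime τ Nat.prime_two hf2 n L (m := 1) (by norm_num)
      rwa [pow_one] at this
    rcases Nat.lt_or_ge c 2 with hc | hc
    · interval_cases c
      · exact ⟨fun _ => h0, fun _ => h0⟩
      · exact ⟨fun _ => h1, fun _ => h1⟩
    · have hm : min c 2 = 2 := by omega
      refine ⟨fun h => ?_, fun h => ?_⟩
      · rw [hrep2 c hc h, hm]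
        exact cyc_prime τ (by norm_num) hfp n L (fun hd => by
          have := Nat.le_of_dvd (by omega) hd; omega)
      · obtain ⟨h3, h4⟩ : 32 ≤ c ∧ c < 42 := h.resolve_left (by omega)
        rw [hrep32 c h3 h4, hm]
        exact cyc_prime τ (by norm_num) hft n L (fun hd => by
          have := Nat.le_of_dvd (by omega) hd; omega)
  obtain ⟨lE, l31, l11, lB⟩ := lengths
  obtain ⟨cE, c31, c11, cB⟩ := counts
  simp only [List.range_succ, List.range_zero, List.nil_append, List.map_cons,
    List.map_nil, List.cons_append, List.cons.injEq, and_true] at cE c31 c11 cB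
  obtain ⟨hlt32, hlt11⟩ := cls_range
  have dE := fd_tab τ hinj tE (reps := reps) (n := 2) (L := [(1, 1), (2, -1)])
    tE_table tE_class (by decide +kernel) (by norm_num) (by rw [lE]; norm_num)
  rw [sum_three _ (A 2 0 [(1, 1), (2, -1)] 31 f) _ fun c hc => (hA _ _ c).1
    (of_decide_eq_true (List.all_eq_true.mp hlt32 c (by simp [hc])))] at dE
  have dD := fd_tab τ hinj tD31 (reps := reps) (n := 62) (L := [(1, 1), (2, -1), (31, -1), (62, 1)])
    tD31_table tD31_class (by decide +kernel) (by norm_num) (by rw [l31]; norm_num)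
  rw [sum_three _ (A 62 0 [(1, 1), (2, -1), (31, -1), (62, 1)] 31 f) _ fun c hc => (hA _ _ c).1
    (of_decide_eq_true (List.all_eq_true.mp hlt32 c (by simp [hc])))] at dD
  have dB := fd_tab τ hinj tB (reps := reps) (n := 62) (L := [(1, 1), (2, -1), (31, -1), (62, 1)])
    tB_table tB_class (by decide +kernel) (by norm_num) (by rw [lB]; norm_num)
  rw [sum_three _ (A 62 0 [(1, 1), (2, -1), (31, -1), (62, 1)] 31 f) _ fun c hc => (hA _ _ c).1
    (of_decide_eq_true (List.all_eq_true.mp hlt32 c (by simp [hc])))] at dB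
  have dT := fd_tab τ hinj tD11 (reps := reps) (n := 22) (L := [(1, 1), (2, -1), (11, -1), (22, 1)])
    tD11_table tD11_class (by decide +kernel) (by norm_num) (by rw [l11]; norm_num)
  rw [sum_three _ (A 22 0 [(1, 1), (2, -1), (11, -1), (22, 1)] 11 28) _ fun c hc => (hA _ _ c).2
    (by
      have h := List.all_eq_true.mp hlt11 c hc
      simp only [Bool.or_eq_true, Bool.and_eq_true, decide_eq_true_eq] at h
      exact h)] at dT
  simp only [Finset.sum_range_succ, Finset.sum_range_zero, zero_add, cE, c31, c11, cB, lE, l31, l11,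
    lB, show (cop 2).length = 1 by decide +kernel, show (cop 62).length = 30 by decide +kernel,
    show (cop 22).length = 10 by decide +kernel, A, cycV, powFix, List.map_cons, List.map_nil,
    List.sum_cons, List.sum_nil] at dE dD dB dT
  norm_num at dE dD dB dT
  have hBE : Module.finrank (ZMod 3) (fixSub τ (subOf tB.gens)) ≤
      Module.finrank (ZMod 3) (fixSub τ (subOf tE.gens)) :=
    Submodule.finrank_mono (fixSub_anti τ (subOf_mono gens_le.1))
  have hC31 : ∀ {T : Subgroup SL32}, fixSub τ T ≤ fixSub τ (subOf [R 2]) →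
      Module.finrank (ZMod 3) (fixSub τ T) ≤ f := by
    intro T hle
    refine (Submodule.finrank_mono (hle.trans (fix_le_gen τ))).trans (le_of_eq ?_)
    have := hfp 1
    rw [pow_one] at this
    rw [← fixEl, this]
    simp [powFix]
  have hDf := hC31 (fixSub_anti τ (subOf_mono gens_le.2))
  have hCf : Module.finrank (ZMod 3) (fixSub τ (subOf [R 32])) ≤ 28 := by
    refine (Submodule.finrank_mono (fix_le_gen τ)).trans (le_of_eq ?_)
    have := hft 1
    rw [pow_one] at this
    rw [← fixEl, this]
    simp [powFix]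
  rcases hb with hb | hb
  · -- trace -8
    have h0 : Module.finrank (ZMod 3) (fixSub τ (subOf tE.gens)) = 0 := by omega
    have hbot : fixSub τ (subOf tE.gens) = ⊥ := Submodule.finrank_eq_zero.mp h0
    have hlt' : Module.finrank (ZMod 3) (fixSub τ (subOf [R 2])) <
        Module.finrank (ZMod 3) (fixSub τ (subOf tD11.gens)) := by
      have := hC31 (le_refl (fixSub τ (subOf [R 2])))
      omega
    obtain ⟨x, hx, hx0, hz⟩ := exists_ker τ (S := subOf tD11.gens) (T := subOf [R 2]) (tr zT (S hh))
      (fun x _ => by rw [sumMap_tr]; exact shift_mem τ shiftT_ok _) hlt'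
    refine hx0 (eq_zero_of_two τ tD11_table certD_ok (by rw [l11]; norm_num) hx fun t ht => ?_)
    cases hflag : t.2.2.1 with
    | true =>
      have := shift_mem τ shiftE_ok ((τ (S t.2.2.2.1) : Matrix chevE8.Idx chevE8.Idx (ZMod 3)) *ᵥ x)
      rw [hbot, Submodule.mem_bot, ← sumMap_tr] at this
      exact this
    | false =>
      have := List.all_eq_true.mp hh_ok.1 t ht
      simp only [hflag, Bool.false_or, beq_iff_eq] at this
      rw [this]
      exact hz
  · -- trace 24
    have hlt' : Module.finrank (ZMod 3) (fixSub τ (subOf [R 32])) <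
        Module.finrank (ZMod 3) (fixSub τ (subOf tB.gens)) := by omega
    obtain ⟨x, hx, hx0, hz⟩ := exists_ker τ (S := subOf tB.gens) (T := subOf [R 32]) (zC.map S)
      (fun x _ => shift_mem τ shiftC_ok x) hlt'
    exact hx0 (eq_zero_of_left τ tB_table certB_ok hx hz)

end CfsgLib.E8Three.Small.L32

namespace CfsgLib.E8Three.Small

open Cfsg.Lie

/-- The group `E₈(3)` has no subgroup isomorphic to `PSL₂(32)`. -/
theorem no_psl232 {F : Type*} [Field F] [Fintype F] (hF : Fintype.card F = 32)
    (H : Subgroup ↥(chevE8.group (ZMod 3))) :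
    IsEmpty (↥H ≃* Matrix.ProjectiveSpecialLinearGroup (Fin 2) F) := by
  refine ⟨fun e => ?_⟩
  obtain ⟨τ, hτ, hker⟩ := exists_rep_quot (G := Matrix.SpecialLinearGroup (Fin 2) F)
    (N := Subgroup.center _) e
  let r : L32.F32 ≃+* F := FiniteField.ringEquivOfCardEq (by rw [L32.F32.card_eq, hF])
  let φ : L32.SL32 ≃* Matrix.SpecialLinearGroup (Fin 2) F :=
    { toFun := Matrix.SpecialLinearGroup.map (r : L32.F32 →+* F)
      invFun := Matrix.SpecialLinearGroup.map (r.symm : F →+* L32.F32)
      left_inv := fun g => Subtype.ext (Matrix.ext fun i j => r.symm_apply_apply _)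
      right_inv := fun g => Subtype.ext (Matrix.ext fun i j => r.apply_symm_apply _)
      map_mul' := map_mul _ }
  refine L32.false_of_rep (τ.comp φ.toMonoidHom)
    ((injective_iff_map_eq_one _).mpr fun g hg => ?_) (fun g => hτ _)
  have hc : φ g ∈ Subgroup.center (Matrix.SpecialLinearGroup (Fin 2) F) := (hker _).mp hg
  refine L32.center_trivial (Subgroup.mem_center_iff.mpr fun h => φ.injective ?_)
  rw [map_mul, map_mul]
  exact Subgroup.mem_center_iff.mp hc _

end CfsgLib.E8Three.Small
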