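import Cfsg.Agent.E8Three.Small.Cyclo
import Cfsg.Agent.E8Three.L2.Bridge
import Cfsg.Agent.E8Three.Cent

/-!
Fusion in the torus is induced by the Weyl group, and `E₈(3)` has no subgroup `PSL₂(41)`.
-/

set_option autoImplicit false
set_option linter.style.haveILetI false
set_option linter.unusedSectionVars false

namespace CfsgLib.E8Three.Small

open Cfsg.Lie CfsgLib.Chev CfsgLib.Chev.Tab Matrix

section Fusion

variable {D : ChevalleyDatum} {T : Tab D} (G : T.Good) {F : Type*} [Field F]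
include G

theorem torus_fusion [Fintype F] {M₀ : List (List ℤ)} (hM₀ : T.chkSC M₀ = true)
    {c c' : Fin D.rank → Fˣ} {y : GL D.Idx F} (hy : y ∈ D.group F)
    (h : y * T.hT F c = T.hT F c' * y) :
    ∃ L : List (Fin D.rank), ∀ s : Fin D.nroots,
      T.chi (F := F) (G.full.pw L s).val c' = T.chi (F := F) s.val c := by
  classical
  have hinj : Function.Injective (T.hT F) := (injective_iff_map_eq_one _).mpr fun a ha =>
    G.sc_hT_inj hM₀ ha
  obtain ⟨v, hv, a, L, hL, u, hu, rfl⟩ := levi_form G (group_le_levi_univ G hy)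
  obtain ⟨e, he⟩ := G.nw_hT (F := F) L c
  refine ⟨L, fun s => ?_⟩
  have hd : ∀ b, T.hT F b ∈ D.diagonalSubgroup F := fun b => by
    rw [G.full.diagonal_eq_range]; exact ⟨b, rfl⟩
  have hvp : v ∈ D.posUnipotent F := US_le_pos G (fun s hs => hs.1) hv
  set v1 := T.hT F c' * v * (T.hT F c')⁻¹
  set u1 := (T.hT F c)⁻¹ * u * T.hT F c
  have hv1 : v1 ∈ D.posUnipotent F :=
    US_le_pos G (fun s hs => hs.1) (G.hT_conj_US _ (fun s hs => hs.1.1) c' hv)
  have hu1 : u1 ∈ G.US F (flipSet (G.full.pw L)) := by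
    have := G.hT_conj_US _ (fun s hs => by obtain ⟨h, -⟩ := hs; exact h) c⁻¹ hu
    simpa [map_inv] using this
  have e1 : v1 * T.hT F (c' * a) * G.full.nw F L * u =
      v * T.hT F (a * e) * G.full.nw F L * u1 := by
    calc v1 * T.hT F (c' * a) * G.full.nw F L * u
        = T.hT F c' * (v * T.hT F a * G.full.nw F L * u) := by
          simp only [v1, map_mul]; group
      _ = v * T.hT F a * G.full.nw F L * u * T.hT F c := h.symm
      _ = v * T.hT F a * (G.full.nw F L * T.hT F c) * u1 := by simp only [u1]; group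
      _ = _ := by rw [he, map_mul]; group
  obtain ⟨hb, -⟩ := (G.canonical_unique
    (mul_mem (Subgroup.mem_sup_left hv1) (Subgroup.mem_sup_right (hd (c' * a))))
    (mul_mem (Subgroup.mem_sup_left hvp) (Subgroup.mem_sup_right (hd (a * e))))
    (G.nw_mem_monomial L) (G.nw_mem_monomial L) (G.rootAct_nw L) (G.rootAct_nw L) hu hu1 e1).2 rfl
  have hm : v⁻¹ * v1 ∈ D.posUnipotent F ⊓ D.diagonalSubgroup F := by
    refine Subgroup.mem_inf.mpr ⟨mul_mem (inv_mem hvp) hv1, ?_⟩
    have e' : v⁻¹ * v1 = T.hT F (a * e) * (T.hT F (c' * a))⁻¹ := by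
      rw [eq_mul_inv_iff_mul_eq, mul_assoc, hb, inv_mul_cancel_left]
    rw [e']
    exact mul_mem (hd _) (inv_mem (hd _))
  rw [G.pos_inf_diagonal, Subgroup.mem_bot, inv_mul_eq_one] at hm
  have hec : e = c' := by
    rw [← hm, mul_right_inj] at hb
    have := hinj hb
    rw [mul_comm c' a] at this
    exact (mul_left_cancel this).symm
  rw [hec] at he
  exact G.chi_conj (G.rootAct_nw L) (mul_inv_eq_iff_eq_mul.mpr he) s

theorem pw_linear (L : List (Fin D.rank)) :
    ∃ M : Matrix (Fin D.rank) (Fin D.rank) ℤ, ∀ s : Fin D.nroots,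
      T.wrow (G.full.pw L s).val = M *ᵥ T.wrow s.val := by
  induction L with
  | nil => exact ⟨1, fun s => by simp [Full.pw]⟩
  | cons i L ih =>
    obtain ⟨M, hM⟩ := ih
    refine ⟨(1 - Matrix.vecMulVec (T.wrow (D.simple i)) (Pi.single i 1)) * M, fun s => ?_⟩
    rw [← Matrix.mulVec_mulVec, ← hM, show G.full.pw (i :: L) = G.full.refl i * G.full.pw L by
      simp [Full.pw], Equiv.Perm.mul_apply]
    funext a
    show T.cart a (T.reflT i (G.full.pw L s).val) = _
    rw [((G.full.reflT_spec i.isLt (G.full.pw L s).isLt).2.2.2.2.1 a a.isLt).1, Matrix.sub_mulVec,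
      Matrix.one_mulVec, Pi.sub_apply, Matrix.vecMulVec_mulVec]
    simp [wrow, mul_comm]

end Fusion

/-- The inverse of the Cartan matrix. -/
def cartInv : Matrix (Fin chevE8.rank) (Fin chevE8.rank) ℤ :=
  fun i j => (InvolData.invE8.getD i.val []).getD j.val 0

theorem cart_mul_inv : (Matrix.of fun i j : Fin chevE8.rank =>
    E8Data.tab.cart i.val (chevE8.simple j)) * cartInv = 1 := by decide +kernel

theorem zpow_sum' {A ι : Type*} [CommGroup A] (x : A) (s : Finset ι) (f : ι → ℤ) :
    x ^ (∑ i ∈ s, f i) = ∏ i ∈ s, x ^ f i := by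
  classical
  induction s using Finset.induction_on with
  | empty => simp
  | insert a s ha ih => rw [Finset.sum_insert ha, Finset.prod_insert ha, _root_.zpow_add, ih]

/-- No element of order 41 of the torus is conjugate to its power of order 40 modulo 41. -/
theorem no_conj40 {F : Type} [Field F] [Fintype F] {c : Fin chevE8.rank → Fˣ}
    (hc : c ^ 41 = 1) (hc1 : c ≠ 1) {m : ℕ} (hm : orderOf (m : ZMod 41) = 40) {y : GL chevE8.Idx F}
    (hy : y ∈ chevE8.group F) (h : y * E8Data.tab.hT F c = E8Data.tab.hT F (c ^ m) * y) : False := by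
  haveI : Fact (Nat.Prime 41) := ⟨by norm_num⟩
  obtain ⟨L, hL⟩ := torus_fusion good_E8 InvolData.scE8 hy h
  obtain ⟨M, hM⟩ := pw_linear good_E8 L
  set A : Matrix (Fin chevE8.rank) (Fin chevE8.rank) ℤ :=
    Matrix.of fun i j => E8Data.tab.cart i.val (chevE8.simple j)
  set σ := good_E8.full.pw L
  have hMk : ∀ (k : ℕ) (s : Fin chevE8.nroots),
      (M ^ k) *ᵥ E8Data.tab.wrow s.val = E8Data.tab.wrow ((σ ^ k) s).val := by
    intro k
    induction k with
    | zero => intro s; simp
    | succ k ih =>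
      intro s
      rw [pow_succ', ← Matrix.mulVec_mulVec, ih, pow_succ', Equiv.Perm.mul_apply]
      exact (hM _).symm
  have hN : M ^ orderOf σ = 1 := by
    have h1 : M ^ orderOf σ * A = A := by
      ext i j
      have := congrFun (hMk (orderOf σ) ⟨chevE8.simple j, good_E8.full.simple_lt j.isLt⟩) i
      rw [pow_orderOf_eq_one, Equiv.Perm.one_apply] at this
      exact this
    have h2 := congrArg (· * cartInv) h1
    simp only [mul_assoc] at h2
    rwa [cart_mul_inv, mul_one] at h2
  obtain ⟨ξ, hξ⟩ : ∃ ξ : Fˣ, orderOf ξ = 41 := by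
    obtain ⟨i, hi⟩ := Function.ne_iff.mp hc1
    exact ⟨c i, orderOf_eq_prime (congrFun hc i) hi⟩
  have hmem : ∀ i, ∃ l : ℕ, ξ ^ l = c i := fun i => by
    have h1 : (c i : F) ^ 41 = 1 := by
      rw [← Units.val_pow_eq_pow_val, show c i ^ 41 = 1 from congrFun hc i, Units.val_one]
    have hp : IsPrimitiveRoot (ξ : F) 41 := by
      rw [← hξ, ← orderOf_units]; exact IsPrimitiveRoot.orderOf _
    obtain ⟨l, -, hl⟩ := hp.eq_pow_of_pow_eq_one h1
    exact ⟨l, Units.ext (by rw [Units.val_pow_eq_pow_val, hl])⟩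
  choose l hl using hmem
  let lz : Fin chevE8.rank → ZMod 41 := fun i => (l i : ZMod 41)
  have hchi : ∀ (s : ℕ), E8Data.tab.chi (F := F) s c =
      ξ ^ (∑ i, (l i : ℤ) * E8Data.tab.cart i.val s) := fun s => by
    show ∏ i : Fin chevE8.rank, c i ^ E8Data.tab.cart i.val s = _
    rw [zpow_sum']
    exact Finset.prod_congr rfl fun i _ => by
      rw [← hl, ← zpow_natCast, ← _root_.zpow_mul]
  have key : ∀ s : Fin chevE8.nroots,
      (m : ZMod 41) * (lz ⬝ᵥ fun i => ((E8Data.tab.wrow (σ s).val i : ℤ) : ZMod 41)) =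
        lz ⬝ᵥ fun i => ((E8Data.tab.wrow s.val i : ℤ) : ZMod 41) := by
    intro s
    have h1 := hL s
    rw [map_pow, hchi, hchi, ← zpow_natCast, ← _root_.zpow_mul, zpow_eq_zpow_iff_modEq, hξ] at h1
    have h2 := (ZMod.intCast_eq_intCast_iff _ _ 41).mpr h1
    push_cast at h2
    rw [mul_comm]
    exact h2
  set Af := A.map (Int.castRingHom (ZMod 41))
  set Mf := M.map (Int.castRingHom (ZMod 41))
  set Bf := cartInv.map (Int.castRingHom (ZMod 41))
  have hAB : Af * Bf = 1 := by
    rw [← Matrix.map_mul, cart_mul_inv, Matrix.map_one _ (map_zero _) (map_one _)]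
  have hcol : Matrix.vecMul lz (Mf * Af) * (fun _ => (m : ZMod 41)) = Matrix.vecMul lz Af := by
    funext j
    have := key ⟨chevE8.simple j, good_E8.full.simple_lt j.isLt⟩
    rw [show (fun i => ((E8Data.tab.wrow (σ ⟨chevE8.simple j, good_E8.full.simple_lt j.isLt⟩).val i
      : ℤ) : ZMod 41)) = fun i => (Mf * Af) i j by
        funext i
        rw [hM, ← Matrix.map_mul]
        rfl] at this
    rw [Pi.mul_apply, mul_comm]
    exact this
  have hm0 : (m : ZMod 41) ≠ 0 := fun e => by rw [e, orderOf_zero] at hm; norm_num at hm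
  have he : Matrix.vecMul lz Mf = (m : ZMod 41)⁻¹ • lz := by
    have h1 : Matrix.vecMul lz (Mf * Af) = (m : ZMod 41)⁻¹ • Matrix.vecMul lz Af := by
      rw [← hcol]; funext j
      simp [mul_comm, ← mul_assoc, inv_mul_cancel₀ hm0]
      field_simp
    have h2 := congrArg (fun w => Matrix.vecMul w Bf) h1
    simp only [Matrix.vecMul_vecMul, Matrix.smul_vecMul, mul_assoc, hAB, mul_one,
      Matrix.vecMul_one] at h2
    exact h2
  have hl0 : lz ≠ 0 := fun e => hc1 (funext fun i => by
    have := congrFun e i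
    rw [Pi.zero_apply, ZMod.natCast_eq_zero_iff] at this
    rw [← hl, orderOf_dvd_iff_pow_eq_one.mp (hξ.symm ▸ this)]
    rfl)
  exact no_eigen40 le_rfl M (orderOf_pos σ) hN (μ := (m : ZMod 41)⁻¹)
    ((IsPrimitiveRoot.orderOf (m : ZMod 41)).inv.eq_orderOf.symm.trans hm) hl0 he

variable {F : Type*} [Field F] [Fintype F]

theorem no_psl41 (hF : Fintype.card F = 41) (H : Subgroup ↥(chevE8.group (ZMod 3))) :
    IsEmpty (↥H ≃* Matrix.ProjectiveSpecialLinearGroup (Fin 2) F) := by
  refine ⟨fun e => ?_⟩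
  obtain ⟨τ, hτ, hneg, hker⟩ := L2.exists_rep e
  haveI : Fact (Nat.Prime 41) := ⟨by norm_num⟩
  haveI : CharP F 41 := charP_of_card_eq_prime hF
  have h16 : (16 : F) ≠ 0 := by
    rw [show (16 : F) = ((16 : ℕ) : F) by norm_num, Ne, CharP.cast_eq_zero_iff F 41]; norm_num
  have h256 : (16 : F) * 16 = ((10 : ℕ) : F) := by
    rw [show (16 : F) * 16 = ((256 : ℕ) : F) by norm_num, CharP.natCast_eq_natCast F 41]
    rfl
  set g : Matrix.SpecialLinearGroup (Fin 2) F := SL2Tensor.upE 1
  set d : Matrix.SpecialLinearGroup (Fin 2) F := SL2Tensor.dgE (Units.mk0 16 h16)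
  have hpw : ∀ k : ℕ, g ^ k = SL2Tensor.upE ((k : F)) := fun k => by
    induction k with
    | zero =>
      rw [pow_zero, Nat.cast_zero]
      refine Subtype.ext ?_
      ext i j
      fin_cases i <;> fin_cases j <;> simp [SL2Tensor.upE]
    | succ k ih =>
      rw [pow_succ, ih]
      refine Subtype.ext ?_
      show (SL2Tensor.upE (k : F)).1 * (SL2Tensor.upE (1 : F)).1 = (SL2Tensor.upE ((k + 1 : ℕ) : F)).1
      simp only [SL2Tensor.upE]
      ext i j
      fin_cases i <;> fin_cases j <;> simp [Matrix.mul_apply, Fin.sum_univ_two, add_comm]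
  have hdg : d * g = g ^ 10 * d := by
    rw [hpw 10]
    refine Subtype.ext ?_
    show (SL2Tensor.dgE (Units.mk0 (16 : F) h16)).1 * (SL2Tensor.upE (1 : F)).1 =
      (SL2Tensor.upE ((10 : ℕ) : F)).1 * (SL2Tensor.dgE (Units.mk0 (16 : F) h16)).1
    simp only [SL2Tensor.upE, SL2Tensor.dgE]
    rw [← h256]
    ext i j
    fin_cases i <;> fin_cases j <;> simp [Matrix.mul_apply, Fin.sum_univ_two]
  have hg41 : g ^ 41 = 1 := by
    rw [hpw, CharP.cast_eq_zero F 41]
    refine Subtype.ext ?_
    ext i j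
    fin_cases i <;> fin_cases j <;> simp [SL2Tensor.upE]
  have hx41 : τ g ^ 41 = 1 := by rw [← map_pow, hg41, map_one]
  obtain ⟨E, hE, hE', f, a, ha, c, hc⟩ := toralE8 (m := 41) (by norm_num) (hτ g) hx41
  haveI : Fact (Nat.Prime 3) := ⟨Nat.prime_three⟩
  haveI : CharP E 3 := charP_of_injective_ringHom f.injective 3
  have hinj : Function.Injective (E8Data.tab.hT E) := (injective_iff_map_eq_one _).mpr fun x hx =>
    good_E8.sc_hT_inj InvolData.scE8 hx
  set X := glMap chevE8 f (τ g)
  have hc41 : c ^ 41 = 1 := hinj (by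
    rw [map_pow, ← hc, conj_pow, ← map_pow, hx41, map_one, mul_one, mul_inv_cancel, map_one])
  have hc1 : c ≠ 1 := fun h => by
    rw [h, map_one, mul_inv_eq_one, mul_eq_left] at hc
    have hx1 : τ g = 1 := by
      refine Units.ext (Matrix.map_injective f.injective ?_)
      have := congrArg (fun u : GL chevE8.Idx E => (u : Matrix chevE8.Idx chevE8.Idx E)) hc
      refine Eq.trans this ?_
      exact (Matrix.map_one f (map_zero f) (map_one f)).symm
    rcases hker g hx1 with h' | h' <;>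
      · have := congrArg (fun A : Matrix.SpecialLinearGroup (Fin 2) F =>
          (A : Matrix (Fin 2) (Fin 2) F) 0 1) h'
        simp [g, SL2Tensor.upE] at this
  set φ : E →+* E := frobenius E 3
  have hφf : φ.comp f = f := RingHom.ext_zmod _ _
  set a' := glMap chevE8 φ a
  set Y := glMap chevE8 f (τ d)
  have hX : a * X = E8Data.tab.hT E c * a := by rw [← hc]; group
  have hX3 : a' * X = E8Data.tab.hT E (c ^ 3) * a' := by
    have := congrArg (glMap chevE8 φ) hX
    simp only [X] at this ⊢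
    rw [map_mul, map_mul, good_E8.glMap_hT, glMap_comp, hφf] at this
    rw [this]
    congr 2
  have hYX : Y * X = X ^ 10 * Y := by
    simp only [X, Y, ← map_pow, ← map_mul]
    rw [hdg]
  refine no_conj40 hc41 hc1 (m := 30) ?_ (y := a' * Y * a⁻¹)
    (mul_mem (mul_mem (good_E8.glMap_group _ ha) (good_E8.glMap_group _ (hτ d))) (inv_mem ha)) ?_
  · rw [orderOf_eq_iff (by norm_num)]
    decide +kernel
  · have hXc : ∀ k : ℕ, a * X ^ k * a⁻¹ = E8Data.tab.hT E c ^ k := fun k => by
      rw [← conj_pow, hc]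
    have hX30 : a' * X ^ 10 = E8Data.tab.hT E (c ^ 30) * a' := by
      have h3 : a' * X * a'⁻¹ = E8Data.tab.hT E (c ^ 3) := by rw [hX3]; group
      have := congrArg (· ^ 10) h3
      simp only [conj_pow, ← map_pow, ← pow_mul] at this
      rw [show c ^ (3 * 10) = c ^ 30 from rfl] at this
      rw [← this]; group
    calc a' * Y * a⁻¹ * E8Data.tab.hT E c = a' * (Y * X) * a⁻¹ := by rw [← hc]; group
      _ = a' * X ^ 10 * (Y * a⁻¹) := by rw [hYX]; group
      _ = _ := by rw [hX30]; group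

end CfsgLib.E8Three.Small
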