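import Mathlib

/-!
The certificate data of a subgroup of order 128 of `PSp₆(3)`: matrices, words, class
representatives and conjugators.
-/

set_option autoImplicit false

namespace CfsgLib.E8Three.Small.Sp6

/-- The generators. -/
def gensC : List (List (List ℕ)) := [
  [[0,0,0,2,0,0],[0,1,0,0,1,0],[0,0,2,0,0,1],[1,0,0,0,0,0],[0,1,0,0,2,0],[0,0,1,0,0,1]],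
  [[1,0,0,1,0,0],[0,2,0,0,1,0],[0,0,1,0,0,1],[1,0,0,2,0,0],[0,1,0,0,1,0],[0,0,1,0,0,2]],
  [[0,1,0,0,0,0],[1,0,0,0,0,0],[0,0,1,0,0,0],[0,0,0,0,1,0],[0,0,0,1,0,0],[0,0,0,0,0,1]]]

/-- The words of the elements. -/
def words : List (List (Fin 3)) := [
  [],
  [0],
  [1],
  [2],
  [0,1],
  [0,2],
  [1,2],
  [2,0],
  [2,1],
  [0,1,2],
  [0,2,0],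
  [0,2,1],
  [1,2,0],
  [1,2,1],
  [2,0,1],
  [2,0,2],
  [2,1,2],
  [0,1,2,0],
  [0,1,2,1],
  [0,2,0,1],
  [0,2,0,2],
  [0,2,1,2],
  [1,2,0,1],
  [1,2,0,2],
  [1,2,1,2],
  [2,0,1,2],
  [2,0,2,0],
  [2,0,2,1],
  [2,1,2,0],
  [2,1,2,1],
  [0,1,2,0,1],
  [0,1,2,0,2],
  [0,1,2,1,2],
  [0,2,0,1,2],
  [0,2,0,2,0],
  [0,2,0,2,1],
  [0,2,1,2,0],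
  [0,2,1,2,1],
  [1,2,0,1,2],
  [1,2,0,2,0],
  [1,2,0,2,1],
  [1,2,1,2,0],
  [1,2,1,2,1],
  [2,0,1,2,0],
  [2,0,1,2,1],
  [2,0,2,0,1],
  [2,0,2,0,2],
  [2,0,2,1,2],
  [2,1,2,0,1],
  [2,1,2,0,2],
  [2,1,2,1,2],
  [0,1,2,0,1,2],
  [0,1,2,0,2,0],
  [0,1,2,0,2,1],
  [0,1,2,1,2,0],
  [0,1,2,1,2,1],
  [0,2,0,1,2,0],
  [0,2,0,1,2,1],
  [0,2,0,2,0,1],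
  [0,2,0,2,0,2],
  [0,2,0,2,1,2],
  [0,2,1,2,0,1],
  [0,2,1,2,0,2],
  [0,2,1,2,1,2],
  [1,2,0,1,2,0],
  [1,2,0,1,2,1],
  [1,2,0,2,0,1],
  [1,2,0,2,0,2],
  [1,2,0,2,1,2],
  [1,2,1,2,0,1],
  [1,2,1,2,0,2],
  [1,2,1,2,1,2],
  [2,0,1,2,0,1],
  [2,0,1,2,0,2],
  [2,0,1,2,1,2],
  [2,0,2,0,1,2],
  [2,0,2,0,2,0],
  [2,0,2,0,2,1],
  [2,0,2,1,2,0],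
  [2,0,2,1,2,1],
  [2,1,2,0,1,2],
  [2,1,2,0,2,0],
  [2,1,2,0,2,1],
  [2,1,2,1,2,0],
  [2,1,2,1,2,1],
  [0,1,2,0,1,2,0],
  [0,1,2,0,1,2,1],
  [0,1,2,0,2,0,1],
  [0,1,2,0,2,0,2],
  [0,1,2,0,2,1,2],
  [0,1,2,1,2,0,1],
  [0,1,2,1,2,0,2],
  [0,1,2,1,2,1,2],
  [0,2,0,1,2,0,1],
  [0,2,0,1,2,0,2],
  [0,2,0,1,2,1,2],
  [0,2,0,2,0,1,2],
  [0,2,0,2,0,2,0],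
  [0,2,0,2,0,2,1],
  [0,2,0,2,1,2,0],
  [0,2,0,2,1,2,1],
  [0,2,1,2,0,1,2],
  [0,2,1,2,0,2,0],
  [0,2,1,2,0,2,1],
  [0,2,1,2,1,2,0],
  [0,2,1,2,1,2,1],
  [1,2,0,1,2,0,1],
  [1,2,0,2,0,1,2],
  [1,2,0,2,1,2,0],
  [1,2,1,2,0,1,2],
  [1,2,1,2,0,2,1],
  [2,0,2,0,2,0,2],
  [2,0,2,1,2,0,2],
  [2,1,2,0,2,1,2],
  [2,1,2,1,2,1,2],
  [0,1,2,0,1,2,0,1],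
  [0,1,2,0,2,0,1,2],
  [0,1,2,0,2,1,2,0],
  [0,1,2,1,2,0,1,2],
  [0,1,2,1,2,0,2,1],
  [0,2,0,2,0,2,0,2],
  [0,2,0,2,1,2,0,2],
  [0,2,1,2,0,2,1,2],
  [0,2,1,2,1,2,1,2],
  [1,2,0,2,1,2,0,2],
  [1,2,1,2,0,2,1,2],
  [0,1,2,0,2,1,2,0,2],
  [0,1,2,1,2,0,2,1,2]]

/-- Their matrices. -/
def mats : List (List (List ℕ)) := [
  [[1,0,0,0,0,0],[0,1,0,0,0,0],[0,0,1,0,0,0],[0,0,0,1,0,0],[0,0,0,0,1,0],[0,0,0,0,0,1]],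
  [[0,0,0,2,0,0],[0,1,0,0,1,0],[0,0,2,0,0,1],[1,0,0,0,0,0],[0,1,0,0,2,0],[0,0,1,0,0,1]],
  [[1,0,0,1,0,0],[0,2,0,0,1,0],[0,0,1,0,0,1],[1,0,0,2,0,0],[0,1,0,0,1,0],[0,0,1,0,0,2]],
  [[0,1,0,0,0,0],[1,0,0,0,0,0],[0,0,1,0,0,0],[0,0,0,0,1,0],[0,0,0,1,0,0],[0,0,0,0,0,1]],
  [[2,0,0,1,0,0],[0,0,0,0,2,0],[0,0,0,0,0,1],[1,0,0,1,0,0],[0,1,0,0,0,0],[0,0,2,0,0,0]],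
  [[0,0,0,0,2,0],[1,0,0,1,0,0],[0,0,2,0,0,1],[0,1,0,0,0,0],[1,0,0,2,0,0],[0,0,1,0,0,1]],
  [[0,1,0,0,1,0],[2,0,0,1,0,0],[0,0,1,0,0,1],[0,1,0,0,2,0],[1,0,0,1,0,0],[0,0,1,0,0,2]],
  [[0,1,0,0,1,0],[0,0,0,2,0,0],[0,0,2,0,0,1],[0,1,0,0,2,0],[1,0,0,0,0,0],[0,0,1,0,0,1]],
  [[0,2,0,0,1,0],[1,0,0,1,0,0],[0,0,1,0,0,1],[0,1,0,0,1,0],[1,0,0,2,0,0],[0,0,1,0,0,2]],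
  [[0,2,0,0,1,0],[0,0,0,2,0,0],[0,0,0,0,0,1],[0,1,0,0,1,0],[1,0,0,0,0,0],[0,0,2,0,0,0]],
  [[0,2,0,0,1,0],[1,0,0,2,0,0],[0,0,2,0,0,0],[0,1,0,0,1,0],[2,0,0,2,0,0],[0,0,0,0,0,2]],
  [[0,2,0,0,2,0],[2,0,0,0,0,0],[0,0,0,0,0,1],[0,2,0,0,1,0],[0,0,0,2,0,0],[0,0,2,0,0,0]],
  [[0,2,0,0,0,0],[1,0,0,1,0,0],[0,0,0,0,0,2],[0,0,0,0,2,0],[1,0,0,2,0,0],[0,0,1,0,0,0]],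
  [[0,0,0,0,2,0],[0,0,0,1,0,0],[0,0,2,0,0,0],[0,1,0,0,0,0],[2,0,0,0,0,0],[0,0,0,0,0,2]],
  [[0,0,0,0,2,0],[2,0,0,1,0,0],[0,0,0,0,0,1],[0,1,0,0,0,0],[1,0,0,1,0,0],[0,0,2,0,0,0]],
  [[1,0,0,1,0,0],[0,0,0,0,2,0],[0,0,2,0,0,1],[1,0,0,2,0,0],[0,1,0,0,0,0],[0,0,1,0,0,1]],
  [[2,0,0,1,0,0],[0,1,0,0,1,0],[0,0,1,0,0,1],[1,0,0,1,0,0],[0,1,0,0,2,0],[0,0,1,0,0,2]],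
  [[0,0,0,0,1,0],[2,0,0,0,0,0],[0,0,1,0,0,1],[0,2,0,0,0,0],[0,0,0,2,0,0],[0,0,1,0,0,2]],
  [[0,2,0,0,0,0],[2,0,0,1,0,0],[0,0,1,0,0,2],[0,0,0,0,2,0],[1,0,0,1,0,0],[0,0,2,0,0,2]],
  [[0,2,0,0,0,0],[0,0,0,2,0,0],[0,0,2,0,0,2],[0,0,0,0,2,0],[1,0,0,0,0,0],[0,0,2,0,0,1]],
  [[2,0,0,1,0,0],[0,1,0,0,2,0],[0,0,2,0,0,0],[1,0,0,1,0,0],[0,2,0,0,2,0],[0,0,0,0,0,2]],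
  [[2,0,0,2,0,0],[0,2,0,0,0,0],[0,0,0,0,0,1],[2,0,0,1,0,0],[0,0,0,0,2,0],[0,0,2,0,0,0]],
  [[0,1,0,0,2,0],[2,0,0,0,0,0],[0,0,2,0,0,1],[0,2,0,0,2,0],[0,0,0,2,0,0],[0,0,1,0,0,1]],
  [[2,0,0,0,0,0],[0,1,0,0,1,0],[0,0,0,0,0,2],[0,0,0,2,0,0],[0,1,0,0,2,0],[0,0,1,0,0,0]],
  [[0,0,0,2,0,0],[0,0,0,0,1,0],[0,0,2,0,0,0],[1,0,0,0,0,0],[0,2,0,0,0,0],[0,0,0,0,0,2]],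
  [[0,0,0,2,0,0],[0,2,0,0,1,0],[0,0,0,0,0,1],[1,0,0,0,0,0],[0,1,0,0,1,0],[0,0,2,0,0,0]],
  [[1,0,0,2,0,0],[0,2,0,0,1,0],[0,0,2,0,0,0],[2,0,0,2,0,0],[0,1,0,0,1,0],[0,0,0,0,0,2]],
  [[2,0,0,0,0,0],[0,2,0,0,2,0],[0,0,0,0,0,1],[0,0,0,2,0,0],[0,2,0,0,1,0],[0,0,2,0,0,0]],
  [[1,0,0,1,0,0],[0,2,0,0,0,0],[0,0,0,0,0,2],[1,0,0,2,0,0],[0,0,0,0,2,0],[0,0,1,0,0,0]],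
  [[0,0,0,1,0,0],[0,0,0,0,2,0],[0,0,2,0,0,0],[2,0,0,0,0,0],[0,1,0,0,0,0],[0,0,0,0,0,2]],
  [[0,1,0,0,1,0],[2,0,0,2,0,0],[0,0,2,0,0,0],[0,1,0,0,2,0],[2,0,0,1,0,0],[0,0,0,0,0,2]],
  [[0,0,0,1,0,0],[0,2,0,0,0,0],[0,0,1,0,0,1],[2,0,0,0,0,0],[0,0,0,0,2,0],[0,0,1,0,0,2]],
  [[2,0,0,0,0,0],[0,2,0,0,1,0],[0,0,1,0,0,2],[0,0,0,2,0,0],[0,1,0,0,1,0],[0,0,2,0,0,2]],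
  [[2,0,0,0,0,0],[0,0,0,0,2,0],[0,0,2,0,0,2],[0,0,0,2,0,0],[0,1,0,0,0,0],[0,0,2,0,0,1]],
  [[1,0,0,1,0,0],[0,0,0,0,2,0],[0,0,1,0,0,2],[1,0,0,2,0,0],[0,1,0,0,0,0],[0,0,2,0,0,2]],
  [[0,0,0,1,0,0],[0,1,0,0,0,0],[0,0,2,0,0,2],[2,0,0,0,0,0],[0,0,0,0,1,0],[0,0,2,0,0,1]],
  [[2,0,0,1,0,0],[0,2,0,0,2,0],[0,0,1,0,0,1],[1,0,0,1,0,0],[0,2,0,0,1,0],[0,0,1,0,0,2]],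
  [[1,0,0,0,0,0],[0,1,0,0,2,0],[0,0,1,0,0,2],[0,0,0,1,0,0],[0,2,0,0,2,0],[0,0,2,0,0,2]],
  [[1,0,0,2,0,0],[0,2,0,0,0,0],[0,0,2,0,0,1],[2,0,0,2,0,0],[0,0,0,0,2,0],[0,0,1,0,0,1]],
  [[0,0,0,1,0,0],[0,2,0,0,0,0],[0,0,2,0,0,2],[2,0,0,0,0,0],[0,0,0,0,2,0],[0,0,2,0,0,1]],
  [[2,0,0,2,0,0],[0,0,0,0,2,0],[0,0,2,0,0,1],[2,0,0,1,0,0],[0,1,0,0,0,0],[0,0,1,0,0,1]],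
  [[2,0,0,0,0,0],[0,1,0,0,2,0],[0,0,1,0,0,2],[0,0,0,2,0,0],[0,2,0,0,2,0],[0,0,2,0,0,2]],
  [[2,0,0,1,0,0],[0,1,0,0,1,0],[0,0,2,0,0,2],[1,0,0,1,0,0],[0,1,0,0,2,0],[0,0,2,0,0,1]],
  [[2,0,0,0,0,0],[0,0,0,0,1,0],[0,0,1,0,0,1],[0,0,0,2,0,0],[0,2,0,0,0,0],[0,0,1,0,0,2]],
  [[2,0,0,1,0,0],[0,2,0,0,0,0],[0,0,1,0,0,2],[1,0,0,1,0,0],[0,0,0,0,2,0],[0,0,2,0,0,2]],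
  [[0,0,0,2,0,0],[0,2,0,0,0,0],[0,0,2,0,0,2],[1,0,0,0,0,0],[0,0,0,0,2,0],[0,0,2,0,0,1]],
  [[0,1,0,0,2,0],[2,0,0,1,0,0],[0,0,2,0,0,0],[0,2,0,0,2,0],[1,0,0,1,0,0],[0,0,0,0,0,2]],
  [[0,2,0,0,0,0],[2,0,0,2,0,0],[0,0,0,0,0,1],[0,0,0,0,2,0],[2,0,0,1,0,0],[0,0,2,0,0,0]],
  [[2,0,0,0,0,0],[0,1,0,0,2,0],[0,0,2,0,0,1],[0,0,0,2,0,0],[0,2,0,0,2,0],[0,0,1,0,0,1]],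
  [[0,1,0,0,1,0],[2,0,0,0,0,0],[0,0,0,0,0,2],[0,1,0,0,2,0],[0,0,0,2,0,0],[0,0,1,0,0,0]],
  [[0,0,0,0,1,0],[0,0,0,2,0,0],[0,0,2,0,0,0],[0,2,0,0,0,0],[1,0,0,0,0,0],[0,0,0,0,0,2]],
  [[1,0,0,1,0,0],[0,2,0,0,2,0],[0,0,2,0,0,0],[1,0,0,2,0,0],[0,2,0,0,1,0],[0,0,0,0,0,2]],
  [[1,0,0,0,0,0],[0,2,0,0,2,0],[0,0,0,0,0,2],[0,0,0,1,0,0],[0,2,0,0,1,0],[0,0,1,0,0,0]],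
  [[1,0,0,2,0,0],[0,1,0,0,2,0],[0,0,2,0,0,0],[2,0,0,2,0,0],[0,2,0,0,2,0],[0,0,0,0,0,2]],
  [[0,0,0,1,0,0],[0,0,0,0,1,0],[0,0,1,0,0,0],[2,0,0,0,0,0],[0,2,0,0,0,0],[0,0,0,0,0,1]],
  [[2,0,0,2,0,0],[0,2,0,0,0,0],[0,0,0,0,0,2],[2,0,0,1,0,0],[0,0,0,0,2,0],[0,0,1,0,0,0]],
  [[0,0,0,1,0,0],[0,2,0,0,1,0],[0,0,0,0,0,1],[2,0,0,0,0,0],[0,1,0,0,1,0],[0,0,2,0,0,0]],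
  [[2,0,0,2,0,0],[0,2,0,0,2,0],[0,0,1,0,0,0],[2,0,0,1,0,0],[0,2,0,0,1,0],[0,0,0,0,0,1]],
  [[2,0,0,0,0,0],[0,2,0,0,2,0],[0,0,0,0,0,2],[0,0,0,2,0,0],[0,2,0,0,1,0],[0,0,1,0,0,0]],
  [[0,1,0,0,1,0],[0,0,0,2,0,0],[0,0,1,0,0,2],[0,1,0,0,2,0],[1,0,0,0,0,0],[0,0,2,0,0,2]],
  [[0,0,0,0,1,0],[1,0,0,0,0,0],[0,0,2,0,0,2],[0,2,0,0,0,0],[0,0,0,1,0,0],[0,0,2,0,0,1]],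
  [[0,0,0,1,0,0],[0,0,0,0,1,0],[0,0,2,0,0,0],[2,0,0,0,0,0],[0,2,0,0,0,0],[0,0,0,0,0,2]],
  [[0,2,0,0,1,0],[2,0,0,2,0,0],[0,0,1,0,0,1],[0,1,0,0,1,0],[2,0,0,1,0,0],[0,0,1,0,0,2]],
  [[0,1,0,0,0,0],[1,0,0,2,0,0],[0,0,1,0,0,2],[0,0,0,0,1,0],[2,0,0,2,0,0],[0,0,2,0,0,2]],
  [[2,0,0,2,0,0],[0,2,0,0,2,0],[0,0,2,0,0,0],[2,0,0,1,0,0],[0,2,0,0,1,0],[0,0,0,0,0,2]],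
  [[0,0,0,2,0,0],[0,1,0,0,2,0],[0,0,0,0,0,1],[1,0,0,0,0,0],[0,2,0,0,2,0],[0,0,2,0,0,0]],
  [[1,0,0,2,0,0],[0,1,0,0,2,0],[0,0,1,0,0,0],[2,0,0,2,0,0],[0,2,0,0,2,0],[0,0,0,0,0,1]],
  [[0,0,0,0,1,0],[2,0,0,0,0,0],[0,0,2,0,0,2],[0,2,0,0,0,0],[0,0,0,2,0,0],[0,0,2,0,0,1]],
  [[0,2,0,0,2,0],[0,0,0,2,0,0],[0,0,2,0,0,1],[0,2,0,0,1,0],[1,0,0,0,0,0],[0,0,1,0,0,1]],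
  [[2,0,0,2,0,0],[0,1,0,0,0,0],[0,0,0,0,0,2],[2,0,0,1,0,0],[0,0,0,0,1,0],[0,0,1,0,0,0]],
  [[0,2,0,0,0,0],[1,0,0,2,0,0],[0,0,1,0,0,2],[0,0,0,0,2,0],[2,0,0,2,0,0],[0,0,2,0,0,2]],
  [[0,2,0,0,1,0],[1,0,0,1,0,0],[0,0,2,0,0,2],[0,1,0,0,1,0],[1,0,0,2,0,0],[0,0,2,0,0,1]],
  [[2,0,0,2,0,0],[0,1,0,0,1,0],[0,0,2,0,0,0],[2,0,0,1,0,0],[0,1,0,0,2,0],[0,0,0,0,0,2]],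
  [[0,2,0,0,0,0],[0,0,0,1,0,0],[0,0,1,0,0,1],[0,0,0,0,2,0],[2,0,0,0,0,0],[0,0,1,0,0,2]],
  [[0,2,0,0,1,0],[2,0,0,0,0,0],[0,0,1,0,0,2],[0,1,0,0,1,0],[0,0,0,2,0,0],[0,0,2,0,0,2]],
  [[0,0,0,0,2,0],[2,0,0,0,0,0],[0,0,2,0,0,2],[0,1,0,0,0,0],[0,0,0,2,0,0],[0,0,2,0,0,1]],
  [[0,0,0,0,2,0],[1,0,0,1,0,0],[0,0,1,0,0,2],[0,1,0,0,0,0],[1,0,0,2,0,0],[0,0,2,0,0,2]],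
  [[0,1,0,0,0,0],[0,0,0,1,0,0],[0,0,2,0,0,2],[0,0,0,0,1,0],[2,0,0,0,0,0],[0,0,2,0,0,1]],
  [[0,2,0,0,2,0],[2,0,0,1,0,0],[0,0,1,0,0,1],[0,2,0,0,1,0],[1,0,0,1,0,0],[0,0,1,0,0,2]],
  [[0,1,0,0,2,0],[1,0,0,0,0,0],[0,0,1,0,0,2],[0,2,0,0,2,0],[0,0,0,1,0,0],[0,0,2,0,0,2]],
  [[0,2,0,0,0,0],[1,0,0,2,0,0],[0,0,2,0,0,1],[0,0,0,0,2,0],[2,0,0,2,0,0],[0,0,1,0,0,1]],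
  [[0,2,0,0,0,0],[0,0,0,1,0,0],[0,0,2,0,0,2],[0,0,0,0,2,0],[2,0,0,0,0,0],[0,0,2,0,0,1]],
  [[0,0,0,0,2,0],[2,0,0,2,0,0],[0,0,2,0,0,1],[0,1,0,0,0,0],[2,0,0,1,0,0],[0,0,1,0,0,1]],
  [[0,1,0,0,2,0],[2,0,0,0,0,0],[0,0,1,0,0,2],[0,2,0,0,2,0],[0,0,0,2,0,0],[0,0,2,0,0,2]],
  [[0,1,0,0,1,0],[2,0,0,1,0,0],[0,0,2,0,0,2],[0,1,0,0,2,0],[1,0,0,1,0,0],[0,0,2,0,0,1]],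
  [[1,0,0,2,0,0],[0,1,0,0,0,0],[0,0,1,0,0,2],[2,0,0,2,0,0],[0,0,0,0,1,0],[0,0,2,0,0,2]],
  [[2,0,0,0,0,0],[0,0,0,0,1,0],[0,0,2,0,0,2],[0,0,0,2,0,0],[0,2,0,0,0,0],[0,0,2,0,0,1]],
  [[1,0,0,1,0,0],[0,0,0,0,1,0],[0,0,2,0,0,1],[1,0,0,2,0,0],[0,2,0,0,0,0],[0,0,1,0,0,1]],
  [[0,1,0,0,0,0],[2,0,0,2,0,0],[0,0,0,0,0,2],[0,0,0,0,1,0],[2,0,0,1,0,0],[0,0,1,0,0,0]],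
  [[0,1,0,0,2,0],[1,0,0,2,0,0],[0,0,2,0,0,0],[0,2,0,0,2,0],[2,0,0,2,0,0],[0,0,0,0,0,2]],
  [[1,0,0,2,0,0],[0,1,0,0,1,0],[0,0,1,0,0,1],[2,0,0,2,0,0],[0,1,0,0,2,0],[0,0,1,0,0,2]],
  [[0,0,0,0,1,0],[0,0,0,1,0,0],[0,0,1,0,0,0],[0,2,0,0,0,0],[2,0,0,0,0,0],[0,0,0,0,0,1]],
  [[0,2,0,0,2,0],[2,0,0,0,0,0],[0,0,0,0,0,2],[0,2,0,0,1,0],[0,0,0,2,0,0],[0,0,1,0,0,0]],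
  [[1,0,0,2,0,0],[0,2,0,0,0,0],[0,0,1,0,0,2],[2,0,0,2,0,0],[0,0,0,0,2,0],[0,0,2,0,0,2]],
  [[0,0,0,0,1,0],[2,0,0,1,0,0],[0,0,0,0,0,1],[0,2,0,0,0,0],[1,0,0,1,0,0],[0,0,2,0,0,0]],
  [[0,2,0,0,2,0],[2,0,0,2,0,0],[0,0,1,0,0,0],[0,2,0,0,1,0],[2,0,0,1,0,0],[0,0,0,0,0,1]],
  [[0,2,0,0,0,0],[2,0,0,2,0,0],[0,0,0,0,0,2],[0,0,0,0,2,0],[2,0,0,1,0,0],[0,0,1,0,0,0]],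
  [[0,2,0,0,0,0],[2,0,0,0,0,0],[0,0,1,0,0,0],[0,0,0,0,2,0],[0,0,0,2,0,0],[0,0,0,0,0,1]],
  [[0,0,0,0,2,0],[2,0,0,1,0,0],[0,0,0,0,0,2],[0,1,0,0,0,0],[1,0,0,1,0,0],[0,0,1,0,0,0]],
  [[0,1,0,0,2,0],[0,0,0,2,0,0],[0,0,0,0,0,1],[0,2,0,0,2,0],[1,0,0,0,0,0],[0,0,2,0,0,0]],
  [[0,1,0,0,1,0],[1,0,0,1,0,0],[0,0,1,0,0,0],[0,1,0,0,2,0],[1,0,0,2,0,0],[0,0,0,0,0,1]],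
  [[0,0,0,0,1,0],[0,0,0,1,0,0],[0,0,2,0,0,0],[0,2,0,0,0,0],[2,0,0,0,0,0],[0,0,0,0,0,2]],
  [[0,0,0,0,1,0],[2,0,0,1,0,0],[0,0,0,0,0,2],[0,2,0,0,0,0],[1,0,0,1,0,0],[0,0,1,0,0,0]],
  [[0,2,0,0,0,0],[1,0,0,0,0,0],[0,0,2,0,0,0],[0,0,0,0,2,0],[0,0,0,1,0,0],[0,0,0,0,0,2]],
  [[0,1,0,0,1,0],[2,0,0,2,0,0],[0,0,1,0,0,0],[0,1,0,0,2,0],[2,0,0,1,0,0],[0,0,0,0,0,1]],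
  [[0,2,0,0,1,0],[0,0,0,2,0,0],[0,0,0,0,0,2],[0,1,0,0,1,0],[1,0,0,0,0,0],[0,0,1,0,0,0]],
  [[1,0,0,0,0,0],[0,0,0,0,1,0],[0,0,2,0,0,2],[0,0,0,1,0,0],[0,2,0,0,0,0],[0,0,2,0,0,1]],
  [[0,1,0,0,2,0],[1,0,0,2,0,0],[0,0,1,0,0,0],[0,2,0,0,2,0],[2,0,0,2,0,0],[0,0,0,0,0,1]],
  [[0,1,0,0,0,0],[2,0,0,0,0,0],[0,0,2,0,0,0],[0,0,0,0,1,0],[0,0,0,2,0,0],[0,0,0,0,0,2]],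
  [[0,2,0,0,2,0],[1,0,0,0,0,0],[0,0,0,0,0,2],[0,2,0,0,1,0],[0,0,0,1,0,0],[0,0,1,0,0,0]],
  [[0,1,0,0,2,0],[0,0,0,2,0,0],[0,0,0,0,0,2],[0,2,0,0,2,0],[1,0,0,0,0,0],[0,0,1,0,0,0]],
  [[0,0,0,2,0,0],[0,1,0,0,1,0],[0,0,1,0,0,2],[1,0,0,0,0,0],[0,1,0,0,2,0],[0,0,2,0,0,2]],
  [[2,0,0,2,0,0],[0,2,0,0,1,0],[0,0,1,0,0,1],[2,0,0,1,0,0],[0,1,0,0,1,0],[0,0,1,0,0,2]],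
  [[0,0,0,2,0,0],[0,2,0,0,2,0],[0,0,2,0,0,1],[1,0,0,0,0,0],[0,2,0,0,1,0],[0,0,1,0,0,1]],
  [[1,0,0,1,0,0],[0,2,0,0,1,0],[0,0,2,0,0,2],[1,0,0,2,0,0],[0,1,0,0,1,0],[0,0,2,0,0,1]],
  [[0,0,0,2,0,0],[0,2,0,0,1,0],[0,0,0,0,0,2],[1,0,0,0,0,0],[0,1,0,0,1,0],[0,0,1,0,0,0]],
  [[0,1,0,0,1,0],[0,0,0,1,0,0],[0,0,2,0,0,1],[0,1,0,0,2,0],[2,0,0,0,0,0],[0,0,1,0,0,1]],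
  [[0,0,0,0,2,0],[2,0,0,2,0,0],[0,0,1,0,0,2],[0,1,0,0,0,0],[2,0,0,1,0,0],[0,0,2,0,0,2]],
  [[0,1,0,0,2,0],[1,0,0,1,0,0],[0,0,1,0,0,1],[0,2,0,0,2,0],[1,0,0,2,0,0],[0,0,1,0,0,2]],
  [[0,1,0,0,1,0],[1,0,0,2,0,0],[0,0,1,0,0,1],[0,1,0,0,2,0],[2,0,0,2,0,0],[0,0,1,0,0,2]],
  [[2,0,0,0,0,0],[0,2,0,0,0,0],[0,0,1,0,0,0],[0,0,0,2,0,0],[0,0,0,0,2,0],[0,0,0,0,0,1]],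
  [[1,0,0,2,0,0],[0,0,0,0,2,0],[0,0,0,0,0,1],[2,0,0,2,0,0],[0,1,0,0,0,0],[0,0,2,0,0,0]],
  [[2,0,0,0,0,0],[0,1,0,0,0,0],[0,0,2,0,0,0],[0,0,0,2,0,0],[0,0,0,0,1,0],[0,0,0,0,0,2]],
  [[2,0,0,1,0,0],[0,0,0,0,2,0],[0,0,0,0,0,2],[1,0,0,1,0,0],[0,1,0,0,0,0],[0,0,1,0,0,0]],
  [[1,0,0,0,0,0],[0,2,0,0,0,0],[0,0,2,0,0,0],[0,0,0,1,0,0],[0,0,0,0,2,0],[0,0,0,0,0,2]],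
  [[1,0,0,2,0,0],[0,0,0,0,2,0],[0,0,0,0,0,2],[2,0,0,2,0,0],[0,1,0,0,0,0],[0,0,1,0,0,0]],
  [[0,0,0,2,0,0],[0,2,0,0,2,0],[0,0,1,0,0,2],[1,0,0,0,0,0],[0,2,0,0,1,0],[0,0,2,0,0,2]],
  [[1,0,0,1,0,0],[0,1,0,0,2,0],[0,0,1,0,0,1],[1,0,0,2,0,0],[0,2,0,0,2,0],[0,0,1,0,0,2]]]

/-- The multiplication by the generators. -/
def nxt : List (List ℕ) := [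
  [1,2,3],
  [0,4,5],
  [4,0,6],
  [7,8,0],
  [2,1,9],
  [10,11,1],
  [12,13,2],
  [3,14,15],
  [14,3,16],
  [17,18,4],
  [5,19,20],
  [19,5,21],
  [6,22,23],
  [22,6,24],
  [8,7,25],
  [26,27,7],
  [28,29,8],
  [9,30,31],
  [30,9,32],
  [11,10,33],
  [34,35,10],
  [36,37,11],
  [13,12,38],
  [39,40,12],
  [41,42,13],
  [43,44,14],
  [15,45,46],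
  [45,15,47],
  [16,48,49],
  [48,16,50],
  [18,17,51],
  [52,53,17],
  [54,55,18],
  [56,57,19],
  [20,58,59],
  [58,20,60],
  [21,61,62],
  [61,21,63],
  [64,65,22],
  [23,66,67],
  [66,23,68],
  [24,69,70],
  [69,24,71],
  [25,72,73],
  [72,25,74],
  [27,26,75],
  [76,77,26],
  [78,79,27],
  [29,28,80],
  [81,82,28],
  [83,84,29],
  [85,86,30],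
  [31,87,88],
  [87,31,89],
  [32,90,91],
  [90,32,92],
  [33,93,94],
  [93,33,95],
  [35,34,96],
  [97,98,34],
  [99,100,35],
  [37,36,101],
  [102,103,36],
  [104,105,37],
  [38,106,100],
  [106,38,102],
  [40,39,107],
  [105,104,39],
  [108,94,40],
  [42,41,109],
  [95,110,41],
  [98,97,42],
  [44,43,104],
  [109,89,43],
  [91,96,44],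
  [110,95,45],
  [46,92,111],
  [92,46,106],
  [47,101,112],
  [101,47,85],
  [100,99,48],
  [49,107,86],
  [107,49,113],
  [50,88,93],
  [88,50,114],
  [51,115,79],
  [115,51,81],
  [53,52,116],
  [84,83,52],
  [117,73,53],
  [55,54,118],
  [74,119,54],
  [77,76,55],
  [57,56,83],
  [118,68,56],
  [70,75,57],
  [119,74,58],
  [59,71,120],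
  [71,59,115],
  [60,80,121],
  [80,60,64],
  [79,78,61],
  [62,116,65],
  [116,62,122],
  [63,67,72],
  [67,63,123],
  [65,64,77],
  [82,81,66],
  [68,118,124],
  [73,117,69],
  [75,70,125],
  [120,123,76],
  [121,124,78],
  [122,125,82],
  [123,120,84],
  [86,85,98],
  [103,102,87],
  [89,109,126],
  [94,108,90],
  [96,91,127],
  [111,114,97],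
  [112,126,99],
  [113,127,103],
  [114,111,105],
  [126,112,108],
  [127,113,110],
  [124,121,117],
  [125,122,119]]

/-- The class of every element. -/
def clsOf : List ℕ := [0, 2, 2, 1, 2, 4, 4, 4, 4, 4, 1, 4, 4, 1, 4, 2, 2, 4, 4, 4, 3, 3, 4, 3, 3, 2, 3, 3, 3, 3, 1, 3, 3, 3, 2, 3, 2, 3, 3, 3, 2, 3, 2, 3, 3, 3, 1, 4, 3, 4, 1, 3, 3, 3, 3, 3, 2, 3, 3, 4, 4, 3, 4, 4, 3, 2, 3, 4, 4, 3, 4, 4, 3, 4, 4, 4, 4, 4, 4, 4, 4, 4, 4, 4, 4, 3, 3, 2, 4, 3, 2, 3, 4, 3, 4, 3, 4, 1, 4, 4, 3, 3, 4, 3, 1, 4, 3, 3, 3, 4, 4, 2, 2, 2, 2, 2, 4, 4, 4, 4, 1, 2, 1, 2, 1, 2, 2, 2]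

/-- The conjugators onto the representatives. -/
def conjs : List (List (List ℕ)) := [
  [[1,0,0,0,0,0],[0,1,0,0,0,0],[0,0,1,0,0,0],[0,0,0,1,0,0],[0,0,0,0,1,0],[0,0,0,0,0,1]],
  [[2,0,0,1,1,2],[1,1,1,2,1,1],[1,2,2,2,1,0],[2,2,1,2,1,1],[1,1,2,0,2,1],[0,2,0,1,2,2]],
  [[1,1,0,0,1,2],[1,0,1,0,2,1],[1,1,2,0,2,1],[2,0,1,2,1,2],[0,2,1,1,0,2],[2,2,2,1,2,2]],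
  [[0,0,1,2,2,2],[2,2,0,2,2,2],[2,1,0,1,2,0],[0,0,2,1,1,2],[0,0,0,1,1,0],[0,0,0,1,2,0]],
  [[1,0,2,2,1,2],[1,1,2,0,2,2],[2,0,1,0,2,0],[2,2,2,0,0,1],[1,1,2,1,0,0],[0,2,1,2,2,1]],
  [[1,0,0,2,0,0],[0,2,0,0,1,0],[0,0,1,0,0,0],[2,0,0,2,0,0],[0,1,0,0,1,0],[0,0,0,0,0,1]],
  [[1,0,0,1,0,0],[0,2,0,0,2,0],[0,0,2,0,0,2],[2,0,0,0,0,0],[0,1,0,0,0,0],[0,0,0,0,0,2]],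
  [[0,0,0,1,0,0],[0,2,0,0,2,0],[0,0,1,0,0,0],[2,0,0,0,0,0],[0,2,0,0,1,0],[0,0,0,0,0,1]],
  [[2,0,0,0,0,0],[0,0,0,0,1,0],[0,0,1,0,0,1],[2,0,0,2,0,0],[0,2,0,0,1,0],[0,0,0,0,0,1]],
  [[0,2,0,0,1,0],[0,0,0,1,0,0],[0,0,1,0,0,0],[0,2,0,0,0,0],[2,0,0,2,0,0],[0,0,1,0,0,1]],
  [[1,2,2,2,0,2],[1,0,0,1,1,1],[2,1,0,0,2,0],[2,1,1,1,0,0],[0,1,0,2,1,1],[0,1,0,1,1,0]],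
  [[0,2,0,0,2,0],[0,0,0,1,0,0],[0,0,1,0,0,0],[0,0,0,0,2,0],[2,0,0,2,0,0],[0,0,1,0,0,1]],
  [[2,0,0,1,0,0],[0,1,0,0,0,0],[0,0,1,0,0,2],[2,0,0,0,0,0],[0,2,0,0,1,0],[0,0,0,0,0,1]],
  [[0,2,2,1,0,2],[1,1,1,2,1,2],[0,1,0,1,0,0],[0,2,1,1,0,0],[0,1,0,2,0,0],[1,1,0,1,2,0]],
  [[1,0,0,2,0,0],[0,0,0,0,2,0],[0,0,0,0,0,2],[1,0,0,0,0,0],[0,1,0,0,1,0],[0,0,1,0,0,2]],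
  [[1,1,0,0,0,1],[1,0,1,0,1,2],[2,2,1,0,1,1],[2,0,2,2,1,2],[0,1,0,1,2,1],[1,0,1,2,2,0]],
  [[0,1,1,2,1,2],[0,0,1,1,0,2],[1,1,1,0,2,0],[1,1,0,1,0,1],[1,0,2,0,0,0],[0,1,2,1,1,1]],
  [[2,0,0,2,0,0],[0,0,0,0,1,0],[0,0,1,0,0,1],[1,0,0,0,0,0],[0,2,0,0,1,0],[0,0,0,0,0,1]],
  [[0,0,0,2,0,0],[0,2,0,0,0,0],[0,0,0,0,0,1],[1,0,0,0,0,0],[0,0,0,0,2,0],[0,0,2,0,0,0]],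
  [[0,0,0,2,0,0],[0,2,0,0,1,0],[0,0,2,0,0,1],[1,0,0,2,0,0],[0,0,0,0,2,0],[0,0,2,0,0,0]],
  [[2,2,0,2,0,0],[1,1,0,0,1,0],[0,0,0,0,0,1],[2,1,0,0,1,0],[2,1,0,2,0,0],[0,0,2,0,0,0]],
  [[0,0,0,0,0,2],[2,0,0,2,0,0],[0,1,0,0,0,0],[0,0,1,0,0,2],[0,0,0,2,0,0],[0,1,0,0,1,0]],
  [[1,0,0,0,0,0],[0,2,0,0,2,0],[0,0,1,0,0,0],[0,0,0,1,0,0],[0,2,0,0,1,0],[0,0,0,0,0,1]],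
  [[0,1,0,0,0,0],[0,0,1,0,0,0],[1,0,0,0,0,0],[0,2,0,0,1,0],[0,0,1,0,0,1],[0,0,0,1,0,0]],
  [[1,0,0,1,0,0],[0,1,0,0,2,0],[0,0,2,0,0,1],[2,0,0,0,0,0],[0,0,0,0,1,0],[0,0,1,0,0,1]],
  [[2,0,1,1,0,0],[1,0,0,1,1,2],[1,2,1,2,2,0],[2,0,0,2,0,2],[0,1,1,1,0,1],[0,2,1,1,0,1]],
  [[2,1,0,1,1,0],[1,2,0,1,1,0],[0,0,1,0,0,1],[0,1,0,1,0,0],[1,0,0,0,1,0],[0,0,0,0,0,1]],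
  [[0,0,0,0,0,2],[0,2,0,0,2,0],[1,0,0,0,0,0],[0,0,1,0,0,2],[0,0,0,0,2,0],[1,0,0,1,0,0]],
  [[1,0,0,0,0,0],[0,0,1,0,0,0],[0,1,0,0,0,0],[2,0,0,1,0,0],[0,0,1,0,0,1],[0,0,0,0,1,0]],
  [[0,0,0,1,0,0],[0,1,0,0,0,0],[0,0,1,0,0,0],[2,0,0,1,0,0],[0,1,0,0,1,0],[0,0,0,0,0,1]],
  [[2,2,2,2,0,2],[0,2,0,1,1,1],[2,2,0,0,2,0],[1,1,1,1,0,0],[1,0,0,2,1,1],[2,0,0,1,1,0]],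
  [[0,0,2,0,0,0],[2,0,0,1,0,0],[0,1,0,0,0,0],[0,0,1,0,0,2],[0,0,0,2,0,0],[0,1,0,0,1,0]],
  [[0,2,2,0,2,0],[0,1,1,0,0,1],[0,0,0,1,0,0],[0,2,1,0,0,1],[0,2,1,0,2,0],[2,0,0,0,0,0]],
  [[0,0,2,0,2,0],[0,1,2,0,2,1],[0,0,0,2,0,0],[0,2,0,0,2,1],[0,2,2,0,0,2],[1,0,0,1,0,0]],
  [[0,2,2,2,2,0],[0,1,0,1,2,2],[2,2,1,0,2,2],[1,1,1,2,2,2],[1,1,1,1,0,2],[1,1,0,2,0,2]],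
  [[2,0,1,0,0,2],[2,0,2,1,0,2],[0,2,0,0,0,0],[2,0,1,1,0,1],[1,0,1,0,0,2],[0,2,0,0,2,0]],
  [[1,2,2,1,2,2],[0,2,0,1,0,0],[1,1,0,0,2,1],[0,1,2,1,0,0],[1,2,0,0,1,0],[0,1,1,1,0,0]],
  [[0,0,1,0,0,2],[0,0,0,0,2,0],[0,0,0,2,0,0],[0,0,2,0,0,2],[0,1,0,0,0,0],[1,0,0,0,0,0]],
  [[2,0,1,1,0,1],[1,0,2,1,0,1],[0,1,0,0,1,0],[0,0,1,1,0,0],[1,0,0,0,0,1],[0,0,0,0,1,0]],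
  [[1,0,2,1,0,0],[0,0,0,1,0,1],[0,2,0,0,0,0],[0,0,0,2,0,1],[1,0,1,1,0,0],[0,0,0,0,2,0]],
  [[2,1,1,1,0,1],[0,0,0,0,1,2],[2,2,2,2,2,1],[0,0,0,1,1,1],[0,1,2,0,2,0],[1,1,1,2,0,1]],
  [[0,0,1,0,0,1],[0,2,0,0,0,0],[1,0,0,0,0,0],[0,0,1,0,0,2],[0,0,0,0,2,0],[1,0,0,1,0,0]],
  [[0,1,1,0,1,2],[1,2,0,1,0,2],[0,2,1,1,2,2],[0,1,0,0,0,2],[2,0,1,1,2,0],[1,0,1,2,2,0]],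
  [[0,0,2,0,0,0],[0,2,0,0,1,0],[1,0,0,0,0,0],[0,0,1,0,0,2],[0,0,0,0,2,0],[1,0,0,1,0,0]],
  [[2,0,2,2,0,0],[1,0,1,0,0,1],[0,0,0,0,1,0],[2,0,1,0,0,1],[2,0,1,2,0,0],[0,2,0,0,0,0]],
  [[0,0,2,2,0,0],[1,0,2,2,0,1],[0,0,0,0,2,0],[2,0,0,2,0,1],[2,0,2,0,0,2],[0,1,0,0,1,0]],
  [[2,2,2,1,0,2],[2,0,1,2,1,2],[2,1,0,1,0,0],[2,2,1,1,0,0],[1,1,0,2,0,0],[0,2,0,1,2,0]],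
  [[0,2,0,0,0,0],[0,0,0,1,0,0],[0,0,1,0,0,0],[0,1,0,0,2,0],[2,0,0,2,0,0],[0,0,1,0,0,1]],
  [[0,2,1,0,1,1],[0,1,2,0,1,1],[1,0,0,1,0,0],[0,0,1,0,1,0],[0,1,0,0,0,1],[0,0,0,1,0,0]],
  [[0,0,0,1,0,0],[0,1,0,0,0,0],[0,0,1,0,0,2],[2,0,0,2,0,0],[0,2,0,0,1,0],[0,0,0,0,0,1]],
  [[0,2,2,2,0,2],[2,1,0,1,1,1],[2,0,0,0,2,0],[0,1,1,1,0,0],[2,2,0,2,1,1],[1,2,0,1,1,0]],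
  [[0,2,0,2,0,0],[2,1,0,2,2,0],[0,0,0,0,0,1],[2,0,0,0,1,0],[1,1,0,2,1,0],[0,0,2,0,0,1]],
  [[0,0,1,0,1,1],[0,1,2,0,1,0],[0,0,0,1,0,0],[0,1,0,0,0,2],[0,2,2,0,1,1],[2,0,0,2,0,0]],
  [[0,1,0,0,1,0],[2,0,0,0,0,0],[0,0,1,0,0,0],[0,1,0,0,2,0],[0,0,0,2,0,0],[0,0,1,0,0,1]],
  [[0,0,0,1,2,0],[2,2,0,1,1,0],[0,0,2,0,0,1],[1,2,0,1,2,0],[1,1,0,0,0,0],[0,0,1,0,0,1]],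
  [[2,0,2,2,0,0],[2,0,2,1,0,1],[0,2,0,0,2,0],[1,0,2,2,0,1],[2,0,1,2,0,0],[0,2,0,0,1,0]],
  [[0,2,0,0,2,0],[2,0,0,0,0,0],[0,0,2,0,0,0],[0,0,0,0,2,0],[1,0,0,2,0,0],[0,0,2,0,0,2]],
  [[1,0,0,0,0,0],[0,0,0,0,2,0],[0,0,1,0,0,0],[2,0,0,1,0,0],[0,1,0,0,1,0],[0,0,0,0,0,1]],
  [[0,2,2,0,2,0],[0,2,2,0,1,1],[2,0,0,2,0,0],[0,1,2,0,2,1],[0,2,1,0,2,0],[2,0,0,1,0,0]],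
  [[0,0,0,1,0,0],[0,2,0,0,2,0],[0,0,0,0,0,2],[2,0,0,0,0,0],[0,2,0,0,1,0],[0,0,1,0,0,0]],
  [[1,0,0,0,0,0],[0,2,0,0,1,0],[0,0,2,0,0,1],[1,0,0,1,0,0],[0,0,0,0,2,0],[0,0,2,0,0,0]],
  [[0,0,0,0,2,0],[2,0,0,1,0,0],[0,0,1,0,0,0],[0,1,0,0,2,0],[0,0,0,2,0,0],[0,0,1,0,0,1]],
  [[2,0,0,1,0,0],[0,2,0,0,2,0],[0,0,2,0,0,2],[0,0,0,2,0,0],[0,1,0,0,0,0],[0,0,0,0,0,2]],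
  [[0,0,0,1,0,0],[0,2,0,0,0,0],[0,0,0,0,0,1],[2,0,0,0,0,0],[0,0,0,0,2,0],[0,0,2,0,0,0]],
  [[1,1,0,0,0,0],[1,2,0,2,1,0],[0,0,0,0,0,2],[0,0,0,2,2,0],[1,2,0,1,2,0],[0,0,1,0,0,1]],
  [[1,0,1,2,0,0],[2,2,0,2,1,2],[1,2,0,1,1,1],[1,0,0,1,0,2],[0,2,1,2,2,1],[2,0,2,0,1,1]],
  [[0,1,0,0,2,0],[0,0,0,2,0,0],[0,0,0,0,0,2],[0,2,0,0,2,0],[1,0,0,0,0,0],[0,0,1,0,0,0]],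
  [[0,2,0,0,2,0],[2,0,0,0,0,0],[0,0,0,0,0,2],[0,1,0,0,0,0],[2,0,0,2,0,0],[0,0,1,0,0,1]],
  [[1,0,0,0,0,0],[0,2,0,0,1,0],[0,0,1,0,0,0],[0,0,0,1,0,0],[0,1,0,0,1,0],[0,0,0,0,0,1]],
  [[0,0,1,1,0,1],[1,0,2,1,0,0],[0,0,0,0,1,0],[1,0,0,0,0,2],[2,0,2,1,0,1],[0,2,0,0,2,0]],
  [[0,1,0,0,0,0],[2,0,0,2,0,0],[0,0,0,0,0,1],[0,0,0,0,1,0],[2,0,0,1,0,0],[0,0,2,0,0,0]],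
  [[2,0,0,0,0,0],[0,0,0,0,1,0],[0,0,1,0,0,2],[2,0,0,2,0,0],[0,2,0,0,1,0],[0,0,1,0,0,0]],
  [[0,2,0,0,0,0],[2,0,0,2,0,0],[0,0,1,0,0,0],[0,1,0,0,2,0],[0,0,0,2,0,0],[0,0,1,0,0,1]],
  [[2,0,0,1,0,0],[0,0,0,0,1,0],[0,0,1,0,0,1],[0,0,0,2,0,0],[0,2,0,0,1,0],[0,0,0,0,0,1]],
  [[2,0,0,2,0,0],[0,2,0,0,0,0],[0,0,0,0,0,1],[2,0,0,1,0,0],[0,0,0,0,2,0],[0,0,2,0,0,0]],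
  [[2,0,0,0,0,0],[0,2,0,0,1,0],[0,0,2,0,0,1],[2,0,0,2,0,0],[0,0,0,0,2,0],[0,0,2,0,0,0]],
  [[0,0,0,0,1,0],[2,0,0,2,0,0],[0,0,0,0,0,1],[0,2,0,0,0,0],[2,0,0,1,0,0],[0,0,2,0,0,0]],
  [[0,0,0,1,0,0],[0,2,0,0,1,0],[0,0,2,0,0,1],[2,0,0,1,0,0],[0,0,0,0,2,0],[0,0,2,0,0,0]],
  [[0,0,0,2,0,0],[0,0,0,0,1,0],[0,0,1,0,0,1],[1,0,0,2,0,0],[0,2,0,0,1,0],[0,0,0,0,0,1]],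
  [[1,0,0,1,0,0],[0,2,0,0,0,0],[0,0,0,0,0,1],[1,0,0,2,0,0],[0,0,0,0,2,0],[0,0,2,0,0,0]],
  [[2,0,0,1,0,0],[0,2,0,0,2,0],[0,0,1,0,0,0],[1,0,0,1,0,0],[0,2,0,0,1,0],[0,0,0,0,0,1]],
  [[0,1,0,0,2,0],[2,0,0,0,0,0],[0,0,0,0,0,2],[0,0,0,0,1,0],[2,0,0,2,0,0],[0,0,1,0,0,1]],
  [[1,0,0,1,0,0],[0,2,0,0,2,0],[0,0,1,0,0,0],[1,0,0,2,0,0],[0,2,0,0,1,0],[0,0,0,0,0,1]],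
  [[0,2,0,0,1,0],[2,0,0,2,0,0],[0,0,0,0,0,1],[0,1,0,0,1,0],[2,0,0,1,0,0],[0,0,2,0,0,0]],
  [[0,0,0,0,1,0],[2,0,0,0,0,0],[0,0,0,0,0,2],[0,2,0,0,1,0],[2,0,0,2,0,0],[0,0,1,0,0,1]],
  [[0,0,1,0,0,2],[0,0,0,2,0,0],[0,0,0,0,2,0],[0,0,2,0,0,2],[1,0,0,0,0,0],[0,1,0,0,0,0]],
  [[0,1,2,0,1,0],[0,0,0,0,1,1],[2,0,0,0,0,0],[0,0,0,0,2,1],[0,1,1,0,1,0],[0,0,0,2,0,0]],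
  [[2,1,0,0,0,0],[1,0,1,1,1,1],[2,0,1,2,2,1],[1,0,0,1,2,0],[1,2,2,2,2,1],[0,1,1,2,2,0]],
  [[1,0,0,2,0,0],[0,1,0,0,0,0],[0,0,1,0,0,2],[1,0,0,0,0,0],[0,2,0,0,1,0],[0,0,0,0,0,1]],
  [[1,1,0,2,2,0],[2,1,0,0,0,0],[0,0,0,0,0,2],[0,0,0,2,2,0],[1,2,0,1,2,0],[0,0,1,0,0,1]],
  [[1,2,1,2,0,2],[1,2,1,0,0,1],[0,2,0,2,0,1],[1,1,0,0,1,1],[0,0,1,2,2,2],[1,1,1,0,2,0]],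
  [[1,1,0,2,0,0],[1,2,0,2,0,0],[0,0,0,0,0,2],[1,0,0,1,2,0],[1,0,0,1,1,0],[0,0,1,0,0,0]],
  [[2,0,0,2,0,0],[0,1,0,0,2,0],[0,0,2,0,0,1],[0,0,0,2,0,0],[0,1,0,0,0,0],[0,0,0,0,0,2]],
  [[0,0,1,0,0,1],[2,0,0,0,0,0],[0,1,0,0,0,0],[0,0,1,0,0,2],[0,0,0,2,0,0],[0,1,0,0,1,0]],
  [[0,0,0,0,1,0],[0,0,0,1,0,0],[0,0,1,0,0,0],[0,2,0,0,2,0],[2,0,0,2,0,0],[0,0,1,0,0,1]],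
  [[2,0,0,2,1,0],[1,0,0,1,1,0],[0,0,2,0,0,1],[0,1,0,1,1,0],[0,1,0,2,1,0],[0,0,0,0,0,2]],
  [[1,0,0,0,0,0],[0,1,0,0,2,0],[0,0,2,0,0,1],[2,0,0,1,0,0],[0,1,0,0,0,0],[0,0,0,0,0,2]],
  [[0,0,1,1,2,2],[1,2,0,1,2,2],[1,1,0,2,2,0],[0,0,2,2,1,2],[0,0,0,2,1,0],[0,0,0,2,2,0]],
  [[0,0,0,2,0,0],[0,1,0,0,2,0],[0,0,2,0,0,1],[1,0,0,1,0,0],[0,1,0,0,0,0],[0,0,0,0,0,2]],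
  [[0,0,0,1,0,0],[0,0,0,0,2,0],[0,0,0,0,0,2],[2,0,0,2,0,0],[0,1,0,0,1,0],[0,0,1,0,0,2]],
  [[2,1,0,2,2,0],[2,2,0,2,1,0],[0,0,0,0,0,2],[2,0,0,0,2,0],[2,0,0,0,1,0],[0,0,1,0,0,1]],
  [[2,1,0,0,2,0],[1,1,0,0,2,0],[0,0,2,0,0,1],[0,1,0,1,1,0],[0,1,0,2,1,0],[0,0,0,0,0,2]],
  [[2,0,0,2,0,0],[0,1,0,0,0,0],[0,0,1,0,0,2],[0,0,0,2,0,0],[0,2,0,0,1,0],[0,0,0,0,0,1]],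
  [[1,1,0,2,1,0],[1,2,0,2,2,0],[0,0,0,0,0,2],[2,0,0,0,2,0],[2,0,0,0,1,0],[0,0,1,0,0,1]],
  [[1,2,2,1,0,2],[0,2,1,2,1,2],[1,1,0,1,0,0],[1,2,1,1,0,0],[2,1,0,2,0,0],[2,0,0,1,2,0]],
  [[2,0,0,0,0,0],[0,1,0,0,0,0],[0,0,1,0,0,2],[1,0,0,2,0,0],[0,2,0,0,1,0],[0,0,0,0,0,1]],
  [[0,2,1,0,0,2],[0,2,2,0,1,2],[2,0,0,0,0,0],[0,2,1,0,1,1],[0,1,1,0,0,2],[2,0,0,2,0,0]],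
  [[2,2,0,2,2,0],[0,0,0,2,1,0],[0,0,0,0,0,1],[2,2,0,0,0,0],[2,1,0,1,2,0],[0,0,2,0,0,1]],
  [[2,2,0,1,0,0],[1,2,0,2,0,0],[0,0,2,0,0,1],[0,1,0,1,1,0],[0,1,0,2,1,0],[0,0,0,0,0,2]],
  [[0,0,0,2,0,0],[0,1,0,0,0,0],[0,0,1,0,0,2],[1,0,0,1,0,0],[0,2,0,0,1,0],[0,0,0,0,0,1]],
  [[1,0,0,2,0,0],[0,1,0,0,2,0],[0,0,2,0,0,1],[1,0,0,0,0,0],[0,1,0,0,0,0],[0,0,0,0,0,2]],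
  [[0,2,2,2,2,1],[1,2,1,2,1,1],[2,0,2,0,0,0],[1,2,2,0,0,0],[1,1,2,0,0,0],[2,0,1,1,0,1]],
  [[0,2,0,1,2,1],[0,0,1,0,2,2],[1,2,1,1,0,0],[1,0,2,2,2,1],[0,2,2,0,0,0],[2,0,2,1,2,1]],
  [[0,2,0,2,1,1],[1,1,1,0,2,0],[2,1,2,1,2,2],[1,0,2,0,1,2],[2,2,1,2,2,1],[0,1,2,2,0,0]],
  [[0,2,0,0,2,0],[1,0,0,1,0,0],[0,0,0,0,0,1],[0,0,0,0,2,0],[1,0,0,2,0,0],[0,0,2,0,0,2]],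
  [[1,2,2,2,2,0],[1,1,2,1,0,0],[1,0,2,2,1,2],[1,0,0,1,2,2],[0,1,1,1,1,1],[0,1,1,1,2,0]],
  [[2,0,0,0,0,0],[0,2,0,0,1,0],[0,0,1,0,0,0],[0,0,0,2,0,0],[0,1,0,0,1,0],[0,0,0,0,0,1]],
  [[1,0,0,1,0,0],[0,2,0,0,2,0],[0,0,0,0,0,2],[1,0,0,2,0,0],[0,2,0,0,1,0],[0,0,1,0,0,0]],
  [[1,0,0,2,0,0],[0,2,0,0,2,0],[0,0,2,0,0,2],[0,0,0,1,0,0],[0,1,0,0,0,0],[0,0,0,0,0,2]],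
  [[0,0,0,1,0,0],[0,0,0,0,1,0],[0,0,1,0,0,1],[2,0,0,1,0,0],[0,2,0,0,1,0],[0,0,0,0,0,1]],
  [[2,0,0,1,0,0],[1,2,0,2,2,0],[0,0,2,0,0,1],[2,0,0,0,2,0],[0,0,0,0,2,0],[0,0,2,0,0,0]],
  [[0,0,1,1,2,1],[1,1,1,1,1,1],[0,2,2,1,0,0],[1,1,1,1,0,2],[2,0,1,0,1,0],[2,2,2,0,1,2]],
  [[2,0,0,1,0,0],[1,0,2,2,0,2],[0,2,0,0,1,0],[2,0,0,0,0,2],[0,0,0,0,0,2],[0,2,0,0,0,0]],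
  [[2,1,1,2,2,0],[1,2,0,0,1,2],[0,2,2,1,1,1],[0,1,0,2,1,1],[1,2,2,1,0,1],[1,0,0,2,2,2]],
  [[0,2,0,0,1,0],[0,1,2,0,2,2],[2,0,0,1,0,0],[0,2,0,0,0,2],[0,0,0,0,0,2],[2,0,0,0,0,0]],
  [[2,1,2,2,0,0],[0,2,2,1,1,0],[0,1,1,1,0,2],[0,0,0,1,1,2],[2,2,1,1,0,1],[2,1,0,0,2,1]],
  [[1,0,0,1,1,0],[1,0,2,1,2,1],[1,0,1,1,2,2],[2,1,0,1,2,0],[0,1,2,1,0,2],[2,1,0,0,1,2]],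
  [[0,2,2,1,0,2],[1,0,2,2,2,2],[1,1,1,1,2,1],[2,1,2,1,2,0],[2,1,2,0,2,1],[0,0,0,1,2,1]]]

/-- The representatives of the five classes. -/
def repIdx : List ℕ := [0, 120, 1, 20, 5]

end CfsgLib.E8Three.Small.Sp6
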