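import Cfsg.Prelude.Def_Classical
import Cfsg.Agent.E8Three.Small.Sp6Data
import Cfsg.Agent.E8Three.Small.Rep
import Cfsg.Agent.AutPSp.RootGroup

/-!
`E₈(3)` has no subgroup `PSp₆(3)`: the fixed space of a subgroup of order 128 would have
fractional dimension.
-/

set_option autoImplicit false
set_option linter.style.haveILetI false

namespace CfsgLib.E8Three.Small.Sp6

open Cfsg.Lie Matrix

/-- The position of a row index. -/
def pos : Fin 3 ⊕ Fin 3 → ℕ
  | .inl i => i.val
  | .inr i => i.val + 3

/-- An entry of a coded matrix. -/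
def ent (A : List (List ℕ)) (i j : ℕ) : ℕ := (A.getD i []).getD j 0

/-- The product of coded matrices. -/
def mulC (A B : List (List ℕ)) : List (List ℕ) :=
  (List.range 6).map fun i => (List.range 6).map fun j =>
    ((List.range 6).map fun k => ent A i k * ent B k j).sum % 3

/-- The negative of a coded matrix. -/
def negC (A : List (List ℕ)) : List (List ℕ) :=
  (List.range 6).map fun i => (List.range 6).map fun j => (3 - ent A i j % 3) % 3

/-- The transpose of a coded matrix. -/
def trC (A : List (List ℕ)) : List (List ℕ) :=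
  (List.range 6).map fun i => (List.range 6).map fun j => ent A j i % 3

/-- The coded form. -/
def jC : List (List ℕ) := [[0,0,0,2,0,0], [0,0,0,0,2,0], [0,0,0,0,0,2], [1,0,0,0,0,0],
  [0,1,0,0,0,0], [0,0,1,0,0,0]]

/-- The coded identity. -/
def oneC : List (List ℕ) := [[1,0,0,0,0,0], [0,1,0,0,0,0], [0,0,1,0,0,0], [0,0,0,1,0,0],
  [0,0,0,0,1,0], [0,0,0,0,0,1]]

/-- The matrix of a code. -/
def toM (A : List (List ℕ)) : Matrix (Fin 3 ⊕ Fin 3) (Fin 3 ⊕ Fin 3) (ZMod 3) :=
  fun i j => (ent A (pos i) (pos j) : ZMod 3)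

theorem pos_lt (i : Fin 3 ⊕ Fin 3) : pos i < 6 := by
  rcases i with i | i <;> simp [pos] <;> omega

theorem ent_map (f : ℕ → ℕ → ℕ) {i j : ℕ} (hi : i < 6) (hj : j < 6) :
    ent ((List.range 6).map fun i => (List.range 6).map fun j => f i j) i j = f i j := by
  simp [ent, hi, hj]

theorem toM_mul (A B : List (List ℕ)) : toM (mulC A B) = toM A * toM B := by
  ext i j
  have e : ent (mulC A B) (pos i) (pos j) =
      ((List.range 6).map fun k => ent A (pos i) k * ent B k (pos j)).sum % 3 :=
    ent_map _ (pos_lt i) (pos_lt j)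
  show (ent (mulC A B) (pos i) (pos j) : ZMod 3) = _
  rw [e, ZMod.natCast_mod]
  simp only [toM, Matrix.mul_apply, Fintype.sum_sum_type, Fin.sum_univ_three, pos]
  simp [List.range_succ, add_assoc]

theorem toM_neg (A : List (List ℕ)) : toM (negC A) = -toM A := by
  ext i j
  have e : ent (negC A) (pos i) (pos j) = (3 - ent A (pos i) (pos j) % 3) % 3 :=
    ent_map _ (pos_lt i) (pos_lt j)
  show (ent (negC A) (pos i) (pos j) : ZMod 3) = _
  rw [e, ZMod.natCast_mod, Nat.cast_sub (Nat.mod_lt _ (by norm_num)).le, ZMod.natCast_self,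
    ZMod.natCast_mod, zero_sub]
  rfl

theorem toM_tr (A : List (List ℕ)) : toM (trC A) = (toM A)ᵀ := by
  ext i j
  have e : ent (trC A) (pos i) (pos j) = ent A (pos j) (pos i) % 3 :=
    ent_map _ (pos_lt i) (pos_lt j)
  show (ent (trC A) (pos i) (pos j) : ZMod 3) = _
  rw [e, ZMod.natCast_mod]
  rfl

theorem toM_one : toM oneC = 1 := by decide +kernel

theorem toM_jC : toM jC = Matrix.J (Fin 3) (ZMod 3) := by decide +kernel

theorem toM_symp {A : List (List ℕ)} (h : mulC (mulC A jC) (trC A) = jC) :
    toM A ∈ Matrix.symplecticGroup (Fin 3) (ZMod 3) := by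
  rw [SymplecticGroup.mem_iff, ← toM_jC, ← toM_tr, ← toM_mul, ← toM_mul, h]

/-- The test for symplectic codes. -/
def sympChk (A : List (List ℕ)) : Bool := mulC (mulC A jC) (trC A) == jC

/-- Equality up to the sign. -/
def eqPM (A B : List (List ℕ)) : Bool := A == B || A == negC B

theorem gens_symp : gensC.all sympChk = true := by decide +kernel

theorem conjs_symp : conjs.all sympChk = true := by decide +kernel

theorem mats_words : words.map (fun w => w.foldl (fun A i => mulC A (gensC.getD i.val [])) oneC) =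
    mats := by decide +kernel

theorem nxt_ok : ((List.range 128).all fun k => (List.range 3).all fun i =>
    (nxt.getD k []).getD i 128 < 128 &&
      eqPM (mulC (mats.getD k []) (gensC.getD i []))
        (mats.getD ((nxt.getD k []).getD i 128) [])) = true := by decide +kernel

theorem nodup_pm : (mats ++ mats.map negC).Nodup := by decide +kernel

/-- The eighth power of a code. -/
def pow8 (A : List (List ℕ)) : List (List ℕ) :=
  let B := mulC A A
  let C := mulC B B
  mulC C C

theorem exp_ok : (mats.all fun A => eqPM (pow8 A) oneC) = true := by decide +kernel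

/-- The representative of a class. -/
def repC (c : ℕ) : List (List ℕ) := mats.getD (repIdx.getD c 0) []

theorem fuse_ok : ((List.range 128).all fun k => eqPM (mulC (conjs.getD k []) (mats.getD k []))
    (mulC (repC (clsOf.getD k 0)) (conjs.getD k [])) && clsOf.getD k 0 < 5) = true := by
  decide +kernel

theorem link_ok : (eqPM (mulC (repC 4) (repC 4)) (repC 3) &&
    eqPM (mulC (repC 3) (repC 3)) (repC 1)) = true := by decide +kernel

theorem counts_ok : (List.range 5).map (fun c => clsOf.countP (· == c)) = [1, 11, 24, 44, 48] ∧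
    repIdx.getD 0 1 = 0 ∧ clsOf.length = 128 ∧ words.length = 128 := by decide +kernel

theorem rep2_sq : eqPM (mulC (repC 2) (repC 2)) oneC = true := by decide +kernel

theorem sum_by_class (f : ℕ → ℤ) : ∀ l : List ℕ, (∀ c ∈ l, c < 5) →
    (l.map f).sum = ∑ c ∈ Finset.range 5, (l.countP (· == c) : ℤ) * f c := by
  intro l
  induction l with
  | nil => simp
  | cons x l ih =>
    intro hl
    rw [List.map_cons, List.sum_cons, ih fun z hz => hl z (List.mem_cons_of_mem _ hz)]
    simp only [List.countP_cons, Nat.cast_add, add_mul, Finset.sum_add_distrib]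
    rw [add_comm]
    congr 1
    rw [Finset.sum_eq_single x (fun k _ hk => by simp [Ne.symm hk])
      fun h => absurd (Finset.mem_range.mpr (hl x List.mem_cons_self)) h]
    simp

theorem cls8 : (classVecs 8).all (fun v => fixPow 8 v 4 == 248 || [120, 136].all fun b : ℕ =>
    ((248 : ℤ) + 11 * (2 * fixPow 8 v 4 - 248) + 24 * (2 * b - 248) +
      44 * (2 * fixPow 8 v 2 - fixPow 8 v 4) + 48 * (2 * fixPow 8 v 1 - fixPow 8 v 2)) % 128 != 0) =
    true := by decide +kernel

theorem cls2 : (classVecs 2).all (fun v => [120, 136, 248].contains (fixPow 2 v 1)) = true := by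
  decide +kernel

theorem no_psp63 (H : Subgroup ↥(chevE8.group (ZMod 3))) :
    IsEmpty (↥H ≃* Cfsg.PSp 3 (ZMod 3)) := by
  refine ⟨fun e => ?_⟩
  classical
  haveI : Fact (Nat.Prime 3) := ⟨Nat.prime_three⟩
  obtain ⟨τ, hτ, hker⟩ := exists_rep_quot (G := Matrix.symplecticGroup (Fin 3) (ZMod 3))
    (N := Subgroup.center _) e
  -- codes of symplectic matrices and their images
  let S : List (List ℕ) → Matrix.symplecticGroup (Fin 3) (ZMod 3) := fun A =>
    if h : sympChk A = true then ⟨toM A, toM_symp (eq_of_beq h)⟩ else 1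
  have hS : ∀ A, sympChk A = true → ((S A : Matrix.symplecticGroup (Fin 3) (ZMod 3)) :
      Matrix (Fin 3 ⊕ Fin 3) (Fin 3 ⊕ Fin 3) (ZMod 3)) = toM A := fun A h => by
    simp only [S, dif_pos h]
  have hτeq : ∀ a b : Matrix.symplecticGroup (Fin 3) (ZMod 3),
      τ a = τ b ↔ (a : Matrix (Fin 3 ⊕ Fin 3) (Fin 3 ⊕ Fin 3) (ZMod 3)) = b ∨ (a : Matrix (Fin 3 ⊕ Fin 3) (Fin 3 ⊕ Fin 3) (ZMod 3)) =
        -(b : Matrix (Fin 3 ⊕ Fin 3) (Fin 3 ⊕ Fin 3) (ZMod 3)) := by
    intro a b
    rw [eq_comm, ← inv_mul_eq_one, ← map_inv, ← map_mul, hker, CfsgLib.Symp.mem_center_iff]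
    constructor
    · rintro (h | h)
      · exact Or.inl (by
          have := congrArg (fun M => (b : Matrix (Fin 3 ⊕ Fin 3) (Fin 3 ⊕ Fin 3) (ZMod 3)) * M) h
          rwa [← Submonoid.coe_mul, mul_inv_cancel_left, mul_one] at this)
      · exact Or.inr (by
          have := congrArg (fun M => (b : Matrix (Fin 3 ⊕ Fin 3) (Fin 3 ⊕ Fin 3) (ZMod 3)) * M) h
          rwa [← Submonoid.coe_mul, mul_inv_cancel_left, mul_neg, mul_one] at this)
    · rintro (h | h)
      · exact Or.inl (by rw [show a = b from Subtype.ext h, inv_mul_cancel]; rfl)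
      · exact Or.inr (by
          rw [Submonoid.coe_mul, h, mul_neg, ← Submonoid.coe_mul, inv_mul_cancel]; rfl)
  have hPM : ∀ (a b : Matrix.symplecticGroup (Fin 3) (ZMod 3)) (A B : List (List ℕ)),
      (a : Matrix (Fin 3 ⊕ Fin 3) (Fin 3 ⊕ Fin 3) (ZMod 3)) = toM A → (b : Matrix (Fin 3 ⊕ Fin 3) (Fin 3 ⊕ Fin 3) (ZMod 3)) = toM B → eqPM A B = true →
      τ a = τ b := by
    intro a b A B ha hb h
    simp only [eqPM, Bool.or_eq_true, beq_iff_eq] at h
    rw [hτeq, ha, hb]
    rcases h with h | h
    · exact Or.inl (by rw [h])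
    · exact Or.inr (by rw [h, toM_neg])
  let gen : Fin 3 → Matrix.symplecticGroup (Fin 3) (ZMod 3) := fun i => S (gensC.getD i.val [])
  have hg : ∀ i : Fin 3, ((gen i : Matrix.symplecticGroup (Fin 3) (ZMod 3)) :
      Matrix (Fin 3 ⊕ Fin 3) (Fin 3 ⊕ Fin 3) (ZMod 3)) = toM (gensC.getD i.val []) := fun i => by
    refine hS _ (List.all_eq_true.mp gens_symp _ ?_)
    rw [List.getD_eq_getElem _ _ (show i.val < gensC.length from i.isLt)]
    exact List.getElem_mem _
  have hwp : ∀ (w : List (Fin 3)) (A : List (List ℕ)) (a : Matrix.symplecticGroup (Fin 3) (ZMod 3)),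
      (a : Matrix (Fin 3 ⊕ Fin 3) (Fin 3 ⊕ Fin 3) (ZMod 3)) = toM A → ((a * wordProd gen w :
        Matrix.symplecticGroup (Fin 3) (ZMod 3)) : Matrix (Fin 3 ⊕ Fin 3) (Fin 3 ⊕ Fin 3) (ZMod 3)) =
        toM (w.foldl (fun A i => mulC A (gensC.getD i.val [])) A) := by
    intro w
    induction w with
    | nil => intro A a ha; simpa [wordProd] using ha
    | cons i w ih =>
      intro A a ha
      rw [List.foldl_cons, ← ih _ (a * gen i) (by rw [Submonoid.coe_mul, ha, hg, toM_mul]),
        mul_assoc]
      rfl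
  have hlen : words.length = 128 := counts_ok.2.2.2
  have hw : ∀ k, k < 128 → ((wordProd gen (words.getD k []) :
      Matrix.symplecticGroup (Fin 3) (ZMod 3)) : Matrix (Fin 3 ⊕ Fin 3) (Fin 3 ⊕ Fin 3) (ZMod 3)) =
        toM (mats.getD k []) := by
    intro k hk
    rw [← one_mul (wordProd gen _), hwp _ oneC 1 toM_one.symm, ← mats_words,
      List.getD_eq_getElem _ _ (show k < words.length by omega),
      List.getD_eq_getElem _ _ (by rw [List.length_map]; omega), List.getElem_map]
  have hk : ∀ w ∈ words, ∃ k < 128, w = words.getD k [] := fun w hw => by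
    obtain ⟨k, hk, rfl⟩ := List.mem_iff_getElem.mp hw
    exact ⟨k, hlen ▸ hk, (List.getD_eq_getElem _ _ hk).symm⟩
  have hwmem : ∀ k, k < 128 → words.getD k [] ∈ words := fun k hk => by
    rw [List.getD_eq_getElem _ _ (hlen.symm ▸ hk)]; exact List.getElem_mem _
  -- the subgroup
  have hcl : ∀ w ∈ words, ∀ i, ∃ w' ∈ words,
      τ (wordProd gen (w ++ [i])) = τ (wordProd gen w') := by
    intro w hw' i
    obtain ⟨k, hk', rfl⟩ := hk w hw'
    have h := List.all_eq_true.mp (List.all_eq_true.mp nxt_ok k (List.mem_range.mpr hk')) i.val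
      (List.mem_range.mpr i.isLt)
    simp only [Bool.and_eq_true, decide_eq_true_eq] at h
    refine ⟨_, hwmem _ h.1, hPM _ _ _ _ ?_ (hw _ h.1) h.2⟩
    rw [show wordProd gen (words.getD k [] ++ [i]) = wordProd gen (words.getD k []) * gen i by
      simp [wordProd], Submonoid.coe_mul, hw k hk', hg, toM_mul]
  have hnd : (words.map fun w => τ (wordProd gen w)).Nodup := by
    rw [List.nodup_iff_injective_getElem]
    intro a b hab
    simp only [List.getElem_map] at hab
    have ha : a.val < 128 := by have := a.isLt; simp only [List.length_map] at this; omega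
    have hb : b.val < 128 := by have := b.isLt; simp only [List.length_map] at this; omega
    rw [← List.getD_eq_getElem _ [] (show a.val < words.length by omega),
      ← List.getD_eq_getElem _ [] (show b.val < words.length by omega), hτeq, hw _ ha, hw _ hb,
      ← toM_neg] at hab
    have hinj : ∀ A ∈ mats ++ mats.map negC, ∀ B ∈ mats ++ mats.map negC,
        toM A = toM B → A = B := fun A hA B hB h =>
      have hall : (mats ++ mats.map negC).all (fun A =>
          (List.range 6).map (fun i => (List.range 6).map fun j => ent A i j % 3) == A) = true := by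
        decide +kernel
      (eq_of_beq (List.all_eq_true.mp hall A hA)).symm.trans (Eq.trans
        (List.map_congr_left fun i hi => List.map_congr_left fun j hj => by
          rw [List.mem_range] at hi hj
          obtain ⟨i', rfl⟩ : ∃ i', pos i' = i := (show ∀ i : Fin 6, ∃ i', pos i' = i.val by
            decide +kernel) ⟨i, hi⟩
          obtain ⟨j', rfl⟩ : ∃ j', pos j' = j := (show ∀ i : Fin 6, ∃ i', pos i' = i.val by
            decide +kernel) ⟨j, hj⟩
          exact (ZMod.natCast_eq_natCast_iff' _ _ 3).mp (congrFun (congrFun h i') j'))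
        (eq_of_beq (List.all_eq_true.mp hall B hB)))
    have hml : mats.length = 128 := by rw [← mats_words, List.length_map, hlen]
    have hga : ∀ i, i < 128 → mats.getD i [] = (mats ++ mats.map negC).getD i [] := fun i hi => by
      rw [List.getD_append _ _ _ _ (by omega)]
    have hgn : ∀ i, i < 128 → negC (mats.getD i []) = (mats ++ mats.map negC).getD (128 + i) [] :=
      fun i hi => by
      rw [List.getD_append_right _ _ _ _ (by omega), hml, Nat.add_sub_cancel_left,
        List.getD_eq_getElem (mats.map negC) _ (by rw [List.length_map]; omega), List.getElem_map,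
        List.getD_eq_getElem mats _ (by omega)]
    have hmem : ∀ i, i < 256 → (mats ++ mats.map negC).getD i [] ∈ mats ++ mats.map negC :=
      fun i hi => by
      rw [List.getD_eq_getElem _ _ (by simp; omega)]; exact List.getElem_mem _
    have huniq : ∀ i j, i < 256 → j < 256 → (mats ++ mats.map negC).getD i [] =
        (mats ++ mats.map negC).getD j [] → i = j := fun i j hi hj h => by
      rw [List.getD_eq_getElem _ _ (by simp; omega), List.getD_eq_getElem _ _ (by simp; omega)] at h
      exact (nodup_pm.getElem_inj_iff).mp h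
    rw [hga _ ha, hga _ hb] at hab
    rcases hab with h | h
    · exact Fin.ext (huniq _ _ (by omega) (by omega) (hinj _ (hmem _ (by omega)) _ (hmem _ (by omega)) h))
    · rw [← hga _ hb, hgn _ hb] at h
      have := huniq _ _ (by omega) (by omega) (hinj _ (hmem _ (by omega)) _ (hmem _ (by omega)) h)
      omega
  have hexp : ∀ w ∈ words, τ (wordProd gen w) ^ 8 = 1 := by
    intro w hw'
    obtain ⟨k, hk', rfl⟩ := hk w hw'
    rw [← map_pow, ← map_one τ]
    refine hPM _ _ (pow8 (mats.getD k [])) oneC ?_ toM_one.symm (List.all_eq_true.mp exp_ok _ ?_)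
    · rw [SubmonoidClass.coe_pow, hw k hk', pow8, toM_mul, toM_mul, toM_mul]
      simp only [← pow_two, ← pow_mul]
      norm_num
    · rw [List.getD_eq_getElem _ _ (by rw [← mats_words, List.length_map]; omega)]
      exact List.getElem_mem _
  have hw0' : ([] : List (Fin 3)) = words.getD 0 [] := by decide +kernel
  have hfd := fd_words τ gen words (hw0' ▸ hwmem 0 (by norm_num)) hcl hnd (n := 8) (L := [(1, 1), (2, -1)])
    (by decide +kernel) (by norm_num) (by rw [hlen]; norm_num) hexp
  -- the representatives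
  let r : ℕ → GL chevE8.Idx (ZMod 3) := fun c => τ (wordProd gen (words.getD (repIdx.getD c 0) []))
  have hridx : ∀ c, repIdx.getD c 0 < 128 := fun c => by
    by_cases h : c < repIdx.length
    · exact (show ∀ i < repIdx.length, repIdx.getD i 0 < 128 by decide +kernel) c h
    · rw [List.getD_eq_default _ _ (by omega)]; norm_num
  have hrC : ∀ c, ((wordProd gen (words.getD (repIdx.getD c 0) []) :
      Matrix.symplecticGroup (Fin 3) (ZMod 3)) : Matrix (Fin 3 ⊕ Fin 3) (Fin 3 ⊕ Fin 3) (ZMod 3)) =
      toM (repC c) := fun c => hw _ (hridx c)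
  have hconj : ∀ k, k < 128 → ∀ j, fixEl ((τ (wordProd gen (words.getD k [])) ^ j :
      GL chevE8.Idx (ZMod 3)) : Matrix chevE8.Idx chevE8.Idx (ZMod 3)) =
      fixEl ((r (clsOf.getD k 0) ^ j : GL chevE8.Idx (ZMod 3)) :
        Matrix chevE8.Idx chevE8.Idx (ZMod 3)) := by
    intro k hk' j
    have h := List.all_eq_true.mp fuse_ok k (List.mem_range.mpr hk')
    rw [Bool.and_eq_true] at h
    have hc : sympChk (conjs.getD k []) = true := by
      by_cases hl : k < conjs.length
      · rw [List.getD_eq_getElem _ _ hl]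
        exact List.all_eq_true.mp conjs_symp _ (List.getElem_mem _)
      · exact absurd ((show conjs.length = 128 by decide +kernel) ▸ hk') hl
    have e1 : τ (S (conjs.getD k []) * wordProd gen (words.getD k [])) =
        τ (wordProd gen (words.getD (repIdx.getD (clsOf.getD k 0) 0) []) * S (conjs.getD k [])) :=
      hPM _ _ _ _ (by rw [Submonoid.coe_mul, hS _ hc, hw k hk', toM_mul])
        (by rw [Submonoid.coe_mul, hS _ hc, hrC, toM_mul]) h.1
    have e2 : r (clsOf.getD k 0) =
        τ (S (conjs.getD k [])) * τ (wordProd gen (words.getD k [])) * (τ (S (conjs.getD k [])))⁻¹ := by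
      rw [← map_mul, e1, map_mul, mul_inv_cancel_right]
    rw [e2, conj_pow, fixEl_conj]
  obtain ⟨v, hv, hfix⟩ := class_fix (n := 8) (by norm_num) (hτ _)
    (hexp _ (hwmem _ (hridx 4)))
  have hr4 : r 4 ^ 2 = r 3 := by
    rw [pow_two]
    simp only [r, ← map_mul]
    exact hPM _ _ _ _ (by rw [Submonoid.coe_mul, hrC, toM_mul]) (hrC 3)
      ((Bool.and_eq_true _ _).mp link_ok).1
  have hr3 : r 3 ^ 2 = r 1 := by
    rw [pow_two]
    simp only [r, ← map_mul]
    exact hPM _ _ _ _ (by rw [Submonoid.coe_mul, hrC, toM_mul]) (hrC 1)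
      ((Bool.and_eq_true _ _).mp link_ok).2
  have hw0 : words.getD 0 [] = [] := by decide +kernel
  have hr0 : r 0 = 1 := by
    simp only [r, show repIdx.getD 0 0 = 0 by decide +kernel, hw0]
    simp [wordProd]
  have hne : ∀ c, repIdx.getD c 0 ≠ 0 → r c ≠ 1 := by
    intro c hc h
    refine hc ((hnd.getElem_inj_iff (hi := by rw [List.length_map, hlen]; exact hridx c)
      (hj := by rw [List.length_map, hlen]; norm_num)).mp ?_)
    simp only [List.getElem_map]
    rw [← List.getD_eq_getElem _ [] (hlen.symm ▸ hridx c),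
      ← List.getD_eq_getElem _ [] (show 0 < words.length by omega), hw0]
    exact h.trans (by simp [wordProd])
  have hr22 : r 2 ^ 2 = 1 := by
    rw [pow_two, ← map_one τ]
    simp only [r, ← map_mul]
    exact hPM _ _ _ _ (by rw [Submonoid.coe_mul, hrC, toM_mul]) toM_one.symm rep2_sq
  obtain ⟨v2, hv2, hfix2⟩ := class_fix (n := 2) (by norm_num) (hτ _) hr22
  set b := fixPow 2 v2 1
  have hb : b = 120 ∨ b = 136 := by
    have h := List.all_eq_true.mp cls2 v2 hv2
    have h1 : b ≠ 248 := fun h =>
      hne 2 (by decide +kernel) (eq_one_of_fixEl (by have := hfix2 1; rw [pow_one] at this; rw [this]; exact h))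
    simp only [List.contains_iff_mem, List.mem_cons, List.not_mem_nil, or_false] at h
    omega
  have h4 : fixPow 8 v 4 ≠ 248 := fun h => by
    refine hne 1 (by decide +kernel) (eq_one_of_fixEl ?_)
    rw [← hr3, ← hr4, ← pow_mul]
    exact (hfix 4).trans h
  -- the values of the class functions
  let T : ℕ → ℤ := fun c => 4 * (2 * (fixEl ((r c : GL chevE8.Idx (ZMod 3)) :
    Matrix chevE8.Idx chevE8.Idx (ZMod 3)) : ℤ) - (fixEl ((r c ^ 2 : GL chevE8.Idx (ZMod 3)) :
    Matrix chevE8.Idx chevE8.Idx (ZMod 3)) : ℤ))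
  have hsum : (words.map fun w => cycT 8 [(1, 1), (2, -1)] τ (wordProd gen w)).sum =
      (clsOf.map T).sum := by
    have hcl' : clsOf.length = 128 := counts_ok.2.2.1
    refine congrArg List.sum (List.ext_getElem (by simp [hlen, hcl']) fun k h1 h2 => ?_)
    have hk' : k < 128 := by simpa [hlen] using h1
    have e1 := hconj k hk' 1
    have e2 := hconj k hk' 2
    simp only [pow_one] at e1
    rw [List.getElem_map, List.getElem_map, ← List.getD_eq_getElem _ [] (hlen.symm ▸ hk'),
      ← List.getD_eq_getElem _ 0 (hcl'.symm ▸ hk')]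
    simp only [cycT, List.map_cons, List.map_nil, List.sum_cons, List.sum_nil, pow_one, map_pow, e1, e2, T]
    norm_num
    ring
  have hlt : ∀ c ∈ clsOf, c < 5 := by decide +kernel
  have hc := counts_ok.1
  simp only [List.range_succ, List.range_zero, List.nil_append, List.map_cons,
    List.map_nil, List.map_append, List.cons_append, List.cons.injEq, and_true] at hc
  obtain ⟨c0, c1, c2, c3, c4⟩ := hc
  rw [hsum, sum_by_class T clsOf hlt] at hfd
  simp only [Finset.sum_range_succ, Finset.sum_range_zero, zero_add, c0, c1, c2, c3, c4, hlen] at hfd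
  have T0 : T 0 = 4 * 248 := by
    simp only [T, hr0, one_pow, Units.val_one, fixEl_one]; norm_num
  have T1 : T 1 = 4 * (2 * (fixPow 8 v 4 : ℤ) - 248) := by
    have h1 : fixEl ((r 1 : GL chevE8.Idx (ZMod 3)) : Matrix chevE8.Idx chevE8.Idx (ZMod 3)) =
        fixPow 8 v 4 := by rw [← hr3, ← hr4, ← pow_mul]; exact hfix 4
    have h2 : r 1 ^ 2 = 1 := by
      rw [← hr3, ← hr4, ← pow_mul, ← pow_mul]; exact hexp _ (hwmem _ (hridx 4))
    simp only [T, h1, h2, Units.val_one, fixEl_one]
    norm_num
  have T2 : T 2 = 4 * (2 * (b : ℤ) - 248) := by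
    have h1 : fixEl ((r 2 : GL chevE8.Idx (ZMod 3)) : Matrix chevE8.Idx chevE8.Idx (ZMod 3)) = b := by
      have h' := hfix2 1
      rw [pow_one] at h'
      exact h'
    simp only [T, hr22, h1, Units.val_one, fixEl_one]
    norm_num
  have T3 : T 3 = 4 * (2 * (fixPow 8 v 2 : ℤ) - fixPow 8 v 4) := by
    have h1 : fixEl ((r 3 : GL chevE8.Idx (ZMod 3)) : Matrix chevE8.Idx chevE8.Idx (ZMod 3)) =
        fixPow 8 v 2 := by rw [← hr4]; exact hfix 2
    have h2 : fixEl ((r 3 ^ 2 : GL chevE8.Idx (ZMod 3)) : Matrix chevE8.Idx chevE8.Idx (ZMod 3)) =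
        fixPow 8 v 4 := by rw [← hr4, ← pow_mul]; exact hfix 4
    simp only [T, h1, h2]
  have T4 : T 4 = 4 * (2 * (fixPow 8 v 1 : ℤ) - fixPow 8 v 2) := by
    have h1 : fixEl ((r 4 : GL chevE8.Idx (ZMod 3)) : Matrix chevE8.Idx chevE8.Idx (ZMod 3)) =
        fixPow 8 v 1 := by
      have h' := hfix 1
      rw [pow_one] at h'
      exact h'
    have h2 : fixEl ((r 4 ^ 2 : GL chevE8.Idx (ZMod 3)) : Matrix chevE8.Idx chevE8.Idx (ZMod 3)) =
        fixPow 8 v 2 := hfix 2
    simp only [T, h1, h2]
  rw [T0, T1, T2, T3, T4, show (cop 8).length = 4 by decide +kernel] at hfd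
  have h := List.all_eq_true.mp cls8 v hv
  simp only [Bool.or_eq_true, beq_iff_eq, h4, false_or, List.all_eq_true, bne_iff_ne] at h
  refine h b (by simp; omega) ?_
  push_cast at hfd
  omega

end CfsgLib.E8Three.Small.Sp6
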