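import Cfsg.Agent.E8Three.Small.U43Cert
import Cfsg.Agent.E8Three.Small.U43Data

/-!
The certificate checks in coded subgroups of `PSU₄(3)`.
-/

set_option autoImplicit false
set_option maxRecDepth 100000

namespace CfsgLib.E8Three.Small.U43

open CfsgLib.U43Type.Mats (mC oneC)

theorem piX_ok : permOk zX oneC tP.gens tD piX = true := by decide +kernel
theorem certA_ok : certOk zX tD repsA termsA = true := by decide +kernel
theorem piC_ok : (piC.all fun p => permOk zC p.1 t5.gens tP p.2) = true := by decide +kernel
theorem piC_all : (termsB.all fun t => (piC.map Prod.fst).contains t.2.2.2) = true := by decide +kernel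
theorem hA_one : (termsA.all fun t => t.2.2.2 == oneC) = true := by decide +kernel
theorem certB_ok : certOk zC tP repsB termsB = true := by decide +kernel

end CfsgLib.E8Three.Small.U43
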