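import Cfsg.Agent.E8Three.Small.U43Cert
import Cfsg.Agent.E8Three.Small.U43Data

/-!
The table checks in coded subgroups of `PSU₄(3)`.
-/

set_option autoImplicit false
set_option maxRecDepth 100000

namespace CfsgLib.E8Three.Small.U43

open CfsgLib.U43Type.Mats (mC oneC)

theorem tP_table : tP.tableOk = true := by decide +kernel
theorem tP_class : tP.classOk tests reps 8 = true := by decide +kernel

end CfsgLib.E8Three.Small.U43
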