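import Cfsg.Agent.E8Three.Small.U43Checks
import Cfsg.Agent.E8Three.Small.U43CheckP
import Cfsg.Agent.E8Three.Small.U43CheckD
import Cfsg.Agent.E8Three.Small.U43CertChecks
import Cfsg.Agent.U33Degrees.Transfer
import Mathlib.FieldTheory.Finite.GaloisField

/-!
`E₈(3)` has no subgroup `PSU₄(3)`.
-/

set_option autoImplicit false
set_option linter.style.haveILetI false

namespace CfsgLib.E8Three.Small.U43

open Cfsg.Lie Matrix CfsgLib.E8Three
open Cfsg.Agent.McLU43 (K9)
open CfsgLib.U43Type.Mats (toM mC toM_mC oneC toM_one)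

local notation "SU4" => Cfsg.SU 4 K9 3

theorem sum_six (f : ℕ → ℤ) : ∀ l : List ℕ, (∀ c ∈ l, c < 6) →
    (l.map f).sum = ∑ c ∈ Finset.range 6, (l.countP (· == c) : ℤ) * f c := by
  intro l
  induction l with
  | nil => simp
  | cons x l ih =>
    intro hl
    rw [List.map_cons, List.sum_cons, ih fun z hz => hl z (List.mem_cons_of_mem _ hz)]
    simp only [List.countP_cons, Nat.cast_add, add_mul, Finset.sum_add_distrib]
    rw [add_comm]
    congr 1
    rw [Finset.sum_eq_single x (fun k _ hk => by simp [Ne.symm hk])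
      fun h => absurd (Finset.mem_range.mpr (hl x List.mem_cons_self)) h]
    simp

/-- The fixed dimensions of an element of order four and of its square. -/
def l4 : List (ℕ × ℕ) := [(248, 248), (134, 136), (136, 248), (82, 136), (60, 120), (66, 136), (64, 120),
  (92, 120), (70, 136), (120, 248)]

/-- The fixed dimensions of the powers of an element of order eight. -/
def l8 : List (ℕ × ℕ × ℕ) := [(248, 248, 248), (134, 136, 248), (136, 248, 248), (80, 82, 136), (80, 134, 136),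
  (82, 136, 248), (52, 92, 120), (60, 120, 248), (30, 60, 120), (32, 60, 120), (34, 70, 136), (66, 136, 248),
  (34, 66, 136), (64, 120, 248), (68, 92, 120), (48, 82, 136), (38, 60, 120), (36, 70, 136), (32, 64, 120),
  (40, 82, 136), (50, 66, 136), (38, 70, 136), (92, 120, 248), (70, 136, 248), (44, 92, 120), (64, 134, 136),
  (120, 248, 248)]

theorem cls4 : (classVecs 4).all (fun v => l4.contains (fixPow 4 v 1, fixPow 4 v 2)) = true := by
  decide +kernel

theorem cls8 : (classVecs 8).all (fun v => l8.contains (fixPow 8 v 1, fixPow 8 v 2, fixPow 8 v 4)) = true := by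
  decide +kernel

theorem cls5 : (classVecs 5).all (fun v => [48, 52, 68, 248].contains (fixPow 5 v 1) &&
    fixPow 5 v 2 == fixPow 5 v 1) = true := by
  decide +kernel

/-- The only fixed dimensions compatible with the congruences of the Sylow subgroup. -/
theorem combos : (l4.all fun p => l8.all fun q =>
    let e : ℤ := 248 + 15 * (2 * (q.2.2 : ℤ) - 248)
    let s : ℤ := 248 + 35 * (2 * (q.2.2 : ℤ) - 248) + 56 * (2 * (p.1 : ℤ) - q.2.2) +
      20 * (2 * (q.2.1 : ℤ) - q.2.2) + 16 * (2 * (q.1 : ℤ) - q.2.1)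
    !(p.2 == q.2.2 && q.2.2 != 248 && s % 128 == 0 && e % 16 == 0 && s / 128 ≤ e / 16 && 0 ≤ s) ||
      (p == (60, 120) && q == (32, 64, 120))) = true := by
  decide +kernel

/-- The fixed dimensions of the four subgroups. -/
theorem arith {a x y z f dE dP d5 dD : ℕ} (hy : (y, a) ∈ l4) (hz : (z, x, a) ∈ l8) (ha : a ≠ 248)
    (hf : f = 48 ∨ f = 52 ∨ f = 68)
    (hE : (16 * dE : ℤ) = 248 + 15 * (2 * a + -248))
    (hP : (512 * dP : ℤ) = 992 + 35 * (8 * a + -992) + 56 * (8 * y + -(4 * a)) +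
      20 * (8 * x + -(4 * a)) + 16 * (8 * z + -(4 * x)))
    (h5 : (320 * d5 : ℤ) = 992 + 15 * (10 * a + (-1240 + (-(2 * a) + 248))) + 64 * (10 * f + (-(5 * f) + -248)))
    (hD : (1280 * dD : ℤ) = 1984 + 35 * (20 * a + (-2480 + (-(4 * a) + 496))) +
      40 * (20 * y + (-(10 * a) + (-(4 * y) + 2 * a))) + 20 * (20 * x + (-(10 * a) + (-(4 * x) + 2 * a))) +
      64 * (20 * f + (-(10 * f) + -496)))
    (hPE : dP ≤ dE) (h5E : d5 ≤ dE) : dP = 1 ∧ (f = 48 ∧ d5 = 0 ∨ f = 52 ∧ dD = 2) := by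
  have hc := List.all_eq_true.mp (List.all_eq_true.mp combos _ hy) _ hz
  simp only [Bool.or_eq_true, Bool.not_eq_true', Bool.and_eq_false_iff, Bool.and_eq_true,
    beq_eq_false_iff_ne, bne_eq_false_iff_eq, decide_eq_false_iff_not, decide_eq_true_eq, beq_iff_eq,
    Prod.mk.injEq] at hc
  rcases hc with ((((((h | h) | h) | h) | h) | h) | h) <;> omega

variable (τ : SU4 →* GL chevE8.Idx (ZMod 3))
  (hker : ∀ g, τ g = 1 ↔ g ∈ Subgroup.center SU4) (hτ : ∀ g, τ g ∈ chevE8.group (ZMod 3))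

set_option maxHeartbeats 2000000 in
include hker hτ in
theorem false_of_rep : False := by
  classical
  haveI : Fact (Nat.Prime 3) := ⟨Nat.prime_three⟩
  obtain ⟨hR0, hreps, hsq, h43, h31, h11, h22, h55⟩ := rep_facts
  set R : ℕ → Nat := fun k => reps.getD k oneC with hRdef
  set r : ℕ → GL chevE8.Idx (ZMod 3) := fun k => τ (S (R k)) with hr
  have hm : ∀ k, mat (S (R k)) = toM (R k) := fun k => mat_getD hreps k
  have hsqr : ∀ i j, eq4 (mC (R i) (R i)) (R j) = true → r i ^ 2 = r j := fun i j h => by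
    rw [pow_two]
    simp only [hr, ← map_mul]
    exact τ_eq τ hker (by rw [mat_mul, hm, toM_mC]) (hm j) h
  have r0 : r 0 = 1 := by simp only [hr, hRdef, hR0, S_one, map_one]
  have r43 : r 4 ^ 2 = r 3 := hsqr 4 3 h43
  have r31 : r 3 ^ 2 = r 1 := hsqr 3 1 h31
  have r11 : r 1 ^ 2 = 1 := by
    rw [pow_two, ← map_one τ]
    simp only [hr, ← map_mul]
    exact τ_eq τ hker (by rw [mat_mul, hm, toM_mC]) toM_one.symm h11
  have r22 : r 2 ^ 2 = (τ (S sqConj))⁻¹ * r 1 * τ (S sqConj) := by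
    rw [mul_assoc, eq_inv_mul_iff_mul_eq, pow_two]
    simp only [hr, ← map_mul]
    exact τ_eq τ hker (by rw [mat_mul, mat_mul, mat_S hsq, hm, toM_mC, toM_mC])
      (by rw [mat_mul, mat_S hsq, hm, toM_mC]) h22
  have r24 : r 2 ^ 4 = 1 := by
    rw [show (4 : ℕ) = 2 * 2 from rfl, pow_mul, r22]
    have : (((τ (S sqConj))⁻¹ * r 1 * τ (S sqConj)) ^ 2) = (τ (S sqConj))⁻¹ * r 1 ^ 2 * τ (S sqConj) := by
      simp only [pow_two, mul_assoc, mul_inv_cancel_left]
    rw [this, r11, mul_one, inv_mul_cancel]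
  have r55 : r 5 ^ 5 = 1 := by
    simp only [hr, ← map_pow]
    rw [← map_one τ]
    refine τ_eq τ hker (A := powC (R 5) 5) ?_ toM_one.symm h55
    simp only [powC, pow_succ, pow_zero, mat_mul, toM_mC, toM_one, one_mul, hm]
  have r8 : r 4 ^ 8 = 1 := by
    rw [show (8 : ℕ) = 2 * 2 * 2 from rfl, pow_mul, pow_mul, r43, r31, r11]
  -- non-trivial elements
  have hne : ∀ k, (k = 1 ∨ k = 5) → r k ≠ 1 := by
    intro k hk h
    have hk' : k ∈ [1, 5] := by simpa using hk
    have h' := List.all_eq_true.mp rep_noncentral k hk'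
    simp only [List.any_eq_true, Bool.and_eq_true, bne_iff_ne] at h'
    obtain ⟨t, -, ht, hne⟩ := h'
    have hc := Subgroup.mem_center_iff.mp ((hker _).mp h) (S t)
    refine hne (fd_tab.toM_inj_mC tP (n := 0) ?_)
    rw [toM_mC, toM_mC, ← hm k, ← mat_S ht, ← mat_mul, ← mat_mul, hc]
  set f : ℕ → ℕ := fun k => fixEl (r k : Matrix chevE8.Idx chevE8.Idx (ZMod 3)) with hf
  have f248 : ∀ k, (k = 1 ∨ k = 5) → f k ≠ 248 := fun k hk h => hne k hk (eq_one_of_fixEl h)
  -- classes
  obtain ⟨v8, hv8, hfix8⟩ := class_fix (n := 8) (by norm_num) (hτ _) r8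
  obtain ⟨v4, hv4, hfix4⟩ := class_fix (n := 4) (by norm_num) (hτ _) r24
  obtain ⟨v5, hv5, hfix5⟩ := class_fix (n := 5) (by norm_num) (hτ _) r55
  have e4 : f 4 = fixPow 8 v8 1 := by rw [← hfix8 1, pow_one]
  have e3 : f 3 = fixPow 8 v8 2 := by rw [← hfix8 2]; simp only [hf, ← r43]; rfl
  have e1 : f 1 = fixPow 8 v8 4 := by
    rw [← hfix8 4]; simp only [hf, ← r31, ← r43, ← pow_mul]; rfl
  have e2 : f 2 = fixPow 4 v4 1 := by rw [← hfix4 1, pow_one]
  have e22 : fixEl ((r 2 ^ 2 : GL chevE8.Idx (ZMod 3)) : Matrix chevE8.Idx chevE8.Idx (ZMod 3)) = f 1 := by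
    have h := fixEl_conj (r 1) (τ (S sqConj))⁻¹
    rw [inv_inv] at h
    rw [r22]; exact h
  have e22' : f 1 = fixPow 4 v4 2 := e22.symm.trans (hfix4 2)
  have e5 : f 5 = fixPow 5 v5 1 := by rw [← hfix5 1, pow_one]
  have h5 := List.all_eq_true.mp cls5 v5 hv5
  simp only [Bool.and_eq_true, beq_iff_eq, List.contains_iff_mem, List.mem_cons, List.not_mem_nil,
    or_false, ← e5] at h5
  have e52 : fixEl ((r 5 ^ 2 : GL chevE8.Idx (ZMod 3)) : Matrix chevE8.Idx chevE8.Idx (ZMod 3)) = f 5 :=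
    (hfix5 2).trans h5.2
  have f5 : f 5 = 48 ∨ f 5 = 52 ∨ f 5 = 68 := by
    have := f248 5 (Or.inr rfl); omega
  -- the fixed dimensions
  set d : List Nat → ℕ := fun g => Module.finrank (ZMod 3) (fixSub τ (subOf g))
  have hp : ∀ k e, τ (S (R k) ^ e) = r k ^ e := fun k e => map_pow _ _ _
  have one248 : fixEl ((1 : GL chevE8.Idx (ZMod 3)) : Matrix chevE8.Idx chevE8.Idx (ZMod 3)) = 248 := by
    rw [Units.val_one, fixEl_one]
  have r1odd : ∀ j, r 1 ^ (2 * j) = 1 ∧ r 1 ^ (2 * j + 1) = r 1 := fun j => by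
    rw [pow_succ, pow_mul, r11, one_pow, one_mul]; exact ⟨rfl, rfl⟩
  have hsum := fun (l : List ℕ) (hl : ∀ c ∈ l, c < 6) (n : ℕ) (L : List (ℕ × ℤ)) =>
    sum_six (fun c => cycT n L τ (S (R c))) l hl
  have hlt : ∀ c ∈ tE.cls ++ tP.cls ++ t5.cls ++ tD.cls, c < 6 := fun c hc =>
    of_decide_eq_true (List.all_eq_true.mp cls_lt c hc)
  obtain ⟨lE, lP, l5, lD⟩ := lengths
  obtain ⟨cE, cP, c5, cD⟩ := counts
  simp only [List.range_succ, List.range_zero, List.nil_append, List.map_cons,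
    List.map_nil, List.map_append, List.cons_append, List.cons.injEq, and_true] at cE cP c5 cD
  obtain ⟨cE0, cE1, cE2, cE3, cE4, cE5⟩ := cE
  obtain ⟨cP0, cP1, cP2, cP3, cP4, cP5⟩ := cP
  obtain ⟨c50, c51, c52, c53, c54, c55⟩ := c5
  obtain ⟨cD0, cD1, cD2, cD3, cD4, cD5⟩ := cD
  have dE := fd_tab τ hker tE (tests := tests) (reps := reps) (n := 2) (L := [(1, 1), (2, -1)])
    tE_table tE_class (by decide +kernel) (by norm_num) (by rw [lE]; norm_num)
  rw [hsum _ (fun c hc => hlt c (by simp [hc]))] at dE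
  simp only [Finset.sum_range_succ, Finset.sum_range_zero, zero_add, cE0, cE1, cE2, cE3, cE4, cE5, lE,
    show (cop 2).length = 1 by decide +kernel, cycT, List.map_cons, List.map_nil, List.sum_cons,
    List.sum_nil, hp, pow_one, r0, one_pow, one248, r11] at dE
  have dP := fd_tab τ hker tP (tests := tests) (reps := reps) (n := 8) (L := [(1, 1), (2, -1)])
    tP_table tP_class (by decide +kernel) (by norm_num) (by rw [lP]; norm_num)
  rw [hsum _ (fun c hc => hlt c (by simp [hc]))] at dP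
  simp only [Finset.sum_range_succ, Finset.sum_range_zero, zero_add, cP0, cP1, cP2, cP3, cP4, cP5, lP,
    show (cop 8).length = 4 by decide +kernel, cycT, List.map_cons, List.map_nil, List.sum_cons,
    List.sum_nil, hp, pow_one, r0, one_pow, one248, r11, r31, r43, e22] at dP
  have d5 := fd_tab τ hker t5 (tests := tests) (reps := reps) (n := 10)
    (L := [(1, 1), (2, -1), (5, -1), (10, 1)])
    t5_table t5_class (by decide +kernel) (by norm_num) (by rw [l5]; norm_num)
  rw [hsum _ (fun c hc => hlt c (by simp [hc]))] at d5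
  have r5d : r 5 ^ 10 = 1 := by rw [show (10 : ℕ) = 5 * 2 from rfl, pow_mul, r55, one_pow]
  simp only [Finset.sum_range_succ, Finset.sum_range_zero, zero_add, c50, c51, c52, c53, c54, c55, l5,
    show (cop 10).length = 4 by decide +kernel, cycT, List.map_cons, List.map_nil, List.sum_cons,
    List.sum_nil, hp, pow_one, r0, one_pow, one248, r11, (r1odd 2).2, (r1odd 5).1, r55, r5d, e52] at d5
  have dD := fd_tab τ hker tD (tests := tests) (reps := reps) (n := 20)
    (L := [(1, 1), (2, -1), (5, -1), (10, 1)])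
    tD_table tD_class (by decide +kernel) (by norm_num) (by rw [lD]; norm_num)
  rw [hsum _ (fun c hc => hlt c (by simp [hc]))] at dD
  have r25 : r 2 ^ 5 = r 2 ∧ r 2 ^ 10 = r 2 ^ 2 := by
    constructor
    · rw [pow_succ, r24, one_mul]
    · rw [show (10 : ℕ) = 4 * 2 + 2 from rfl, pow_add, pow_mul, r24, one_pow, one_mul]
  have r34 : r 3 ^ 4 = 1 := by rw [show (4 : ℕ) = 2 * 2 from rfl, pow_mul, r31, r11]
  have r35 : r 3 ^ 5 = r 3 ∧ r 3 ^ 10 = r 1 := by
    constructor
    · rw [pow_succ, r34, one_mul]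
    · rw [show (10 : ℕ) = 4 * 2 + 2 from rfl, pow_add, pow_mul, r34, one_pow, one_mul, r31]
  simp only [Finset.sum_range_succ, Finset.sum_range_zero, zero_add, cD0, cD1, cD2, cD3, cD4, cD5, lD,
    show (cop 20).length = 8 by decide +kernel, cycT, List.map_cons, List.map_nil, List.sum_cons,
    List.sum_nil, hp, pow_one, r0, one_pow, one248, r11, (r1odd 2).2, (r1odd 5).1, r55, r5d, e52,
    r25.1, r25.2, r35.1, r35.2, r31, e22] at dD
  simp only [hf] at e1 e2 e3 e4 e5 e22' f5
  norm_num at dE dP d5 dD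
  -- the congruences
  have hPE : d tP.gens ≤ d tE.gens :=
    Submodule.finrank_mono (fixSub_anti τ (subOf_mono gens_le.1))
  have h5E : d t5.gens ≤ d tE.gens :=
    Submodule.finrank_mono (fixSub_anti τ (subOf_mono gens_le.2))
  have m4 := List.contains_iff_mem.mp (List.all_eq_true.mp cls4 v4 hv4)
  have m8 := List.contains_iff_mem.mp (List.all_eq_true.mp cls8 v8 hv8)
  have hne1 := f248 1 (Or.inl rfl)
  simp only [hf] at hne1 dP d5 dD
  rw [e1] at dE dP d5 dD hne1
  rw [e2, e3, e4] at dP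
  rw [e2, e3] at dD
  rw [← e22', e1] at m4
  obtain ⟨hdP, hcase⟩ := arith m4 m8 hne1 f5 dE dP d5 dD hPE h5E
  rcases hcase with ⟨-, hd5⟩ | ⟨-, hdD⟩
  · -- no fixed vectors of the subgroup of order eighty
    have hbot : fixSub τ (subOf t5.gens) = ⊥ := Submodule.finrank_eq_zero.mp hd5
    obtain ⟨v, hv, hv0⟩ := Submodule.exists_mem_ne_zero_of_ne_bot
      (p := fixSub τ (subOf tP.gens)) fun hb => by
        rw [hb, finrank_bot] at hdP
        omega
    refine hv0 (eq_zero_of_certOk τ hker tP_table certB_ok hv fun t ht => ?_)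
    obtain ⟨p, hp', e⟩ := List.mem_map.mp
      (List.contains_iff_mem.mp (List.all_eq_true.mp piC_all t ht))
    have := tr_mem τ hker tP_table (List.all_eq_true.mp piC_ok p hp') hv
    rw [hbot, Submodule.mem_bot, e] at this
    exact this
  · obtain ⟨v, hv, hv0, hz⟩ := exists_ker τ (S := subOf tD.gens) (T := subOf tP.gens) (tr zX oneC)
      (fun v hv => tr_mem τ hker tD_table piX_ok hv) (by omega)
    refine hv0 (eq_zero_of_certOk τ hker tD_table certA_ok hv fun t ht => ?_)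
    rw [eq_of_beq (List.all_eq_true.mp hA_one t ht)]
    exact hz

end CfsgLib.E8Three.Small.U43

namespace CfsgLib.E8Three.Small

open Cfsg.Lie

/-- The group `E₈(3)` has no subgroup isomorphic to `PSU₄(3)`. -/
theorem no_psu43 {F : Type*} [Field F] [Fintype F] (hF : Fintype.card F = 9)
    (H : Subgroup ↥(chevE8.group (ZMod 3))) : IsEmpty (↥H ≃* Cfsg.PSU 4 F 3) := by
  refine ⟨fun e => ?_⟩
  have hcard : Fintype.card F = Fintype.card CfsgLib.J2.Perm.F9 := by
    rw [hF, CfsgLib.J2.Perm.F9.card]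
  obtain ⟨τ, hτ, hker⟩ := exists_rep_quot (G := Cfsg.SU 4 Cfsg.Agent.McLU43.K9 3) (N := Subgroup.center _)
    (e.trans (CfsgLib.U33Deg.psuCongr (FiniteField.ringEquivOfCardEq hcard)))
  exact U43.false_of_rep τ hker hτ

end CfsgLib.E8Three.Small
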