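import Cfsg.Agent.U43Type.Mats
import Cfsg.Agent.E8Three.Small.Rep
import Cfsg.Agent.E8Three.Small.CertTools

/-!
Coded subgroups of `SU₄(3)` modulo scalars acting on a representation, and their fixed spaces.
-/

set_option autoImplicit false
set_option linter.style.haveILetI false
set_option maxRecDepth 100000

namespace CfsgLib.E8Three.Small.U43

open Matrix
open Cfsg.Agent.McLU43 (K9 dec fadd fmul fadd_lt fmul_lt dec_add dec_mul dec_inj dec_zero dec_one det_four)
open CfsgLib.U43Type.Mats (ent toM mC toM_mC oneC toM_one scC toM_scC ent_lt)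

local notation "SU4" => Cfsg.SU 4 K9 3

/-- The code of the conjugate transpose. -/
def starC (X : Nat) : Nat :=
  ((List.range 16).map fun n =>
    let e := ent X (n % 4) (n / 4)
    fmul e (fmul e e) * 9 ^ n).sum

/-- A difference of codes. -/
def fsub (a b : Nat) : Nat := fadd a (fmul 2 b)

/-- The code of a minor. -/
def minC (X r s t a b c : Nat) : Nat :=
  fadd (fsub (fmul (ent X r a) (fsub (fmul (ent X s b) (ent X t c)) (fmul (ent X s c) (ent X t b))))
      (fmul (ent X r b) (fsub (fmul (ent X s a) (ent X t c)) (fmul (ent X s c) (ent X t a)))))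
    (fmul (ent X r c) (fsub (fmul (ent X s a) (ent X t b)) (fmul (ent X s b) (ent X t a))))

/-- The code of the determinant. -/
def detC (X : Nat) : Nat :=
  fsub (fadd (fsub (fmul (ent X 0 0) (minC X 1 2 3 1 2 3)) (fmul (ent X 0 1) (minC X 1 2 3 0 2 3)))
    (fmul (ent X 0 2) (minC X 1 2 3 0 1 3))) (fmul (ent X 0 3) (minC X 1 2 3 0 1 2))

/-- The code of a special unitary matrix. -/
def chk (X : Nat) : Bool := detC X == 1 && mC (starC X) X == oneC

theorem fsub_lt (a b : Nat) : fsub a b < 9 := fadd_lt _ _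

theorem dec_fsub {a b : Nat} (ha : a < 9) (hb : b < 9) : dec (fsub a b) = dec a - dec b := by
  rw [fsub, dec_add ha (fmul_lt _ _), dec_mul (by norm_num) hb, show dec 2 = -1 by decide +kernel]
  ring

theorem minC_lt (X r s t a b c : Nat) : minC X r s t a b c < 9 := fadd_lt _ _

theorem dec_minC (X r s t a b c : Nat) : dec (minC X r s t a b c) =
    dec (ent X r a) * (dec (ent X s b) * dec (ent X t c) - dec (ent X s c) * dec (ent X t b)) -
      dec (ent X r b) * (dec (ent X s a) * dec (ent X t c) - dec (ent X s c) * dec (ent X t a)) +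
      dec (ent X r c) * (dec (ent X s a) * dec (ent X t b) - dec (ent X s b) * dec (ent X t a)) := by
  unfold minC
  rw [dec_add (fsub_lt _ _) (fmul_lt _ _), dec_fsub (fmul_lt _ _) (fmul_lt _ _),
    dec_mul (ent_lt _ _ _) (fsub_lt _ _), dec_mul (ent_lt _ _ _) (fsub_lt _ _),
    dec_mul (ent_lt _ _ _) (fsub_lt _ _), dec_fsub (fmul_lt _ _) (fmul_lt _ _),
    dec_fsub (fmul_lt _ _) (fmul_lt _ _), dec_fsub (fmul_lt _ _) (fmul_lt _ _)]
  simp only [dec_mul (ent_lt _ _ _) (ent_lt _ _ _)]

theorem det_of_chk {X : Nat} (h : chk X = true) : (toM X).det = 1 := by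
  simp only [chk, Bool.and_eq_true, beq_iff_eq] at h
  have h' : dec (detC X) = 1 := by rw [h.1, dec_one]
  unfold detC at h'
  rw [dec_fsub (fadd_lt _ _) (fmul_lt _ _), dec_add (fsub_lt _ _) (fmul_lt _ _),
    dec_fsub (fmul_lt _ _) (fmul_lt _ _), dec_mul (ent_lt _ _ _) (minC_lt _ _ _ _ _ _ _),
    dec_mul (ent_lt _ _ _) (minC_lt _ _ _ _ _ _ _), dec_mul (ent_lt _ _ _) (minC_lt _ _ _ _ _ _ _),
    dec_mul (ent_lt _ _ _) (minC_lt _ _ _ _ _ _ _)] at h'
  simp only [dec_minC] at h'
  rw [det_four]
  simp only [toM, Matrix.of_apply]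
  exact h'

theorem toM_star (X : Nat) (i k : Fin 4) : toM (starC X) i k = toM X k i ^ 3 := by
  have e : ent (starC X) i.val k.val =
      fmul (ent X k.val i.val) (fmul (ent X k.val i.val) (ent X k.val i.val)) := by
    rw [ent, starC, CfsgLib.U43Type.Mats.ent_sum _ (fun n => fmul_lt _ _) 16 _ (by omega)]
    have h1 : (4 * i.val + k.val) % 4 = k.val := by omega
    have h2 : (4 * i.val + k.val) / 4 = i.val := by omega
    simp only [h1, h2]
  show dec (ent (starC X) i.val k.val) = _
  rw [e, dec_mul (ent_lt _ _ _) (fmul_lt _ _), dec_mul (ent_lt _ _ _) (ent_lt _ _ _)]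
  simp only [toM, Matrix.of_apply]
  ring

theorem mem_of_chk {X : Nat} (h : chk X = true) :
    (⟨toM X, det_of_chk h⟩ : Matrix.SpecialLinearGroup (Fin 4) K9) ∈ SU4 := by
  have hu := h
  simp only [chk, Bool.and_eq_true, beq_iff_eq] at hu
  have hm : toM (starC X) * toM X = 1 := by rw [← toM_mC, hu.2, toM_one]
  intro u v
  show Cfsg.hermForm 4 K9 3 (toM X *ᵥ u) (toM X *ᵥ v) = Cfsg.hermForm 4 K9 3 u v
  have gen_unitary : ∀ k m : Fin 4,
      toM X 0 k * toM X 0 m ^ 3 + toM X 1 k * toM X 1 m ^ 3 +
        toM X 2 k * toM X 2 m ^ 3 + toM X 3 k * toM X 3 m ^ 3 = if k = m then 1 else 0 := by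
    intro k m
    have h' := congrFun (congrFun hm m) k
    rw [Matrix.mul_apply, Fin.sum_univ_four, toM_star, toM_star, toM_star, toM_star,
      Matrix.one_apply] at h'
    rw [show (if k = m then (1 : K9) else 0) = if m = k then 1 else 0 from if_congr eq_comm rfl rfl,
      ← h']
    ring
  have h00 := gen_unitary 0 0
  have h01 := gen_unitary 0 1
  have h02 := gen_unitary 0 2
  have h03 := gen_unitary 0 3
  have h10 := gen_unitary 1 0
  have h11 := gen_unitary 1 1
  have h12 := gen_unitary 1 2
  have h13 := gen_unitary 1 3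
  have h20 := gen_unitary 2 0
  have h21 := gen_unitary 2 1
  have h22 := gen_unitary 2 2
  have h23 := gen_unitary 2 3
  have h30 := gen_unitary 3 0
  have h31 := gen_unitary 3 1
  have h32 := gen_unitary 3 2
  have h33 := gen_unitary 3 3
  simp only [Fin.reduceEq, if_true, if_false] at h00 h01 h02 h03 h10 h11 h12 h13 h20 h21 h22 h23 h30 h31 h32 h33
  simp only [Cfsg.hermForm, Matrix.mulVec, dotProduct, Fin.sum_univ_four, CfsgLib.J2.Perm.cube_add, mul_pow]
  linear_combination u 0 * v 0 ^ 3 * h00 + u 0 * v 1 ^ 3 * h01 + u 0 * v 2 ^ 3 * h02 + u 0 * v 3 ^ 3 * h03 +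
    u 1 * v 0 ^ 3 * h10 + u 1 * v 1 ^ 3 * h11 + u 1 * v 2 ^ 3 * h12 + u 1 * v 3 ^ 3 * h13 +
    u 2 * v 0 ^ 3 * h20 + u 2 * v 1 ^ 3 * h21 + u 2 * v 2 ^ 3 * h22 + u 2 * v 3 ^ 3 * h23 +
    u 3 * v 0 ^ 3 * h30 + u 3 * v 1 ^ 3 * h31 + u 3 * v 2 ^ 3 * h32 + u 3 * v 3 ^ 3 * h33

/-- The element of a code. -/
def S (X : Nat) : SU4 := if h : chk X = true then ⟨⟨toM X, det_of_chk h⟩, mem_of_chk h⟩ else 1

/-- The matrix of an element. -/
abbrev mat (a : SU4) : Matrix (Fin 4) (Fin 4) K9 := (a.1 : Matrix (Fin 4) (Fin 4) K9)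

theorem mat_S {X : Nat} (h : chk X = true) : mat (S X) = toM X := by
  simp only [mat, S, dif_pos h]

theorem mat_mul (a b : SU4) : mat (a * b) = mat a * mat b := rfl

theorem S_one : S oneC = 1 := by
  refine Subtype.ext (Subtype.ext ?_)
  exact (mat_S (by decide +kernel)).trans toM_one

/-- The codes of the central scalar matrices. -/
def units : List Nat := [1, 2, 3, 6].map scC

/-- Equality up to a scalar. -/
def eq4 (A B : Nat) : Bool := units.any fun s => A == mC s B

variable {I : Type} [Fintype I] [DecidableEq I] (τ : SU4 →* GL I (ZMod 3))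
  (hker : ∀ g, τ g = 1 ↔ g ∈ Subgroup.center SU4)

theorem units_ok : units.all chk = true ∧ ∀ s ∈ units, ∃ c : Fin 9, s = scC c.val := by decide +kernel

theorem units_central {s : Nat} (h : s ∈ units) : S s ∈ Subgroup.center SU4 := by
  have hchk : chk s = true := List.all_eq_true.mp units_ok.1 s h
  refine Subgroup.mem_center_iff.mpr fun g => Subtype.ext (Subtype.ext ?_)
  show mat g * mat (S s) = mat (S s) * mat g
  rw [mat_S hchk]
  obtain ⟨c, rfl⟩ := units_ok.2 s h
  rw [toM_scC c, Matrix.mul_smul, Matrix.smul_mul, mul_one, one_mul]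

include hker in
theorem τ_eq {a b : SU4} {A B : Nat} (ha : mat a = toM A) (hb : mat b = toM B)
    (h : eq4 A B = true) : τ a = τ b := by
  simp only [eq4, List.any_eq_true, beq_iff_eq] at h
  obtain ⟨c, hc, e⟩ := h
  have hchk : chk c = true := List.all_eq_true.mp units_ok.1 c hc
  have he : a = S c * b := by
    refine Subtype.ext (Subtype.ext ?_)
    show mat a = mat (S c * b)
    rw [mat_mul, mat_S hchk, ha, hb, e, toM_mC]
  rw [he, map_mul, (hker _).mpr (units_central hc), one_mul]

/-- A subgroup given by coded generators. -/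
def subOf (gens : List Nat) : Subgroup SU4 :=
  Subgroup.closure (Set.range fun i : Nat => S (gens.getD i oneC))

theorem subOf_mono {l l' : List Nat} (h : l.all (l'.contains ·) = true) : subOf l ≤ subOf l' := by
  refine (Subgroup.closure_le _).mpr ?_
  rintro _ ⟨i, rfl⟩
  by_cases hi : i < l.length
  · have hm := List.all_eq_true.mp h (l.getD i oneC) (by
      rw [List.getD_eq_getElem _ _ hi]; exact List.getElem_mem _)
    obtain ⟨j, hj, e⟩ := List.mem_iff_getElem.mp (List.contains_iff_mem.mp hm)
    refine Subgroup.subset_closure ⟨j, ?_⟩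
    simp only [List.getD_eq_getElem _ _ hj, e]
  · show S (l.getD i oneC) ∈ _
    rw [List.getD_eq_default _ _ (by omega), S_one]
    exact one_mem _

/-- The code of a word. -/
def wordC (gens : List Nat) (w : List Nat) : Nat :=
  w.foldl (fun A i => mC A (gens.getD i oneC)) oneC

/-- A table of a coded subgroup: words, matrices, products, classes and conjugators. -/
structure Tab where
  /-- generators -/
  gens : List Nat
  /-- words -/
  words : List (List Nat)
  /-- matrices -/
  mats : List Nat
  /-- right multiplication by the generators -/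
  nxt : List (List Nat)
  /-- classes -/
  cls : List Nat
  /-- conjugators -/
  conj : List Nat

/-- The generators are codes of unitary matrices. -/
def gensOk (gens : List Nat) : Bool := gens.all chk

/-- The table is a group table. -/
def Tab.tableOk (D : Tab) : Bool :=
  gensOk D.gens && decide (0 < D.words.length) && decide (D.words.getD 0 [] = []) &&
    decide (D.mats.length = D.words.length) && decide (D.words.map (wordC D.gens) = D.mats) &&
    D.mats.all chk &&
    (List.range D.words.length).all fun k => (List.range D.gens.length).all fun i =>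
      decide ((D.nxt.getD k []).getD i D.words.length < D.words.length) &&
        eq4 (mC (D.mats.getD k oneC) (D.gens.getD i oneC))
          (D.mats.getD ((D.nxt.getD k []).getD i D.words.length) oneC)

/-- An invariant of an element modulo scalars. -/
def key (tests : List Nat) (A : Nat) : List Nat := tests.map fun t => mC (mC A t) (starC A)

/-- The power of a code. -/
def powC (A : Nat) : Nat → Nat
  | 0 => oneC
  | n + 1 => mC (powC A n) A

/-- The table is irredundant and its classes are correct. -/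
def Tab.classOk (D : Tab) (tests : List Nat) (reps : List Nat) (n : Nat) : Bool :=
  gensOk tests && gensOk reps && decide (D.mats.map (key tests)).Nodup &&
    (D.mats.all fun A => eq4 (powC A n) oneC) &&
    decide (D.cls.length = D.words.length) && decide (D.conj.length = D.words.length) &&
    D.conj.all chk &&
    (List.range D.words.length).all fun k =>
      decide (D.cls.getD k 0 < reps.length) &&
        eq4 (mC (D.conj.getD k oneC) (D.mats.getD k oneC))
          (mC (reps.getD (D.cls.getD k 0) oneC) (D.conj.getD k oneC))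

theorem mat_getD {l : List Nat} (h : l.all chk = true) (i : Nat) :
    mat (S (l.getD i oneC)) = toM (l.getD i oneC) := by
  by_cases hi : i < l.length
  · rw [List.getD_eq_getElem _ _ hi]
    exact mat_S (List.all_eq_true.mp h _ (List.getElem_mem _))
  · rw [List.getD_eq_default _ _ (by omega)]
    exact mat_S (by decide +kernel)

theorem mat_word {gens : List Nat} (h : gensOk gens = true) (w : List Nat) :
    mat (wordProd (fun i => S (gens.getD i oneC)) w) = toM (wordC gens w) := by
  have key : ∀ (w : List Nat) (A : Nat) (a : SU4), mat a = toM A →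
      mat (a * wordProd (fun i => S (gens.getD i oneC)) w) =
        toM (w.foldl (fun A i => mC A (gens.getD i oneC)) A) := by
    intro w
    induction w with
    | nil => intro A a ha; simpa [wordProd] using ha
    | cons i w ih =>
      intro A a ha
      rw [List.foldl_cons,
        ← ih _ (a * S (gens.getD i oneC)) (by rw [mat_mul, ha, mat_getD h, toM_mC]), mul_assoc]
      rfl
  have h' := key w oneC 1 toM_one.symm
  rwa [one_mul] at h'

theorem mat_inv {a : SU4} {A : Nat} (ha : mat a = toM A) (h : chk A = true) :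
    mat a⁻¹ = toM (starC A) := by
  simp only [chk, Bool.and_eq_true, beq_iff_eq] at h
  have h1 : toM (starC A) * mat a = 1 := by rw [ha, ← toM_mC, h.2, toM_one]
  have h2 : mat a * mat a⁻¹ = 1 := by
    rw [← mat_mul, mul_inv_cancel]; rfl
  calc mat a⁻¹ = (toM (starC A) * mat a) * mat a⁻¹ := by rw [h1, one_mul]
    _ = toM (starC A) := by rw [mul_assoc, h2, mul_one]

theorem Tab.mats_getD {D : Tab} (h : D.tableOk = true) {k : Nat} (hk : k < D.words.length) :
    wordC D.gens (D.words.getD k []) = D.mats.getD k oneC ∧ chk (D.mats.getD k oneC) = true ∧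
      D.words.getD k [] ∈ D.words := by
  simp only [Tab.tableOk, Bool.and_eq_true, decide_eq_true_eq] at h
  obtain ⟨⟨⟨⟨⟨-, -⟩, hl⟩, hm⟩, hc⟩, -⟩ := h
  refine ⟨?_, ?_, ?_⟩
  · conv_rhs => rw [← hm]
    rw [List.getD_eq_getElem _ _ hk, List.getD_eq_getElem _ _ (by rw [List.length_map]; exact hk),
      List.getElem_map]
  · rw [List.getD_eq_getElem _ _ (by omega)]
    exact List.all_eq_true.mp hc _ (List.getElem_mem _)
  · rw [List.getD_eq_getElem _ _ hk]; exact List.getElem_mem _

theorem Tab.mats_mem {D : Tab} (h : D.tableOk = true) (k : Nat) :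
    S (D.mats.getD k oneC) ∈ subOf D.gens ∧ mat (S (D.mats.getD k oneC)) = toM (D.mats.getD k oneC) := by
  have h' := h
  simp only [Tab.tableOk, Bool.and_eq_true, decide_eq_true_eq] at h'
  refine ⟨?_, mat_getD h'.1.2 k⟩
  by_cases hk : k < D.words.length
  · obtain ⟨hw, hc, -⟩ := Tab.mats_getD h hk
    have e : S (D.mats.getD k oneC) = wordProd (fun i => S (D.gens.getD i oneC)) (D.words.getD k []) :=
      Subtype.ext (Subtype.ext ((mat_S hc).trans (by
        show _ = mat (wordProd _ _)
        rw [mat_word h'.1.1.1.1.1.1, hw])))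
    rw [e]
    refine list_prod_mem fun x hx => ?_
    obtain ⟨i, -, rfl⟩ := List.mem_map.mp hx
    exact Subgroup.subset_closure ⟨i, rfl⟩
  · rw [List.getD_eq_default _ _ (by omega), S_one]; exact one_mem _

theorem cycT_conj {A : Type*} [Group A] (n : ℕ) (L : List (ℕ × ℤ)) (ρ : A →* GL I (ZMod 3))
    {a r c : A} (h : ρ (c * a) = ρ (r * c)) : cycT n L ρ a = cycT n L ρ r := by
  refine congrArg List.sum (List.map_congr_left fun p _ => ?_)
  have e : ρ r = ρ c * ρ a * (ρ c)⁻¹ := by rw [← map_mul, h, map_mul, mul_inv_cancel_right]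
  rw [map_pow, map_pow, e, conj_pow, fixEl_conj]

include hker in
/-- The fixed dimension of a coded subgroup in terms of the class representatives. -/
theorem fd_tab (D : Tab) {tests reps : List Nat} {n : ℕ} {L : List (ℕ × ℤ)}
    (h1 : D.tableOk = true) (h2 : D.classOk tests reps n = true) (hL : chkL n L = true)
    (hn : ¬ 3 ∣ n) (hlen : ¬ 3 ∣ D.words.length) :
    ((cop n).length * D.words.length *
        Module.finrank (ZMod 3) (fixSub τ (subOf D.gens)) : ℤ) =
      (D.cls.map fun c => cycT n L τ (S (reps.getD c oneC))).sum := by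
  classical
  have h1' := h1
  simp only [Tab.tableOk, Bool.and_eq_true, decide_eq_true_eq, List.all_eq_true, List.mem_range] at h1'
  obtain ⟨⟨⟨⟨⟨⟨hg, hpos⟩, hw0⟩, hlm⟩, -⟩, hchk⟩, hnx⟩ := h1'
  simp only [Tab.classOk, Bool.and_eq_true, decide_eq_true_eq, List.all_eq_true, List.mem_range] at h2
  obtain ⟨⟨⟨⟨⟨⟨⟨htests, hreps⟩, hnd⟩, hexp⟩, hcl⟩, hcj⟩, hconj⟩, hfus⟩ := h2
  set gen : Nat → SU4 := fun i => S (D.gens.getD i oneC)
  have hw : ∀ k, k < D.words.length → mat (wordProd gen (D.words.getD k [])) = toM (D.mats.getD k oneC) :=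
    fun k hk => by rw [mat_word hg, (Tab.mats_getD h1 hk).1]
  have hk : ∀ w ∈ D.words, ∃ k < D.words.length, w = D.words.getD k [] := fun w hw => by
    obtain ⟨k, hk, rfl⟩ := List.mem_iff_getElem.mp hw
    exact ⟨k, hk, (List.getD_eq_getElem _ _ hk).symm⟩
  have hS1 : S oneC = (1 : SU4) := S_one
  have hclo : ∀ w ∈ D.words, ∀ i, ∃ w' ∈ D.words,
      τ (wordProd gen (w ++ [i])) = τ (wordProd gen w') := by
    intro w hw' i
    obtain ⟨k, hk', rfl⟩ := hk w hw'
    have e : wordProd gen (D.words.getD k [] ++ [i]) = wordProd gen (D.words.getD k []) * gen i := by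
      simp [wordProd]
    by_cases hi : i < D.gens.length
    · obtain ⟨hlt, he⟩ := hnx k hk' i hi
      refine ⟨_, (Tab.mats_getD h1 hlt).2.2, τ_eq τ hker ?_ (hw _ hlt) he⟩
      rw [e, mat_mul, hw k hk', toM_mC]
      exact congrArg _ (mat_getD hg i)
    · refine ⟨_, hw', ?_⟩
      rw [e, show gen i = 1 by simp only [gen, List.getD_eq_default _ _ (Nat.le_of_not_lt hi), hS1],
        mul_one]
  have hkey : ∀ (a b : SU4) (A B : Nat), mat a = toM A → mat b = toM B → chk A = true →
      chk B = true → τ a = τ b → key tests A = key tests B := by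
    intro a b A B ha hb hA hB e
    refine List.map_congr_left fun t ht => ?_
    have hc : a * b⁻¹ ∈ Subgroup.center SU4 := (hker _).mp (by rw [map_mul, e, ← map_mul, mul_inv_cancel, map_one])
    have ht' : mat (S t) = toM t := mat_S (List.all_eq_true.mp htests t ht)
    have e2 : a * S t * a⁻¹ = b * S t * b⁻¹ := by
      have := Subgroup.mem_center_iff.mp hc (b * S t * b⁻¹)
      calc a * S t * a⁻¹ = (a * b⁻¹) * (b * S t * b⁻¹) * (a * b⁻¹)⁻¹ := by group
        _ = b * S t * b⁻¹ := by rw [← this, mul_inv_cancel_right]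
    have e3 : toM (mC (mC A t) (starC A)) = toM (mC (mC B t) (starC B)) := by
      rw [toM_mC, toM_mC, toM_mC, toM_mC, ← ha, ← hb, ← mat_inv ha hA, ← mat_inv hb hB, ← ht',
        ← mat_mul, ← mat_mul, ← mat_mul, ← mat_mul, e2]
    exact toM_inj_mC e3
  have hnd' : (D.words.map fun w => τ (wordProd gen w)).Nodup := by
    rw [List.nodup_iff_injective_getElem]
    intro a b hab
    simp only [List.getElem_map] at hab
    have ha : a.val < D.words.length := by have := a.isLt; simpa using this
    have hb : b.val < D.words.length := by have := b.isLt; simpa using this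
    rw [← List.getD_eq_getElem _ [] ha, ← List.getD_eq_getElem _ [] hb] at hab
    have := hkey _ _ _ _ (hw _ ha) (hw _ hb) (Tab.mats_getD h1 ha).2.1 (Tab.mats_getD h1 hb).2.1 hab
    refine Fin.ext ((hnd.getElem_inj_iff (hi := by simpa [hlm] using ha)
      (hj := by simpa [hlm] using hb)).mp ?_)
    simp only [List.getElem_map]
    rw [← List.getD_eq_getElem _ oneC, ← List.getD_eq_getElem _ oneC]
    exact this
  have hexp' : ∀ w ∈ D.words, τ (wordProd gen w) ^ n = 1 := by
    intro w hw'
    obtain ⟨k, hk', rfl⟩ := hk w hw'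
    have hp : ∀ j, mat (wordProd gen (D.words.getD k []) ^ j) = toM (powC (D.mats.getD k oneC) j) := by
      intro j
      induction j with
      | zero => exact toM_one.symm
      | succ j ih => rw [pow_succ, mat_mul, ih, hw k hk', ← toM_mC]; rfl
    rw [← map_pow, ← map_one τ]
    refine τ_eq τ hker (hp n) toM_one.symm (hexp _ ?_)
    rw [List.getD_eq_getElem _ _ (by omega)]; exact List.getElem_mem _
  have hfd := fd_words τ gen D.words (hw0 ▸ (Tab.mats_getD h1 hpos).2.2) hclo hnd' hL hn hlen hexp'
  refine hfd.trans (congrArg List.sum (List.ext_getElem (by simp [hcl]) fun k h3 h4 => ?_))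
  have hk' : k < D.words.length := by simpa using h3
  obtain ⟨-, hf⟩ := hfus k hk'
  rw [List.getElem_map, List.getElem_map, ← List.getD_eq_getElem _ [] hk',
    ← List.getD_eq_getElem _ 0 (hcl.symm ▸ hk')]
  refine cycT_conj n L τ (c := S (D.conj.getD k oneC)) (τ_eq τ hker ?_ ?_ hf)
  · rw [mat_mul, hw k hk', mat_getD (List.all_eq_true.mpr hconj), toM_mC]
  · rw [mat_mul, mat_getD (List.all_eq_true.mpr hconj), mat_getD hreps, toM_mC]
where
  toM_inj_mC {A B C D : Nat} (h : toM (mC A B) = toM (mC C D)) : mC A B = mC C D := by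
    have he : ∀ n < 16, CfsgLib.U43Type.Mats.pEnt A B (n / 4) (n % 4) =
        CfsgLib.U43Type.Mats.pEnt C D (n / 4) (n % 4) := by
      intro n hn
      have h' := congrFun (congrFun h ⟨n / 4, by omega⟩) ⟨n % 4, by omega⟩
      simp only [toM, Matrix.of_apply] at h'
      have e := dec_inj (ent_lt _ _ _) (ent_lt _ _ _) h'
      rw [ent, ent, mC, mC,
        CfsgLib.U43Type.Mats.ent_sum _ (fun m => CfsgLib.U43Type.Mats.pEnt_lt _ _ _ _) 16 _ (by omega),
        CfsgLib.U43Type.Mats.ent_sum _ (fun m => CfsgLib.U43Type.Mats.pEnt_lt _ _ _ _) 16 _ (by omega)] at e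
      convert e using 3 <;> omega
    exact congrArg List.sum (List.map_congr_left fun n hn => by rw [he n (List.mem_range.mp hn)])

end CfsgLib.E8Three.Small.U43
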