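import Cfsg.Agent.E8Three.Small.U43Basic

/-!
Certificates in coded subgroups of `SU₄(3)`.
-/

set_option autoImplicit false
set_option linter.style.haveILetI false
set_option maxRecDepth 100000

namespace CfsgLib.E8Three.Small.U43

open Matrix
open Cfsg.Agent.McLU43 (K9)
open CfsgLib.U43Type.Mats (toM mC toM_mC oneC toM_one)

local notation "SU4" => Cfsg.SU 4 K9 3

/-- The generators permute the translates, up to the table. -/
def permOk (Z : List Nat) (h : Nat) (gens : List Nat) (D : Tab) (pi : List (List (Nat × Nat))) :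
    Bool :=
  gensOk gens && gensOk Z && chk h && (List.range gens.length).all fun i =>
    decide (((pi.getD i []).map Prod.fst).Perm (List.range Z.length)) &&
      (List.range Z.length).all fun j =>
        eq4 (mC (gens.getD i oneC) (mC (Z.getD j oneC) h))
          (mC (mC (Z.getD ((pi.getD i []).getD j (0, 0)).1 oneC) h)
            (D.mats.getD ((pi.getD i []).getD j (0, 0)).2 oneC))

/-- The translates. -/
def tr (Z : List Nat) (h : Nat) : List SU4 := Z.map fun z => S z * S h

/-- The test of a certificate. -/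
def certOk (Z : List Nat) (D : Tab) (reps : List Nat)
    (terms : List (Nat × Nat × List (Nat × Nat) × Nat)) : Bool :=
  gensOk Z && gensOk reps && decide (0 < reps.length) && decide (reps.getD 0 0 = oneC) &&
    (terms.all fun t => chk t.2.1 && chk t.2.2.2 && decide (t.2.2.1.length = Z.length) &&
      (List.range Z.length).all fun j =>
        decide ((t.2.2.1.getD j (0, 0)).1 < reps.length) &&
          eq4 (mC t.2.1 (mC (Z.getD j oneC) t.2.2.2))
            (mC (reps.getD (t.2.2.1.getD j (0, 0)).1 oneC)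
              (D.mats.getD (t.2.2.1.getD j (0, 0)).2 oneC))) &&
    (List.range reps.length).all fun k =>
      (terms.map fun t => t.1 * t.2.2.1.countP fun x => x.1 == k).sum % 3 == if k = 0 then 1 else 0

variable {I : Type} [Fintype I] [DecidableEq I] (τ : SU4 →* GL I (ZMod 3))
  (hker : ∀ g, τ g = 1 ↔ g ∈ Subgroup.center SU4)

include hker in
theorem tr_mem {Z : List Nat} {h : Nat} {gens : List Nat} {D : Tab} {pi : List (List (Nat × Nat))}
    (hD : D.tableOk = true) (hp : permOk Z h gens D pi = true) {v : I → ZMod 3}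
    (hv : v ∈ fixSub τ (subOf D.gens)) : sumMap τ (tr Z h) v ∈ fixSub τ (subOf gens) := by
  simp only [permOk, Bool.and_eq_true, decide_eq_true_eq, List.all_eq_true, List.mem_range] at hp
  obtain ⟨⟨⟨hg, hZ⟩, hh⟩, hp⟩ := hp
  refine sumMap_mem τ hv _ _ fun i => ?_
  by_cases hi : i < gens.length
  · obtain ⟨hperm, he⟩ := hp i hi
    have hl : (pi.getD i []).length = Z.length := by
      have := hperm.length_eq; simpa using this
    refine ⟨(pi.getD i []).map fun p => S (Z.getD p.1 oneC) * S h, ?_, ?_⟩
    · have h1 := hperm.map fun j => S (Z.getD j oneC) * S h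
      rw [List.map_map] at h1
      refine h1.trans (List.Perm.of_eq ?_)
      refine List.ext_getElem (by simp [tr]) fun j h2 h3 => ?_
      simp only [tr, List.getElem_map, List.getElem_range]
      rw [List.getD_eq_getElem]
    · refine List.forall₂_iff_get.mpr ⟨by simp only [tr, List.length_map, hl], fun j h2 h3 => ?_⟩
      have hj : j < Z.length := by simpa [tr] using h2
      refine ⟨_, (Tab.mats_mem hD ((pi.getD i []).getD j (0, 0)).2).1, τ_eq τ hker ?_ ?_ (he j hj)⟩
      · simp only [tr, List.get_eq_getElem, List.getElem_map]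
        rw [← List.getD_eq_getElem _ oneC hj, mat_mul, mat_mul, mat_getD hg, mat_getD (List.all_eq_true.mpr fun x hx => (List.all_eq_true.mp hZ x hx)), mat_S hh, toM_mC, toM_mC]
      · simp only [List.get_eq_getElem, List.getElem_map]
        rw [← List.getD_eq_getElem _ (0, 0) (hl.symm ▸ hj), mat_mul, mat_mul,
          mat_getD (List.all_eq_true.mpr fun x hx => (List.all_eq_true.mp hZ x hx)), mat_S hh,
          (Tab.mats_mem hD _).2, toM_mC, toM_mC]
  · refine ⟨tr Z h, List.Perm.refl _, List.forall₂_same.mpr fun z _ => ⟨1, one_mem _, ?_⟩⟩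
    rw [List.getD_eq_default _ _ (Nat.le_of_not_lt hi), S_one, one_mul, mul_one]

include hker in
theorem eq_zero_of_certOk {Z : List Nat} {D : Tab} {reps : List Nat}
    {terms : List (Nat × Nat × List (Nat × Nat) × Nat)} (hD : D.tableOk = true)
    (hc : certOk Z D reps terms = true) {v : I → ZMod 3} (hv : v ∈ fixSub τ (subOf D.gens))
    (hann : ∀ t ∈ terms, sumMap τ (tr Z t.2.2.2) v = 0) : v = 0 := by
  simp only [certOk, Bool.and_eq_true, decide_eq_true_eq, List.all_eq_true, List.mem_range,
    beq_iff_eq] at hc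
  obtain ⟨⟨⟨⟨⟨hZ, hreps⟩, hM⟩, hr0⟩, hlab⟩, hco⟩ := hc
  let xs : Nat × Nat × List (Nat × Nat) × Nat → List (SU4 × ℕ) := fun t =>
    (List.range Z.length).map fun j => (S (Z.getD j oneC) * S t.2.2.2, (t.2.2.1.getD j (0, 0)).1)
  refine eq_zero_of_cosets τ hv (fun k => S (reps.getD k oneC)) ?_ reps.length
    (terms.map fun t => ((t.1 : ZMod 3), S t.2.1, xs t)) ?_ ?_ ?_ hM
  · show τ (S (reps.getD 0 oneC)) = 1
    rw [List.getD_eq_getElem _ _ hM, ← List.getD_eq_getElem _ 0 hM, hr0, S_one, map_one]
  · intro t ht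
    obtain ⟨u, hu, rfl⟩ := List.mem_map.mp ht
    have e : (xs u).map (fun x => x.1) = tr Z u.2.2.2 := by
      refine List.ext_getElem (by simp [xs, tr]) fun j h2 h3 => ?_
      simp only [xs, tr, List.getElem_map, List.getElem_range]
      rw [List.getD_eq_getElem]
    show sumMap τ ((xs u).map fun x => x.1) v = 0
    rw [e]
    exact hann u hu
  · intro t ht x hx
    obtain ⟨u, hu, rfl⟩ := List.mem_map.mp ht
    obtain ⟨j, hj, rfl⟩ := List.mem_map.mp (hx : x ∈ xs u)
    obtain ⟨⟨⟨hg, hh⟩, -⟩, hl⟩ := hlab u hu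
    obtain ⟨hlt, he⟩ := hl j (List.mem_range.mp hj)
    refine ⟨hlt, _, (Tab.mats_mem hD (u.2.2.1.getD j (0, 0)).2).1, τ_eq τ hker ?_ ?_ he⟩
    · rw [mat_mul, mat_mul, mat_S hg, mat_getD (List.all_eq_true.mpr fun x hx => List.all_eq_true.mp hZ x hx),
        mat_S hh, toM_mC, toM_mC]
    · show mat (S (reps.getD _ oneC) * S (D.mats.getD _ oneC)) = _
      rw [mat_mul, mat_getD (List.all_eq_true.mpr fun x hx => List.all_eq_true.mp hreps x hx),
        (Tab.mats_mem hD _).2, toM_mC]
  · intro k hk
    have h := congrArg (fun m : ℕ => (m : ZMod 3)) (hco k hk)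
    simp only [ZMod.natCast_mod] at h
    have hcnt : ∀ t ∈ terms, (xs t).countP (fun x => x.2 == k) =
        t.2.2.1.countP fun x => x.1 == k := by
      intro t ht
      obtain ⟨⟨-, hlen⟩, -⟩ := hlab t ht
      simp only [xs, List.countP_map]
      conv_rhs => rw [show t.2.2.1 = (List.range Z.length).map fun j => t.2.2.1.getD j (0, 0) from
        List.ext_getElem (by simp [hlen]) fun j h2 h3 => by
          simp only [List.getElem_map, List.getElem_range]; rw [List.getD_eq_getElem]]
      rw [List.countP_map]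
      rfl
    rw [List.map_map, List.map_congr_left fun t ht => by
      show (t.1 : ZMod 3) * (((xs t).countP fun x => x.2 == k : ℕ) : ZMod 3) =
        (((t.1 * t.2.2.1.countP fun x => x.1 == k) : ℕ) : ZMod 3)
      rw [hcnt t ht, Nat.cast_mul]]
    rw [Nat.cast_list_sum, List.map_map] at h
    rw [show (fun t : Nat × Nat × List (Nat × Nat) × Nat =>
      (((t.1 * t.2.2.1.countP fun x => x.1 == k) : ℕ) : ZMod 3)) = (fun m : ℕ => (m : ZMod 3)) ∘
        fun t => t.1 * t.2.2.1.countP fun x => x.1 == k from rfl, h]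
    split_ifs <;> simp

end CfsgLib.E8Three.Small.U43
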