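import Cfsg.Agent.E8Three.Small.U43Cert
import Cfsg.Agent.E8Three.Small.U43Data

/-!
The computations with coded subgroups of `PSU₄(3)`.
-/

set_option autoImplicit false
set_option maxRecDepth 100000

namespace CfsgLib.E8Three.Small.U43

open CfsgLib.U43Type.Mats (mC oneC)

theorem tE_table : tE.tableOk = true := by decide +kernel
theorem tE_class : tE.classOk tests reps 2 = true := by decide +kernel
theorem t5_table : t5.tableOk = true := by decide +kernel
theorem t5_class : t5.classOk tests reps 10 = true := by decide +kernel

theorem lengths : tE.words.length = 16 ∧ tP.words.length = 128 ∧ t5.words.length = 80 ∧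
    tD.words.length = 160 := by decide +kernel

theorem counts : (List.range 6).map (fun c => tE.cls.countP (· == c)) = [1, 15, 0, 0, 0, 0] ∧
    (List.range 6).map (fun c => tP.cls.countP (· == c)) = [1, 35, 56, 20, 16, 0] ∧
    (List.range 6).map (fun c => t5.cls.countP (· == c)) = [1, 15, 0, 0, 0, 64] ∧
    (List.range 6).map (fun c => tD.cls.countP (· == c)) = [1, 35, 40, 20, 0, 64] := by decide +kernel

theorem cls_lt : (tE.cls ++ tP.cls ++ t5.cls ++ tD.cls).all (fun c => decide (c < 6)) = true := by
  decide +kernel

theorem gens_le : tE.gens.all (tP.gens.contains ·) = true ∧ tE.gens.all (t5.gens.contains ·) = true := by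
  decide +kernel

theorem rep_facts : reps.getD 0 oneC = oneC ∧ reps.all chk = true ∧ chk sqConj = true ∧
    eq4 (mC (reps.getD 4 oneC) (reps.getD 4 oneC)) (reps.getD 3 oneC) = true ∧
    eq4 (mC (reps.getD 3 oneC) (reps.getD 3 oneC)) (reps.getD 1 oneC) = true ∧
    eq4 (mC (reps.getD 1 oneC) (reps.getD 1 oneC)) oneC = true ∧
    eq4 (mC sqConj (mC (reps.getD 2 oneC) (reps.getD 2 oneC))) (mC (reps.getD 1 oneC) sqConj) = true ∧
    eq4 (powC (reps.getD 5 oneC) 5) oneC = true := by decide +kernel

theorem rep_noncentral : ([1, 5].all fun k => tests.any fun t =>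
    chk t && mC (reps.getD k oneC) t != mC t (reps.getD k oneC)) = true := by decide +kernel

end CfsgLib.E8Three.Small.U43
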